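import Cfsg.Agent.OreChev.Gauss

/-!
# Squares of conjugacy classes from a triangular decomposition

`z * s` is an element of a subgroup `L` extended by an element `z` centralising `L`, acting without
fixed points on two subgroups `Um`, `Up` normalised by `L`.  If every element outside `N` has a
conjugate `v * m * u` with `m` a product of conjugates of `s` and `s⁻¹` in `L`, and `z * s` is conjugate
to its inverse, then the class of `z * s` squares to everything modulo `N`.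
-/

set_option autoImplicit false

namespace CfsgLib.ClassSquare

/-- The hypotheses. -/
structure Frame (G : Type*) [Group G] where
  Um : Subgroup G
  Up : Subgroup G
  L : Subgroup G
  z : G
  s : G
  s_mem : s ∈ L
  z_comm : ∀ l ∈ L, z * l = l * z
  norm_m : ∀ l ∈ L, ∀ v ∈ Um, l * v * l⁻¹ ∈ Um
  norm_p : ∀ l ∈ L, ∀ v ∈ Up, l * v * l⁻¹ ∈ Up
  z_norm_m : ∀ v ∈ Um, z * v * z⁻¹ ∈ Um
  z_norm_p : ∀ v ∈ Up, z * v * z⁻¹ ∈ Up
  fix_m : ∀ v ∈ Um, z * s * v = v * (z * s) → v = 1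
  fix_p : ∀ v ∈ Up, z * s * v = v * (z * s) → v = 1
  real : ∃ y, (z * s)⁻¹ = y * (z * s) * y⁻¹

namespace Frame

variable {G : Type*} [Group G] [Finite G] (S : Frame G)

/-- The elements having a conjugate with a prescribed decomposition. -/
def Splits (g : G) : Prop :=
  ∃ y : G, ∃ v ∈ S.Um, ∃ P ∈ S.L, ∃ R ∈ S.L, ∃ u ∈ S.Up,
    y * g * y⁻¹ = v * (P * S.s * P⁻¹ * (R * S.s⁻¹ * R⁻¹)) * u

theorem exists_product {g : G} (hg : S.Splits g) :
    ∃ x y : G, g = (x * (S.z * S.s) * x⁻¹) * (y * (S.z * S.s) * y⁻¹) := by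
  obtain ⟨t, v, hv, P, hP, R, hR, u, hu, e⟩ := hg
  set c := S.z * S.s with hc
  have hnc : ∀ w ∈ S.Um, c * w * c⁻¹ ∈ S.Um := fun w hw => by
    have := S.z_norm_m _ (S.norm_m _ S.s_mem w hw)
    simpa [hc, mul_assoc] using this
  have hv' : P⁻¹ * v * P ∈ S.Um := by simpa using S.norm_m _ (inv_mem hP) v hv
  obtain ⟨a, -, ea⟩ := Chev.exists_conj_mul_left S.Um hnc S.fix_m hv'
  have hncp : ∀ w ∈ S.Up, c⁻¹⁻¹ * w * c⁻¹ ∈ S.Up := fun w hw => by
    have := S.z_norm_p _ (S.norm_p _ S.s_mem w hw)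
    simpa [hc, mul_assoc] using this
  have hfp : ∀ w ∈ S.Up, c⁻¹ * w = w * c⁻¹ → w = 1 := fun w hw h => S.fix_p w hw (by
    calc c * w = c * (w * c⁻¹) * c := by group
      _ = c * (c⁻¹ * w) * c := by rw [h]
      _ = w * c := by group)
  have hu' : R⁻¹ * u * R ∈ S.Up := by simpa using S.norm_p _ (inv_mem hR) u hu
  obtain ⟨b, -, eb⟩ := Chev.exists_conj_mul_right S.Up hncp hfp hu'
  obtain ⟨y₀, hy₀⟩ := S.real
  refine ⟨t⁻¹ * P * a, t⁻¹ * R * b * y₀, ?_⟩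
  have hzz : P * S.s * P⁻¹ * (R * S.s⁻¹ * R⁻¹) = P * c * P⁻¹ * (R * c⁻¹ * R⁻¹) := by
    have e1 : P * c * P⁻¹ = S.z * (P * S.s * P⁻¹) := by
      simp only [hc, ← mul_assoc, S.z_comm P hP]
    have h' : R * S.s⁻¹ * R⁻¹ ∈ S.L := mul_mem (mul_mem hR (inv_mem S.s_mem)) (inv_mem hR)
    have e2 : R * c⁻¹ * R⁻¹ = S.z⁻¹ * (R * S.s⁻¹ * R⁻¹) := by
      have hRc : R * c * R⁻¹ = S.z * (R * S.s * R⁻¹) := by
        simp only [hc, ← mul_assoc, S.z_comm R hR]
      have hz2 := S.z_comm _ h'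
      calc R * c⁻¹ * R⁻¹ = (R * c * R⁻¹)⁻¹ := by group
        _ = (R * S.s⁻¹ * R⁻¹) * S.z⁻¹ := by rw [hRc]; group
        _ = S.z⁻¹ * (S.z * (R * S.s⁻¹ * R⁻¹)) * S.z⁻¹ := by group
        _ = _ := by rw [hz2]; group
    have h3 : P * S.s * P⁻¹ ∈ S.L := mul_mem (mul_mem hP S.s_mem) (inv_mem hP)
    rw [e1, e2, S.z_comm _ h3]
    group
  rw [show c⁻¹ = y₀ * c * y₀⁻¹ from hy₀] at eb
  calc g = t⁻¹ * (t * g * t⁻¹) * t := by group
    _ = t⁻¹ * (P * (P⁻¹ * v * P * c) * P⁻¹ * (R * (c⁻¹ * (R⁻¹ * u * R)) * R⁻¹)) * t := by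
      rw [e, hzz]; group
    _ = _ := by
      rw [ea, show c⁻¹ * (R⁻¹ * u * R) = b * (y₀ * c * y₀⁻¹) * b⁻¹ by rw [← eb, hy₀]]
      group

/-- The square of the class of `z * s` covers every quotient by a subgroup outside of which all
elements split. -/
theorem covers {H : Type*} [Group H] (π : G →* H) (hπ : Function.Surjective π)
    (h : ∀ g : G, π g ≠ 1 → S.Splits g) :
    ∃ c : H, ∀ g : H, ∃ x y : H, g = (x * c * x⁻¹) * (y * c * y⁻¹) := by
  refine ⟨π (S.z * S.s), fun g => ?_⟩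
  by_cases hg : g = 1
  · obtain ⟨y, hy⟩ := S.real
    refine ⟨1, π y, ?_⟩
    rw [hg, ← map_inv, ← map_mul, ← map_mul, ← hy, map_inv]
    group
  · obtain ⟨g, rfl⟩ := hπ g
    obtain ⟨x, y, e⟩ := S.exists_product (h g hg)
    exact ⟨π x, π y, by simp only [← map_inv, ← map_mul, ← e]⟩

end Frame

end CfsgLib.ClassSquare
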