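import Cfsg.Agent.OreChev.Moves
import Cfsg.Agent.OreChev.TwistedCell
import Cfsg.Agent.Chev.CoxeterW

/-!
The big cell of a Chevalley group through an arbitrary longest element, which need not invert the
fundamental roots one by one.
-/

set_option autoImplicit false
set_option linter.unusedSectionVars false

namespace CfsgLib.ClassSquare.Exc

open Cfsg.Lie Matrix CfsgLib.Chev CfsgLib.Chev.Tab
open scoped MatrixGroups

/-- A word for the longest element and its action on the fundamental roots. -/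
structure Long {D : ChevalleyDatum} (T : Tab D) where
  L : List (Fin D.rank)
  π : Fin D.rank → Fin D.rank
  flip : ∀ s : Fin D.nroots, IsPos D s.val ↔ ¬ IsPos D (T.wordT (L.map Fin.val) s.val)
  simple : ∀ i : Fin D.rank, T.wordT (L.map Fin.val) (D.simple (π i)) = negR D (D.simple i)

variable {D : ChevalleyDatum} {T : Tab D} (G : T.Good) (W : Long T) {F : Type*} [Field F]

/-- The longest element. -/
noncomputable def n0 (F : Type*) [Field F] : GL D.Idx F := G.full.nw F W.L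

theorem n0_act : G.full.RootAct (n0 G W F) (G.full.pw W.L) := G.rootAct_nw _

theorem n0_mem_monomial : n0 G W F ∈ D.monomialSubgroup F := G.nw_mem_monomial _

theorem n0_mem : n0 G W F ∈ D.group F := G.monomial_le_group (n0_mem_monomial G W)

theorem inv_x (s : Fin D.nroots) (t : F) :
    ∃ t' : F, (n0 G W F)⁻¹ * G.full.x (T.wordT (W.L.map Fin.val) s.val) t * n0 G W F =
      G.full.x s.val t' := by
  obtain ⟨c, hc⟩ := n0_act G W (F := F)
  refine ⟨(((c s)⁻¹ : Fˣ) : F) * t, ?_⟩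
  have e := (hc s).2.2.2 ((((c s)⁻¹ : Fˣ) : F) * t)
  rw [← mul_assoc (c s : F), Units.mul_inv, one_mul, G.pw_apply] at e
  rw [← e]; group

theorem conj_n0 {S S' : Set ℕ} (h : ∀ s ∈ S, s < D.nroots ∧ T.wordT (W.L.map Fin.val) s ∈ S')
    {u : GL D.Idx F} (hu : u ∈ G.US F S) : n0 G W F * u * (n0 G W F)⁻¹ ∈ G.US F S' :=
  G.conj_x_act (n0_act G W) (fun s hs => ⟨(h s hs).1, by rw [G.pw_apply]; exact (h s hs).2⟩) hu

theorem conj_n0_inv {S S' : Set ℕ}
    (h : ∀ r ∈ S, ∃ s : Fin D.nroots, T.wordT (W.L.map Fin.val) s.val = r ∧ s.val ∈ S')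
    {u : GL D.Idx F} (hu : u ∈ G.US F S) : (n0 G W F)⁻¹ * u * n0 G W F ∈ G.US F S' := by
  have := G.conj_US (S' := S') (n0 G W F)⁻¹ (fun r hr t => by
    obtain ⟨s, hs, hs'⟩ := h r hr
    obtain ⟨t', e⟩ := inv_x G W s t
    rw [inv_inv, ← hs, e]
    exact G.x_mem_US hs' _) hu
  simpa using this

include G in
theorem exists_preimage {r : ℕ} (hr : r < D.nroots) :
    ∃ s : Fin D.nroots, T.wordT (W.L.map Fin.val) s.val = r :=
  ⟨(G.full.pw W.L).symm ⟨r, hr⟩, by rw [← G.pw_apply, Equiv.apply_symm_apply]⟩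

theorem neg_to_pos {v : GL D.Idx F} (hv : v ∈ D.negUnipotent F) :
    (n0 G W F)⁻¹ * v * n0 G W F ∈ D.posUnipotent F := by
  rw [G.negUnipotent_eq] at hv
  rw [G.posUnipotent_eq]
  refine conj_n0_inv G W (fun r hr => ?_) hv
  obtain ⟨s, hs⟩ := exists_preimage G W hr.1
  exact ⟨s, hs, (W.flip s).mpr (by rw [hs]; exact fun h => hr.2 h.2)⟩

theorem pos_to_neg {u : GL D.Idx F} (hu : u ∈ D.posUnipotent F) :
    n0 G W F * u * (n0 G W F)⁻¹ ∈ D.negUnipotent F := by
  rw [G.posUnipotent_eq] at hu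
  rw [G.negUnipotent_eq]
  refine conj_n0 G W (fun s hs => ?_) hu
  refine ⟨hs.1, ?_, fun h => ?_⟩
  · rw [← G.pw_apply W.L ⟨s, hs.1⟩]; exact Fin.isLt _
  · refine (W.flip ⟨s, hs.1⟩).mp hs ⟨?_, h⟩
    rw [← G.pw_apply W.L ⟨s, hs.1⟩]; exact Fin.isLt _

include W in
theorem neg_split (i : Fin D.rank) {v : GL D.Idx F} (hv : v ∈ D.negUnipotent F) :
    ∃ a ∈ G.US F (negUpSet D i), ∃ w : F, v = a * G.full.x (negR D (D.simple i)) w := by
  obtain ⟨a, ha, t, e⟩ := G.pos_split_simple (W.π i) (neg_to_pos G W hv)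
  obtain ⟨c, hc⟩ := n0_act G W (F := F)
  set s : Fin D.nroots := ⟨D.simple (W.π i), G.full.simple_lt (W.π i).isLt⟩
  refine ⟨n0 G W F * a * (n0 G W F)⁻¹, ?_, (c s : F) * t, ?_⟩
  · refine conj_n0 G W (fun r hr => ?_) ha
    refine ⟨hr.1.1, ?_, ?_, fun h => hr.2 ?_⟩
    · rw [← G.pw_apply W.L ⟨r, hr.1.1⟩]; exact Fin.isLt _
    · exact (W.flip ⟨r, hr.1.1⟩).mp hr.1
    · rw [← W.simple i] at h
      rw [← G.pw_apply W.L ⟨r, hr.1.1⟩, ← G.pw_apply W.L s] at h
      exact congrArg Fin.val ((G.full.pw W.L).injective (Fin.ext h))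
  · have e1 : n0 G W F * G.full.x (D.simple (W.π i)) t * (n0 G W F)⁻¹ =
        G.full.x (negR D (D.simple i)) ((c s : F) * t) := by
      have := (hc s).2.2.2 t
      rwa [G.pw_apply, show T.wordT (W.L.map Fin.val) s.val = negR D (D.simple i) from W.simple i]
        at this
    calc v = n0 G W F * ((n0 G W F)⁻¹ * v * n0 G W F) * (n0 G W F)⁻¹ := by group
      _ = n0 G W F * a * (n0 G W F)⁻¹ *
          (n0 G W F * G.full.x (D.simple (W.π i)) t * (n0 G W F)⁻¹) := by rw [e]; group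
      _ = _ := by rw [e1]

include W in
theorem x_conj_negUp (i : Fin D.rank) {r : ℕ} (hr : r = D.simple i ∨ r = negR D (D.simple i))
    (t : F) {a : GL D.Idx F} (ha : a ∈ G.US F (negUpSet D i)) :
    G.full.x r t * a * (G.full.x r t)⁻¹ ∈ G.US F (negUpSet D i) := by
  set s : Fin D.nroots := ⟨D.simple (W.π i), G.full.simple_lt (W.π i).isLt⟩
  have hs1 : T.wordT (W.L.map Fin.val) s.val = negR D (D.simple i) := W.simple i
  have hs2 : T.wordT (W.L.map Fin.val) (negF s).val = D.simple i := by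
    rw [← G.pw_apply, G.negF_pw]
    show negR D (G.full.pw W.L s).val = _
    rw [G.pw_apply, hs1, Cert.negR_negR (G.full.simple_lt i.isLt)]
  have hb : (n0 G W F)⁻¹ * a * n0 G W F ∈
      G.US F {m | IsPos D m ∧ m ≠ D.simple (W.π i)} := by
    refine conj_n0_inv G W (fun m hm => ?_) ha
    obtain ⟨l, hl⟩ := exists_preimage G W hm.1
    refine ⟨l, hl, (W.flip l).mpr (by rw [hl]; exact hm.2.1), fun h => hm.2.2 ?_⟩
    rw [← hl, show l = s from Fin.ext h, hs1]
  obtain ⟨t', hz⟩ : ∃ t' : F, (n0 G W F)⁻¹ * G.full.x r t * n0 G W F =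
      G.full.x s.val t' ∨ (n0 G W F)⁻¹ * G.full.x r t * n0 G W F = G.full.x (negF s).val t' := by
    rcases hr with rfl | rfl
    · obtain ⟨t', e⟩ := inv_x G W (negF s) t
      rw [hs2] at e
      exact ⟨t', Or.inr e⟩
    · obtain ⟨t', e⟩ := inv_x G W s t
      rw [hs1] at e
      exact ⟨t', Or.inl e⟩
  have key : ((n0 G W F)⁻¹ * G.full.x r t * n0 G W F) * ((n0 G W F)⁻¹ * a * n0 G W F) *
      ((n0 G W F)⁻¹ * G.full.x r t * n0 G W F)⁻¹ ∈
        G.US F {m | IsPos D m ∧ m ≠ D.simple (W.π i)} := by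
    rcases hz with hz | hz <;> rw [hz]
    · exact G.x_simple_conj_Up (W.π i) t' hb
    · exact G.x_neg_simple_conj_Up (W.π i) t' hb
  have back := conj_n0 G W (S' := negUpSet D i) (fun m hm => ⟨hm.1.1, by
    refine ⟨?_, (W.flip ⟨m, hm.1.1⟩).mp hm.1, fun h => hm.2 ?_⟩
    · rw [← G.pw_apply W.L ⟨m, hm.1.1⟩]; exact Fin.isLt _
    · rw [← W.simple i, ← G.pw_apply W.L ⟨m, hm.1.1⟩, ← G.pw_apply W.L s] at h
      exact congrArg Fin.val ((G.full.pw W.L).injective (Fin.ext h))⟩) key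
  convert back using 1
  group

include W in
theorem hom_conj_negUp (i : Fin D.rank) (g : SL(2, F)) {a : GL D.Idx F}
    (ha : a ∈ G.US F (negUpSet D i)) :
    (G.rankOne F i).hom g * a * ((G.rankOne F i).hom g)⁻¹ ∈ G.US F (negUpSet D i) := by
  set K : Subgroup (GL D.Idx F) :=
    { carrier := {y | ∀ a ∈ G.US F (negUpSet D i),
        y * a * y⁻¹ ∈ G.US F (negUpSet D i) ∧ y⁻¹ * a * y ∈ G.US F (negUpSet D i)}
      one_mem' := fun a ha => by simp [ha]
      mul_mem' := fun {y z} hy hz a ha => by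
        refine ⟨?_, ?_⟩
        · simpa [mul_assoc] using (hy _ (hz a ha).1).1
        · simpa [mul_assoc] using (hz _ (hy a ha).2).2
      inv_mem' := fun {y} hy a ha => by simpa [and_comm] using hy a ha }
  have hx : ∀ {r : ℕ}, r = D.simple i ∨ r = negR D (D.simple i) → ∀ t, G.full.x r t ∈ K :=
    fun hr t a ha => ⟨x_conj_negUp G W i hr t ha, by
      simpa [G.full.x_inv] using x_conj_negUp G W i hr (-t) ha⟩
  exact (G.hom_mem_of_x i (hx (Or.inl rfl)) (hx (Or.inr rfl)) g a ha).1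

include W in
theorem x_neg_mul_bigSet (i : Fin D.rank) (s : F) {u v b : GL D.Idx F}
    (hu : u ∈ D.posUnipotent F) (hv : v ∈ D.negUnipotent F) (hb : b ∈ D.borelSubgroup F) :
    ∃ u' ∈ D.posUnipotent F, ∃ v' ∈ D.negUnipotent F, ∃ b' ∈ D.borelSubgroup F,
      G.full.x (negR D (D.simple i)) s * (u * v * b) = u' * v' * b' := by
  obtain ⟨a, ha, t, rfl⟩ := G.pos_split_simple i hu
  obtain ⟨V, hV, w, rfl⟩ := neg_split G W i hv
  set y := G.full.x (negR D (D.simple i)) s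
  set X := G.full.x (D.simple i) t
  have ha' := G.x_neg_simple_conj_Up i s ha
  have hV1 := x_conj_negUp G W i (Or.inl rfl) t hV
  have hV2 := x_conj_negUp G W i (Or.inr rfl) s hV1
  set φ := (G.rankOne F i).hom with hφ
  set l := eL s * RankOne.eX t * eL w with hl
  have e0 : y * (a * X * (V * G.full.x (negR D (D.simple i)) w) * b) =
      (y * a * y⁻¹) * (y * (X * V * X⁻¹) * y⁻¹) * φ l * b := by
    rw [hl, map_mul, map_mul, hφ, G.hom_eX, G.hom_eL, G.hom_eL]
    show _ = _ * _ * (y * X * _) * b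
    group
  rw [e0]
  have haU : y * a * y⁻¹ ∈ D.posUnipotent F := G.Up_le_pos i ha'
  by_cases hc : l 1 0 = 0
  · have hlB : φ l ∈ D.borelSubgroup F := by
      show (G.rankOne F i).phi l ∈ _
      rw [RankOne.phi_zero _ hc]
      have h00 : l 0 0 ≠ 0 := fun h => by simpa [h, hc] using RankOne.det_eq l
      obtain ⟨d, hd⟩ := G.hr_simple_mem (F := F) i h00
      refine mul_mem ?_ (Tab.Good.pos_le_borel G (G.x_mem_pos (G.pos_simp i) _))
      show G.full.hr (D.simple i) (l 0 0) ∈ _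
      rw [hd]
      exact G.borel_hT d
    exact ⟨_, haU, _, G.negUp_le_neg i hV2, φ l * b, mul_mem hlB hb, by simp only [y, X]; group⟩
  · obtain ⟨p, q, M, hM, el⟩ := sl2_ulu l hc
    rw [el, map_mul, map_mul, hφ, G.hom_eX, G.hom_eX, G.rankOne_hom_lower i M _ hM]
    have hV3 := x_conj_negUp G W i (Or.inl rfl) (-p) hV2
    refine ⟨y * a * y⁻¹ * G.full.x (D.simple i) p, mul_mem haU (G.x_mem_pos (G.pos_simp i) p),
      _, mul_mem (G.negUp_le_neg i hV3) (G.x_mem_neg (Cert.negR_lt (G.full.simple_lt i.isLt))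
        (fun h => G.negR_pos (G.pos_simp i) h.2) (l 1 0)),
      G.full.x (D.simple i) q * b, mul_mem (Tab.Good.pos_le_borel G (G.x_mem_pos (G.pos_simp i) q)) hb, ?_⟩
    rw [← G.full.x_inv (D.simple i) p]
    simp only [y, X]
    group

/-- `g` has a conjugate in the big cell with torus part `c`. -/
def Cell (g : GL D.Idx F) (c : Fin D.rank → Fˣ) : Prop :=
  ∃ y ∈ D.group F, ∃ v ∈ D.negUnipotent F, ∃ u ∈ D.posUnipotent F,
    y * g * y⁻¹ = v * T.hT F c * u

include G W in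
/-- Every element is conjugate into the big cell. -/
theorem exists_cell {g : GL D.Idx F} (hg : g ∈ D.group F) : ∃ c, Cell (T := T) g c := by
  let S : Set (GL D.Idx F) :=
    {z | ∃ u ∈ D.posUnipotent F, ∃ v ∈ D.negUnipotent F, ∃ b ∈ D.borelSubgroup F, z = u * v * b}
  let K : Subgroup (GL D.Idx F) :=
    { carrier := {z | ∀ y ∈ S, z * y ∈ S ∧ z⁻¹ * y ∈ S}
      one_mem' := fun y hy => by simp [hy]
      mul_mem' := fun {a c} ha hc y hy => ⟨by
        simpa [mul_assoc] using (ha _ (hc y hy).1).1, by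
        simpa [mul_assoc] using (hc _ (ha y hy).2).2⟩
      inv_mem' := fun {a} ha y hy => by simpa [and_comm] using ha y hy }
  have hUK : D.posUnipotent F ≤ K := by
    rintro z hz _ ⟨u, hu, v, hv, b, hb, rfl⟩
    exact ⟨⟨z * u, mul_mem hz hu, v, hv, b, hb, by group⟩,
      ⟨z⁻¹ * u, mul_mem (inv_mem hz) hu, v, hv, b, hb, by group⟩⟩
  have hyK : ∀ (i : Fin D.rank) (t : F), G.full.x (negR D (D.simple i)) t ∈ K := by
    rintro i t _ ⟨u, hu, v, hv, b, hb, rfl⟩
    refine ⟨x_neg_mul_bigSet G W i t hu hv hb, ?_⟩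
    rw [G.full.x_inv]
    exact x_neg_mul_bigSet G W i (-t) hu hv hb
  have hle : D.group F ≤ K := G.group_le_of_simple
    (fun i t => hUK (G.x_mem_pos (G.pos_simp i) t))
    (fun i t => by rw [G.full.cert.neg_eq (G.full.simple_lt i.isLt)]; exact hyK i t)
  have h := ((hle hg) 1 ⟨1, one_mem _, 1, one_mem _, 1, one_mem _, by group⟩).1
  rw [mul_one] at h
  obtain ⟨u, hu, v, hv, b, hb, rfl⟩ := h
  obtain ⟨a, ha, c, rfl⟩ := G.mem_borel.mp hb
  refine ⟨c, u⁻¹, inv_mem (G.borel_le_group (Tab.Good.pos_le_borel G hu)), v, hv,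
    (T.hT F c)⁻¹ * a * T.hT F c * u, mul_mem ?_ hu, by group⟩
  have h := G.diagonal_le_normalizer_pos (inv_mem
    (show T.hT F c ∈ D.diagonalSubgroup F by rw [G.full.diagonal_eq_range]; exact ⟨c, rfl⟩))
  rw [Subgroup.mem_normalizer_iff] at h
  simpa using (h a).mp ha

include G W in
/-- Prescribing the torus part along a fundamental coroot. -/
theorem move [Fintype F] (h3 : 3 ≤ Fintype.card F) (i : Fin D.rank) {V a : GL D.Idx F}
    (hV : V ∈ G.US F (negUpSet D i)) (ha : a ∈ G.US F {s | IsPos D s ∧ s ≠ D.simple i})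
    (w q : F) (c : Fin D.rank → Fˣ) (hne : T.chi (D.simple i) c ≠ 1 ∨ w ≠ 0 ∨ q ≠ 0) (t : Fˣ)
    {g y : GL D.Idx F} (hy : y ∈ D.group F)
    (e : y * g * y⁻¹ = V * G.full.x (negR D (D.simple i)) w * T.hT F c *
      (G.full.x (D.simple i) q * a)) :
    Cell (T := T) g (Pi.mulSingle i t * c) := by
  obtain ⟨l, w', q', he⟩ := sl2_move h3 (G.rankOne F i).hom
    (fun g => G.hT_conj_hom i c g) w q hne t
  rw [G.hom_eL, G.hom_eX, G.hom_eL, G.hom_eH, G.hom_eX, ← map_mul] at he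
  set φ := (G.rankOne F i).hom
  have hl : φ l ∈ D.group F :=
    G.hom_mem_of_x i (fun r => G.x_mem_group _ r) (fun r => G.x_mem_group _ r) l
  refine ⟨φ l * y, mul_mem hl hy, φ l * V * (φ l)⁻¹ * G.full.x (negR D (D.simple i)) w',
    mul_mem (G.negUp_le_neg i (hom_conj_negUp G W i l hV))
      (G.x_mem_neg (Cert.negR_lt (G.full.simple_lt i.isLt))
        (fun h => G.negR_pos (G.pos_simp i) h.2) w'),
    G.full.x (D.simple i) q' * (φ l * a * (φ l)⁻¹),
    mul_mem (G.x_mem_pos (r := D.simple i) (G.pos_simp i) q')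
      (G.Up_le_pos i (G.hom_conj_Up i l ha)), ?_⟩
  calc φ l * y * g * (φ l * y)⁻¹ = φ l * (y * g * y⁻¹) * (φ l)⁻¹ := by group
    _ = (φ l * V * (φ l)⁻¹) * (φ l * (G.full.x (negR D (D.simple i)) w * T.hT F c *
          G.full.x (D.simple i) q) * (φ l)⁻¹) * (φ l * a * (φ l)⁻¹) := by rw [e]; group
    _ = _ := by rw [he]; group

end CfsgLib.ClassSquare.Exc
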