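import Cfsg.Agent.ClassSquare.ExcCell
import Cfsg.Agent.Chev.CentTorus
import Cfsg.Agent.Classical.Transvections
import Cfsg.Agent.An.Lift

/-!
A chain of fundamental roots: the numerical conditions and the homomorphism of the special linear
group onto its root subgroups.
-/

set_option autoImplicit false
set_option linter.unusedSectionVars false

namespace CfsgLib.ClassSquare.Exc

open Cfsg.Lie Matrix CfsgLib.Chev CfsgLib.Chev.Tab
open scoped MatrixGroups

variable {D : ChevalleyDatum}

/-- The value of a cocharacter on a root. -/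
def fv (T : Tab D) (v : Fin D.rank → ℤ) (r : ℕ) : ℤ := ∑ i : Fin D.rank, v i * T.cart i r

/-- The numerical data of a chain. -/
structure Chain {T : Tab D} (W : Long T) (k : ℕ) where
  v : Fin D.rank → ℤ
  fx : Fin D.rank → ℤ
  R : Fin (k + 2) → Fin (k + 2) → ℕ
  ε : Fin (k + 2) → Fin (k + 2) → ℤ
  j1 : Fin D.rank
  img : Fin (k + 1) → Fin (k + 1)
  bound : ∀ r : Fin D.nroots, IsPos D r.val → 0 ≤ fv T v r.val ∧ fv T v r.val ≤ 7
  negf : ∀ r : Fin D.nroots, fv T v (negR D r.val) = - fv T v r.val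
  flipf : ∀ r : Fin D.nroots, fv T v (T.wordT (W.L.map Fin.val) r.val) = - fv T v r.val
  root : ∀ i j : Fin (k + 2), i ≠ j → R i j < D.nroots ∧ fv T v (R i j) = 0 ∧
    (IsPos D (R i j) ↔ i < j) ∧
    fv T fx (R i j) = (if i = 0 then 1 else 0) - (if j = 0 then 1 else 0) ∧
    (ε i j = 1 ∨ ε i j = -1)
  cover : ∀ r : Fin D.nroots, fv T v r.val = 0 → ∃ i j : Fin (k + 2), i ≠ j ∧ R i j = r.val
  start : R 0 1 = D.simple j1 ∧ R 1 0 = negR D (D.simple j1) ∧ ε 0 1 = 1 ∧ ε 1 0 = 1
  swap : ∀ a : Fin (k + 1), T.wordT (W.L.map Fin.val) (R a.succ a.castSucc) =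
    R (img a).castSucc (img a).succ
  inj : Function.Injective img

/-- The commutation checks of a chain. -/
def chkRel (T : Tab D) {n : ℕ} (R : Fin n → Fin n → ℕ) (ε : Fin n → Fin n → ℤ) : Prop :=
  (∀ i j k l : Fin n, i ≠ j → k ≠ l → i ≠ l → j ≠ k →
    R k l = R i j ∨ (T.commT (R i j) (R k l) = [] ∧ R k l ≠ negR D (R i j))) ∧
  ∀ i j l : Fin n, i ≠ j → j ≠ l → i ≠ l →
    R j l ≠ R i j ∧ R i j ≠ negR D (R j l) ∧
      (T.commT (R j l) (R i j) = [(R i l, ε i l * ε i j * ε j l * (-1), 1, 1)])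

set_option synthInstance.maxSize 2000 in
instance (T : Tab D) {n : ℕ} (R : Fin n → Fin n → ℕ) (ε : Fin n → Fin n → ℤ) :
    Decidable (chkRel T R ε) := by unfold chkRel; infer_instance

variable {T : Tab D} {W : Long T} {k : ℕ} (C : Chain W k) (G : T.Good)
variable {F : Type*} [Field F]

theorem Chain.eps_sq (i j : Fin (k + 2)) (h : i ≠ j) : (C.ε i j : F) * (C.ε i j : F) = 1 := by
  rcases (C.root i j h).2.2.2.2 with e | e <;> simp [e]

/-- The root element at a position. -/
def Chain.X (i j : Fin (k + 2)) (t : F) : GL D.Idx F := G.full.x (C.R i j) ((C.ε i j : F) * t)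

theorem exists_phi [Finite F] (hk : 1 ≤ k) (h : chkRel T C.R C.ε) :
    ∃ φ : SpecialLinearGroup (Fin (k + 2)) F →* GL D.Idx F,
      ∀ i j (hij : i ≠ j) (t : F), φ (SpecialLinearGroup.transvection hij t) = C.X G i j t := by
  refine CfsgLib.An.exists_hom (n := k + 2) (by omega) (C.X G (F := F))
    (fun i j _ t u => by simp only [Chain.X]; rw [G.full.x_add, mul_add]) ?_ ?_
  · intro i j a b hij hab hib hja t u
    simp only [Chain.X]
    rcases h.1 i j a b hij hab hib hja with e | ⟨e, hn⟩
    · rw [e]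
      show _ * _ = _ * _
      rw [G.full.x_add, G.full.x_add, add_comm]
    · rcases eq_or_ne (C.R a b) (C.R i j) with e' | hne
      · rw [e']
        show _ * _ = _ * _
        rw [G.full.x_add, G.full.x_add, add_comm]
      have h1 := G.full.x_comm (C.root i j hij).1 (C.root a b hab).1 hne hn
        ((C.ε i j : F) * t) ((C.ε a b : F) * u)
      rw [G.full.cert.commWord_eq (C.root i j hij).1 (C.root a b hab).1, e] at h1
      simp only [rhsWord, List.map_nil, List.prod_nil, mul_one] at h1
      exact h1.symm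
  · intro i j l hij hjl hil t u
    obtain ⟨hne, hn, e⟩ := h.2 i j l hij hjl hil
    have hcomm : ∀ (a b : Fin (k + 2)), a ≠ b → i ≠ b → l ≠ a → ∀ v w : F,
        Commute (G.full.x (C.R i l) v) (G.full.x (C.R a b) w) := by
      intro a b hab hib hla v w
      rcases h.1 i l a b hil hab hib hla with e' | ⟨e', hn'⟩
      · rw [e']
        show _ * _ = _ * _
        rw [G.full.x_add, G.full.x_add, add_comm]
      · rcases eq_or_ne (C.R a b) (C.R i l) with e'' | hne'
        · rw [e'']
          show _ * _ = _ * _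
          rw [G.full.x_add, G.full.x_add, add_comm]
        have h1 := G.full.x_comm (C.root i l hil).1 (C.root a b hab).1 hne' hn' v w
        rw [G.full.cert.commWord_eq (C.root i l hil).1 (C.root a b hab).1, e'] at h1
        simp only [rhsWord, List.map_nil, List.prod_nil, mul_one] at h1
        exact h1.symm
    simp only [Chain.X]
    have h4 := G.full.x_comm (C.root j l hjl).1 (C.root i j hij).1 hne.symm hn
      ((C.ε j l : F) * u) ((C.ε i j : F) * t)
    rw [G.full.cert.commWord_eq (C.root j l hjl).1 (C.root i j hij).1, e] at h4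
    simp only [rhsWord, List.map_cons, List.map_nil, List.prod_cons, List.prod_nil, mul_one,
      pow_one] at h4
    rw [h4, show ∀ (p₁ p₂ w : GL D.Idx F), p₁ * p₂ * w * p₂⁻¹ * p₁⁻¹ =
      p₁ * (p₂ * w * p₂⁻¹) * p₁⁻¹ from fun _ _ _ => by group]
    rw [← (hcomm i j hij hij hil.symm _ _).eq, mul_inv_cancel_right,
      ← (hcomm j l hjl hil hjl.symm _ _).eq, mul_inv_cancel_right]
    refine congrArg (G.full.x _) ?_
    push_cast
    linear_combination ((C.ε i l : F) * t * u) * C.eps_sq (F := F) i j hij +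
      ((C.ε i l : F) * t * u * (C.ε i j : F) * (C.ε i j : F)) * C.eps_sq (F := F) j l hjl

/-- A chain of one root. -/
theorem exists_phi_one {W : Long T} (C : Chain W 0) :
    ∃ φ : SpecialLinearGroup (Fin 2) F →* GL D.Idx F,
      ∀ i j (hij : i ≠ j) (t : F), φ (SpecialLinearGroup.transvection hij t) = C.X G i j t := by
  refine ⟨(G.rankOne F C.j1).hom, fun i j hij t => ?_⟩
  obtain ⟨h1, h2, h3, h4⟩ := C.start
  fin_cases i <;> fin_cases j
  · exact absurd rfl hij
  · show _ = G.full.x (C.R 0 1) ((C.ε 0 1 : F) * t)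
    rw [h1, h3, Int.cast_one, one_mul, ← G.hom_eX]
    congr 1
    apply Subtype.ext
    rw [CfsgLib.Linear.transvec_coe, RankOne.coe_eX]
    ext a b
    fin_cases a <;> fin_cases b <;> simp [Matrix.transvection]
  · show _ = G.full.x (C.R 1 0) ((C.ε 1 0 : F) * t)
    rw [h2, h4, Int.cast_one, one_mul, ← G.hom_eL]
    congr 1
    apply Subtype.ext
    rw [CfsgLib.Linear.transvec_coe, coe_eL]
    ext a b
    fin_cases a <;> fin_cases b <;> simp [Matrix.transvection]
  · exact absurd rfl hij

end CfsgLib.ClassSquare.Exc
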