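import Cfsg.Agent.ClassSquare.ExcMain
import Cfsg.Agent.Chev.GoodAll

/-!
The numerical data of the chain of type E6 and the square of a conjugacy class in that group.
-/

set_option autoImplicit false
set_option maxRecDepth 100000

namespace CfsgLib.ClassSquare.Exc.E6Chain

open Cfsg.Lie Matrix CfsgLib.Chev CfsgLib.Chev.Tab

/-- The longest element. -/
def long : Long E6Data.tab where
  L := ([0, 1, 2, 0, 3, 1, 2, 0, 3, 2, 4, 3, 1, 2, 0, 3, 2, 4, 3, 1, 5, 4, 3, 1, 2, 0, 3, 2, 4, 3, 1, 5, 4, 3, 2, 0] : List (Fin 6))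
  π := (![5, 1, 4, 3, 2, 0] : Fin 6 → Fin 6)
  flip := by decide +kernel
  simple := by decide +kernel

/-- The tree of nodes. -/
def tree : Tree E6Data.tab where
  root := (3 : Fin 6)
  order := ([(0, 2), (1, 3), (2, 3), (5, 4), (4, 3)] : List (Fin 6 × Fin 6))
  ok := by decide +kernel
  all := by decide +kernel
  deg := by decide +kernel

/-- The chain. -/
def chain : Chain long 2 where
  v := ![3, 4, 5, 7, 5, 3]
  fx := ![1, 1, 2, 2, 1, 0]
  R := ![![0, 42, 43, 44], ![29, 0, 39, 40], ![28, 32, 0, 37], ![27, 31, 34, 0]]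
  ε := ![![1, 1, (-1), 1], ![1, 1, 1, (-1)], ![(-1), 1, 1, 1], ![1, (-1), 1, 1]]
  j1 := (2 : Fin 6)
  img := ![2, 1, 0]
  bound := by decide +kernel
  negf := by decide +kernel
  flipf := by decide +kernel
  root := by decide +kernel
  cover := by decide +kernel
  start := by decide +kernel
  swap := by decide +kernel
  inj := by unfold Function.Injective; decide +kernel

theorem rel : chkRel E6Data.tab chain.R chain.ε := by decide +kernel

theorem class_square {F : Type*} [Field F] [Fintype F] (hq : 9 ≤ Fintype.card F) :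
    ∃ c : ↥(chevE6.group F), ∀ g : ↥(chevE6.group F),
      ∃ x y, g = (x * c * x⁻¹) * (y * c * y⁻¹) := by
  obtain ⟨φ, hφ⟩ := exists_phi chain good_E6 (by omega) rel (F := F)
  exact Exc.class_square chain good_E6 φ hφ hq tree

end CfsgLib.ClassSquare.Exc.E6Chain
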