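import Cfsg.Agent.ClassSquare.ExcMain
import Cfsg.Agent.Chev.GoodAll

/-!
The numerical data of the chain of type E7 and the square of a conjugacy class in that group.
-/

set_option autoImplicit false
set_option maxRecDepth 100000

namespace CfsgLib.ClassSquare.Exc.E7Chain

open Cfsg.Lie Matrix CfsgLib.Chev CfsgLib.Chev.Tab

/-- The longest element. -/
def long : Long E7Data.tab where
  L := ([0, 1, 2, 0, 3, 1, 2, 0, 3, 2, 4, 3, 1, 2, 0, 3, 2, 4, 3, 1, 5, 4, 3, 1, 2, 0, 3, 2, 4, 3, 1, 5, 4, 3, 2, 0, 6, 5, 4, 3, 1, 2, 0, 3, 2, 4, 3, 1, 5, 4, 3, 2, 0, 6, 5, 4, 3, 1, 2, 3, 4, 5, 6] : List (Fin 7))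
  π := (![0, 1, 2, 3, 4, 5, 6] : Fin 7 → Fin 7)
  flip := by decide +kernel
  simple := by decide +kernel

/-- The tree of nodes. -/
def tree : Tree E7Data.tab where
  root := (3 : Fin 7)
  order := ([(0, 2), (1, 3), (2, 3), (6, 5), (5, 4), (4, 3)] : List (Fin 7 × Fin 7))
  ok := by decide +kernel
  all := by decide +kernel
  deg := by decide +kernel

/-- The chain. -/
def chain : Chain long 5 where
  v := ![4, 7, 8, 12, 9, 6, 3]
  fx := ![2, 2, 3, 4, 3, 2, 1]
  R := ![![0, 93, 94, 95, 96, 97, 98], ![32, 0, 73, 74, 75, 76, 77], ![31, 52, 0, 69, 70, 71, 72], ![30, 51, 56, 0, 66, 67, 68], ![29, 50, 55, 59, 0, 64, 65], ![28, 49, 54, 58, 61, 0, 63], ![27, 48, 53, 57, 60, 62, 0]]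
  ε := ![![1, 1, (-1), 1, (-1), 1, (-1)], ![1, 1, 1, (-1), 1, (-1), 1], ![(-1), 1, 1, 1, (-1), 1, (-1)], ![1, (-1), 1, 1, 1, (-1), 1], ![(-1), 1, (-1), 1, 1, 1, (-1)], ![1, (-1), 1, (-1), 1, 1, 1], ![(-1), 1, (-1), 1, (-1), 1, 1]]
  j1 := (0 : Fin 7)
  img := ![0, 1, 2, 3, 4, 5]
  bound := by decide +kernel
  negf := by decide +kernel
  flipf := by decide +kernel
  root := by decide +kernel
  cover := by decide +kernel
  start := by decide +kernel
  swap := by decide +kernel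
  inj := by unfold Function.Injective; decide +kernel

theorem rel : chkRel E7Data.tab chain.R chain.ε := by decide +kernel

theorem class_square {F : Type*} [Field F] [Fintype F] (hq : 9 ≤ Fintype.card F) :
    ∃ c : ↥(chevE7.group F), ∀ g : ↥(chevE7.group F),
      ∃ x y, g = (x * c * x⁻¹) * (y * c * y⁻¹) := by
  obtain ⟨φ, hφ⟩ := exists_phi chain good_E7 (by omega) rel (F := F)
  exact Exc.class_square chain good_E7 φ hφ hq tree

end CfsgLib.ClassSquare.Exc.E7Chain
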