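import Cfsg.Agent.ClassSquare.ExcMain
import Cfsg.Agent.Chev.GoodAll

/-!
The numerical data of the chain of type E8 and the square of a conjugacy class in that group.
-/

set_option autoImplicit false
set_option maxRecDepth 100000

namespace CfsgLib.ClassSquare.Exc.E8Chain

open Cfsg.Lie Matrix CfsgLib.Chev CfsgLib.Chev.Tab

/-- The longest element. -/
def long : Long E8Data.tab where
  L := ([0, 1, 2, 0, 3, 1, 2, 0, 3, 2, 4, 3, 1, 2, 0, 3, 2, 4, 3, 1, 5, 4, 3, 1, 2, 0, 3, 2, 4, 3, 1, 5, 4, 3, 2, 0, 6, 5, 4, 3, 1, 2, 0, 3, 2, 4, 3, 1, 5, 4, 3, 2, 0, 6, 5, 4, 3, 1, 2, 3, 4, 5, 6, 7, 6, 5, 4, 3, 1, 2, 0, 3, 2, 4, 3, 1, 5, 4, 3, 2, 0, 6, 5, 4, 3, 1, 2, 3, 4, 5, 6, 7, 6, 5, 4, 3, 1, 2, 0, 3, 2, 4, 3, 1, 5, 4, 3, 2, 0, 6, 5, 4, 3, 1, 2, 3, 4, 5, 6, 7] : List (Fin 8))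
  π := (![0, 1, 2, 3, 4, 5, 6, 7] : Fin 8 → Fin 8)
  flip := by decide +kernel
  simple := by decide +kernel

/-- The tree of nodes. -/
def tree : Tree E8Data.tab where
  root := (3 : Fin 8)
  order := ([(0, 2), (1, 3), (2, 3), (7, 6), (6, 5), (5, 4), (4, 3)] : List (Fin 8 × Fin 8))
  ok := by decide +kernel
  all := by decide +kernel
  deg := by decide +kernel

/-- The chain. -/
def chain : Chain long 6 where
  v := ![5, 8, 10, 15, 12, 9, 6, 3]
  fx := ![4, 5, 7, 10, 8, 6, 4, 2]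
  R := ![![0, 162, 163, 164, 165, 166, 167, 168], ![77, 0, 135, 136, 137, 138, 139, 140], ![76, 104, 0, 130, 131, 132, 133, 134], ![75, 103, 109, 0, 126, 127, 128, 129], ![74, 102, 108, 113, 0, 123, 124, 125], ![73, 101, 107, 112, 116, 0, 121, 122], ![72, 100, 106, 111, 115, 118, 0, 120], ![71, 99, 105, 110, 114, 117, 119, 0]]
  ε := ![![1, 1, (-1), 1, (-1), 1, (-1), 1], ![1, 1, 1, (-1), 1, (-1), 1, (-1)], ![(-1), 1, 1, 1, (-1), 1, (-1), 1], ![1, (-1), 1, 1, 1, (-1), 1, (-1)], ![(-1), 1, (-1), 1, 1, 1, (-1), 1], ![1, (-1), 1, (-1), 1, 1, 1, (-1)], ![(-1), 1, (-1), 1, (-1), 1, 1, 1], ![1, (-1), 1, (-1), 1, (-1), 1, 1]]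
  j1 := (0 : Fin 8)
  img := ![0, 1, 2, 3, 4, 5, 6]
  bound := by decide +kernel
  negf := by decide +kernel
  flipf := by decide +kernel
  root := by decide +kernel
  cover := by decide +kernel
  start := by decide +kernel
  swap := by decide +kernel
  inj := by unfold Function.Injective; decide +kernel

theorem rel : chkRel E8Data.tab chain.R chain.ε := by decide +kernel

theorem class_square {F : Type*} [Field F] [Fintype F] (hq : 9 ≤ Fintype.card F) :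
    ∃ c : ↥(chevE8.group F), ∀ g : ↥(chevE8.group F),
      ∃ x y, g = (x * c * x⁻¹) * (y * c * y⁻¹) := by
  obtain ⟨φ, hφ⟩ := exists_phi chain good_E8 (by omega) rel (F := F)
  exact Exc.class_square chain good_E8 φ hφ hq tree

end CfsgLib.ClassSquare.Exc.E8Chain
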