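import Cfsg.Agent.ClassSquare.ExcMain
import Cfsg.Agent.Chev.GoodAll

/-!
The numerical data of the chain of type F4 and the square of a conjugacy class in that group.
-/

set_option autoImplicit false
set_option maxRecDepth 100000

namespace CfsgLib.ClassSquare.Exc.F4Chain

open Cfsg.Lie Matrix CfsgLib.Chev CfsgLib.Chev.Tab

/-- The longest element. -/
def long : Long F4Data.tab where
  L := ([0, 1, 0, 2, 1, 0, 2, 1, 2, 3, 2, 1, 0, 2, 1, 2, 3, 2, 1, 0, 2, 1, 2, 3] : List (Fin 4))
  π := (![0, 1, 2, 3] : Fin 4 → Fin 4)
  flip := by decide +kernel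
  simple := by decide +kernel

/-- The tree of nodes. -/
def tree : Tree F4Data.tab where
  root := (1 : Fin 4)
  order := ([(0, 1), (3, 2), (2, 1)] : List (Fin 4 × Fin 4))
  ok := by decide +kernel
  all := by decide +kernel
  deg := by decide +kernel

/-- The chain. -/
def chain : Chain long 1 where
  v := ![3, 6, 9, 5]
  fx := ![2, 3, 4, 2]
  R := ![![0, 33, 34], ![14, 0, 27], ![13, 20, 0]]
  ε := ![![1, 1, (-1)], ![1, 1, 1], ![(-1), 1, 1]]
  j1 := (0 : Fin 4)
  img := ![0, 1]
  bound := by decide +kernel
  negf := by decide +kernel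
  flipf := by decide +kernel
  root := by decide +kernel
  cover := by decide +kernel
  start := by decide +kernel
  swap := by decide +kernel
  inj := by unfold Function.Injective; decide +kernel

theorem rel : chkRel F4Data.tab chain.R chain.ε := by decide +kernel

theorem class_square {F : Type*} [Field F] [Fintype F] (hq : 9 ≤ Fintype.card F) :
    ∃ c : ↥(chevF4.group F), ∀ g : ↥(chevF4.group F),
      ∃ x y, g = (x * c * x⁻¹) * (y * c * y⁻¹) := by
  obtain ⟨φ, hφ⟩ := exists_phi chain good_F4 (by omega) rel (F := F)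
  exact Exc.class_square chain good_F4 φ hφ hq tree

end CfsgLib.ClassSquare.Exc.F4Chain
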