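import Cfsg.Agent.ClassSquare.Shift

/-!
# Triangular congruences without fixed points
-/

set_option autoImplicit false
set_option linter.unusedSectionVars false

namespace CfsgLib.ClassSquare

open Matrix

variable {F : Type*} [Field F] {n m : ℕ}

/-- `Aᵀ S B = S` with upper triangular `A`, `B` whose diagonal products avoid `1` forces `S = 0`. -/
theorem eq_zero_of_tri {A : Matrix (Fin n) (Fin n) F} {B : Matrix (Fin m) (Fin m) F}
    (hA : ∀ i j, j < i → A i j = 0) (hB : ∀ i j, j < i → B i j = 0)
    {S : Matrix (Fin n) (Fin m) F} (h : Aᵀ * S * B = S)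
    (hne : ∀ i j, A i i * B j j = 1 → S i j = 0) : S = 0 := by
  suffices H : ∀ (w : ℕ) (i : Fin n) (j : Fin m), i.val + j.val = w → S i j = 0 by
    ext i j
    exact H _ i j rfl
  intro w
  induction w using Nat.strong_induction_on with
  | _ w ih =>
    intro i j hw
    by_cases h1 : A i i * B j j = 1
    · exact hne i j h1
    have e := congrFun (congrFun h i) j
    simp only [Matrix.mul_apply, transpose_apply] at e
    rw [Finset.sum_eq_single j, Finset.sum_eq_single i] at e
    · by_contra hne'
      exact h1 (mul_right_cancel₀ hne' (by linear_combination e))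
    · intro k _ hk
      rcases lt_or_gt_of_ne hk with hk' | hk'
      · rw [ih _ (by omega) k j rfl, mul_zero]
      · rw [hA k i hk', zero_mul]
    · simp
    · intro l _ hl
      rcases lt_or_gt_of_ne hl with hl' | hl'
      · rw [Finset.sum_eq_zero fun k _ => ?_, zero_mul]
        rcases le_or_gt k i with hk | hk
        · rw [ih _ (by omega) k l rfl, mul_zero]
        · rw [hA k i hk, zero_mul]
      · rw [hB l j hl', mul_zero]
    · simp

/-- The same with `A S Bᵀ = S`. -/
theorem eq_zero_of_tri' {A : Matrix (Fin n) (Fin n) F} {B : Matrix (Fin m) (Fin m) F}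
    (hA : ∀ i j, j < i → A i j = 0) (hB : ∀ i j, j < i → B i j = 0)
    {S : Matrix (Fin n) (Fin m) F} (h : A * S * Bᵀ = S)
    (hne : ∀ i j, A i i * B j j = 1 → S i j = 0) : S = 0 := by
  have e := eq_zero_of_tri (A := (A.submatrix Fin.rev Fin.rev)ᵀ)
    (B := (B.submatrix Fin.rev Fin.rev)ᵀ) (S := S.submatrix Fin.rev Fin.rev)
    (fun i j hij => hA _ _ (Fin.rev_lt_rev.mpr hij)) (fun i j hij => hB _ _ (Fin.rev_lt_rev.mpr hij))
    (by
      rw [transpose_transpose, transpose_submatrix,
        ← submatrix_mul A S Fin.rev Fin.rev Fin.rev Fin.rev_involutive.bijective,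
        ← submatrix_mul (A * S) Bᵀ Fin.rev Fin.rev Fin.rev Fin.rev_involutive.bijective, h])
    (fun i j hij => hne _ _ hij)
  ext i j
  simpa using congrFun (congrFun e (Fin.rev i)) (Fin.rev j)

end CfsgLib.ClassSquare
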