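import Cfsg.Agent.ClassSquare.GL
import Cfsg.Agent.ClassSquare.Tri
import Mathlib.FieldTheory.Finite.Basic
import Mathlib.RingTheory.IntegralDomain

/-!
# A scaled model whose diagonal avoids inverse pairs
-/

set_option autoImplicit false
set_option linter.unusedSectionVars false

namespace CfsgLib.ClassSquare

open Matrix CfsgLib.OreSL CfsgLib.RegUnip
open scoped MatrixGroups

variable {F : Type*} [Field F] {k : ℕ}

theorem tSL_apply_lt (x : Fˣ) {i j : Fin (2 + k)} (h : j < i) :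
    (tSL x k : Matrix (Fin (2 + k)) (Fin (2 + k)) F) i j = 0 := by
  show reindex _ _ _ i j = 0
  rw [reindex_apply, submatrix_apply]
  exact model_upper _ _ _ _ (by simpa using h)

theorem tSL_diag (x : Fˣ) (i : Fin (2 + k)) :
    (tSL x k : Matrix (Fin (2 + k)) (Fin (2 + k)) F) i i = (x : F) ∨
      (tSL x k : Matrix (Fin (2 + k)) (Fin (2 + k)) F) i i = ((x⁻¹ : Fˣ) : F) ∨
        (tSL x k : Matrix (Fin (2 + k)) (Fin (2 + k)) F) i i = 1 := by
  obtain ⟨j, rfl⟩ := (finSumFinEquiv (m := 2) (n := k)).surjective i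
  have e : (tSL x k : Matrix (Fin (2 + k)) (Fin (2 + k)) F) (finSumFinEquiv j) (finSumFinEquiv j) =
      model (x : F) ((x⁻¹ : Fˣ) : F) k j j := by
    show reindex _ _ _ _ _ = _
    simp [reindex_apply]
  rw [e]
  rcases j with j | j
  · fin_cases j <;> simp [model]
  · refine Or.inr (Or.inr ?_)
    simp [model, uMat]

theorem transpose_det (M : SpecialLinearGroup (Fin (2 + k)) F) :
    ((M : Matrix (Fin (2 + k)) (Fin (2 + k)) F))ᵀ.det = 1 :=
  (det_transpose (M : Matrix (Fin (2 + k)) (Fin (2 + k)) F)).trans M.det_coe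

/-- The transpose of the model is conjugate to it. -/
theorem exists_conj_transpose (x : Fˣ) :
    ∃ P : SpecialLinearGroup (Fin (2 + k)) F,
      ((tSL x k : Matrix (Fin (2 + k)) (Fin (2 + k)) F))ᵀ =
        ((P * tSL x k * P⁻¹ : SpecialLinearGroup (Fin (2 + k)) F) :
          Matrix (Fin (2 + k)) (Fin (2 + k)) F) := by
  obtain ⟨P, hP⟩ := conj_of_sim (M := (⟨_, transpose_det (tSL x k)⟩ :
    SpecialLinearGroup (Fin (2 + k)) F)) (tSL_transpose_sim x)
  exact ⟨P, congrArg (fun M : SpecialLinearGroup (Fin (2 + k)) F =>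
    (M : Matrix (Fin (2 + k)) (Fin (2 + k)) F)) hP⟩

/-- A unit of order at least eight. -/
theorem exists_gamma [Fintype F] (hq : 9 ≤ Fintype.card F) :
    ∃ γ : Fˣ, ∀ e : ℕ, 0 < e → e < 8 → γ ^ e ≠ 1 := by
  classical
  obtain ⟨γ, hγ⟩ := IsCyclic.exists_generator (α := Fˣ)
  refine ⟨γ, fun e he he' h => ?_⟩
  have h1 : orderOf γ = Fintype.card F - 1 := by
    rw [orderOf_eq_card_of_forall_mem_zpowers hγ, Nat.card_eq_fintype_card, Fintype.card_units]
  have h2 := Nat.le_of_dvd he (orderOf_dvd_of_pow_eq_one h)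
  omega

theorem exists_sq_ne [Fintype F] (hq : 9 ≤ Fintype.card F) : ∃ a : F, a * a ≠ 1 ∧ a ≠ 0 := by
  obtain ⟨γ, hγ⟩ := exists_gamma hq
  refine ⟨γ, fun h => hγ 2 (by omega) (by omega) (Units.ext ?_), γ.ne_zero⟩
  simpa [pow_two] using h

theorem gamma_ne_inv {γ : Fˣ} (hγ : ∀ e : ℕ, 0 < e → e < 8 → γ ^ e ≠ 1) : γ ≠ γ⁻¹ := fun h =>
  hγ 2 (by omega) (by omega) (by rw [pow_two, mul_eq_one_iff_eq_inv]; exact h)

/-- The scaled model `γ ^ 2 • T (γ)`. -/
def scaled (γ : Fˣ) (k : ℕ) : Matrix (Fin (2 + k)) (Fin (2 + k)) F :=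
  ((γ ^ 2 : Fˣ) : F) • (tSL γ k : Matrix (Fin (2 + k)) (Fin (2 + k)) F)

theorem scaled_lt (γ : Fˣ) {i j : Fin (2 + k)} (h : j < i) : scaled γ k i j = 0 := by
  rw [scaled, Matrix.smul_apply, tSL_apply_lt γ h, smul_zero]

theorem scaled_diag (γ : Fˣ) (i : Fin (2 + k)) :
    ∃ e : ℕ, 1 ≤ e ∧ e ≤ 3 ∧ scaled γ k i i = ((γ ^ e : Fˣ) : F) := by
  rw [scaled, Matrix.smul_apply, smul_eq_mul]
  rcases tSL_diag γ i with h | h | h <;> rw [h]
  · exact ⟨3, by omega, le_rfl, by rw [← Units.val_mul, pow_succ γ 2]⟩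
  · exact ⟨1, le_rfl, by omega, by rw [← Units.val_mul, pow_two, mul_inv_cancel_right, pow_one]⟩
  · exact ⟨2, by omega, by omega, by rw [mul_one]⟩

theorem scaled_mul_ne_one {γ : Fˣ} (hγ : ∀ e : ℕ, 0 < e → e < 8 → γ ^ e ≠ 1) (i j : Fin (2 + k)) :
    scaled γ k i i * scaled γ k j j ≠ 1 := by
  obtain ⟨e, he, he', h⟩ := scaled_diag (k := k) γ i
  obtain ⟨f, hf, hf', h'⟩ := scaled_diag (k := k) γ j
  rw [h, h', ← Units.val_mul, ← pow_add]
  exact fun e' => hγ (e + f) (by omega) (by omega) (Units.ext e')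

theorem scaled_ne_one {γ : Fˣ} (hγ : ∀ e : ℕ, 0 < e → e < 8 → γ ^ e ≠ 1) (i : Fin (2 + k)) :
    scaled γ k i i ≠ 1 := by
  obtain ⟨e, he, he', h⟩ := scaled_diag (k := k) γ i
  rw [h]
  exact fun e' => hγ e (by omega) (by omega) (Units.ext e')

/-- The scaled model as a unit. -/
def scaledU (γ : Fˣ) (k : ℕ) : (Matrix (Fin (2 + k)) (Fin (2 + k)) F)ˣ :=
  Units.map (algebraMap F (Matrix (Fin (2 + k)) (Fin (2 + k)) F)).toMonoidHom (γ ^ 2) *
    Matrix.SpecialLinearGroup.toGL (tSL γ k)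

theorem scaledU_coe (γ : Fˣ) :
    ((scaledU γ k : (Matrix (Fin (2 + k)) (Fin (2 + k)) F)ˣ) : Matrix _ _ F) = scaled γ k := by
  rw [scaled, Algebra.smul_def]
  rfl

end CfsgLib.ClassSquare
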