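import Cfsg.Agent.ClassSquare.GL
import Cfsg.Agent.ClassSquare.Scaled
import Mathlib.LinearAlgebra.Matrix.Transvection
import Mathlib.Data.Matrix.Reflection
import Mathlib.Algebra.CharP.Lemmas

/-!
Products of transvections along the subdiagonal and the dilatations of the first coordinate.
-/

set_option autoImplicit false
set_option linter.unusedSectionVars false

namespace CfsgLib.ClassSquare.Exc

open Matrix CfsgLib.OreSL CfsgLib.RegUnip CfsgLib.Sourour CfsgLib.ClassSquare
open scoped MatrixGroups

variable {F : Type*} [Field F] {n : ℕ}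

/-- Lower unitriangular matrices. -/
def LowUni (M : Matrix (Fin n) (Fin n) F) : Prop :=
  (∀ i j : Fin n, i < j → M i j = 0) ∧ ∀ i, M i i = 1

/-- An entry of the subdiagonal. -/
def sub (M : Matrix (Fin (n + 1)) (Fin (n + 1)) F) (a : Fin n) : F := M a.succ a.castSucc

theorem LowUni.one : LowUni (1 : Matrix (Fin n) (Fin n) F) :=
  ⟨fun i j h => one_apply_ne h.ne, fun i => one_apply_eq i⟩

theorem LowUni.mul {A B : Matrix (Fin n) (Fin n) F} (hA : LowUni A) (hB : LowUni B) :
    LowUni (A * B) := by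
  refine ⟨fun i j h => ?_, fun i => ?_⟩
  · rw [Matrix.mul_apply]
    refine Finset.sum_eq_zero fun l _ => ?_
    rcases lt_or_ge i l with hl | hl
    · rw [hA.1 i l hl, zero_mul]
    · rw [hB.1 l j (lt_of_le_of_lt hl h), mul_zero]
  · rw [Matrix.mul_apply, Finset.sum_eq_single i]
    · rw [hA.2, hB.2, one_mul]
    · intro l _ hl
      rcases lt_or_gt_of_ne hl with hl | hl
      · rw [hB.1 l i hl, mul_zero]
      · rw [hA.1 i l hl, zero_mul]
    · simp

theorem sub_mul' {A B : Matrix (Fin (n + 1)) (Fin (n + 1)) F} (hA : LowUni A) (hB : LowUni B)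
    (a : Fin n) : sub (A * B) a = sub A a + sub B a := by
  show (A * B) _ _ = _
  have hne : a.castSucc ≠ a.succ := (Fin.castSucc_lt_succ (i := a)).ne
  rw [Matrix.mul_apply, ← Finset.sum_subset (Finset.subset_univ {a.castSucc, a.succ}),
    Finset.sum_pair hne, hB.2, hA.2, mul_one, one_mul]
  · rfl
  · intro l _ hl
    simp only [Finset.mem_insert, Finset.mem_singleton, not_or] at hl
    obtain ⟨h1, h2⟩ := hl
    rcases lt_or_ge a.succ l with h | h
    · rw [hA.1 _ l h, zero_mul]
    · rw [hB.1 l _ ?_, mul_zero]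
      have hlt : l < a.succ := lt_of_le_of_ne h h2
      rw [Fin.lt_def, Fin.val_succ] at hlt
      rw [Fin.lt_def]
      have : l.val ≠ a.castSucc.val := fun e => h1 (Fin.ext e)
      simp only [Fin.val_castSucc] at this ⊢
      omega

theorem lowUni_transvection {i j : Fin n} (h : j < i) (c : F) :
    LowUni (Matrix.transvection i j c) := by
  refine ⟨fun a b hab => ?_, fun a => ?_⟩
  · rw [Matrix.transvection, Matrix.add_apply, one_apply_ne hab.ne, single_apply, if_neg, add_zero]
    rintro ⟨rfl, rfl⟩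
    exact lt_asymm h hab
  · rw [Matrix.transvection, Matrix.add_apply, one_apply_eq, single_apply, if_neg, add_zero]
    rintro ⟨rfl, rfl⟩
    exact lt_irrefl _ h

theorem sub_transvection (b a : Fin n) (c : F) :
    sub (Matrix.transvection b.succ b.castSucc c) a = if a = b then c else 0 := by
  show Matrix.transvection b.succ b.castSucc c a.succ a.castSucc = _
  rw [Matrix.transvection, Matrix.add_apply, one_apply_ne (Fin.castSucc_lt_succ (i := a)).ne',
    zero_add, single_apply]
  by_cases h : a = b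
  · subst h; simp
  · rw [if_neg h, if_neg]
    rintro ⟨e, -⟩
    exact h (Fin.succ_injective _ e).symm

/-- A subdiagonal transvection. -/
def eLow (a : Fin n) (c : F) : SpecialLinearGroup (Fin (n + 1)) F :=
  SpecialLinearGroup.transvection (Fin.castSucc_lt_succ (i := a)).ne' c

/-- A superdiagonal transvection. -/
def eUp (a : Fin n) (c : F) : SpecialLinearGroup (Fin (n + 1)) F :=
  SpecialLinearGroup.transvection (Fin.castSucc_lt_succ (i := a)).ne c

theorem coe_eLow (a : Fin n) (c : F) :
    (eLow a c : Matrix (Fin (n + 1)) (Fin (n + 1)) F) = Matrix.transvection a.succ a.castSucc c :=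
  CfsgLib.Linear.transvec_coe _ _

theorem coe_eUp (a : Fin n) (c : F) :
    (eUp a c : Matrix (Fin (n + 1)) (Fin (n + 1)) F) = Matrix.transvection a.castSucc a.succ c :=
  CfsgLib.Linear.transvec_coe _ _

theorem sl_mul_val {ι : Type*} [Fintype ι] [DecidableEq ι] (A B : SpecialLinearGroup ι F) :
    (A * B).1 = A.1 * B.1 := rfl

theorem sl_one_val {ι : Type*} [Fintype ι] [DecidableEq ι] :
    (1 : SpecialLinearGroup ι F).1 = 1 := rfl

theorem prod_low (l : List (Fin n)) (c : Fin n → F) :
    LowUni ((l.map fun a => eLow a (c a)).prod : SpecialLinearGroup (Fin (n + 1)) F).1 ∧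
      ∀ b, sub ((l.map fun a => eLow a (c a)).prod : SpecialLinearGroup (Fin (n + 1)) F).1 b =
        (l.map fun a => if b = a then c a else 0).sum := by
  induction l with
  | nil =>
    exact ⟨LowUni.one, fun b => by
      simp [sub, one_apply_ne (Fin.castSucc_lt_succ (i := b)).ne']⟩
  | cons a l ih =>
    have h1 : LowUni (eLow a (c a) : Matrix (Fin (n + 1)) (Fin (n + 1)) F) := by
      rw [coe_eLow]; exact lowUni_transvection (Fin.castSucc_lt_succ (i := a)) _
    rw [List.map_cons, List.prod_cons, sl_mul_val]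
    simp only [List.map_cons, List.sum_cons]
    refine ⟨h1.mul ih.1, fun b => ?_⟩
    rw [sub_mul' h1 ih.1, ih.2 b, coe_eLow, sub_transvection]

theorem prod_up (l : List (Fin n)) (c : Fin n → F) :
    LowUni ((l.map fun a => eUp a (c a)).prod : SpecialLinearGroup (Fin (n + 1)) F).1ᵀ ∧
      ∀ b, sub ((l.map fun a => eUp a (c a)).prod : SpecialLinearGroup (Fin (n + 1)) F).1ᵀ b =
        (l.map fun a => if b = a then c a else 0).sum := by
  induction l with
  | nil =>
    rw [List.map_nil, List.prod_nil, sl_one_val, transpose_one]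
    exact ⟨LowUni.one, fun b => (one_apply_ne (Fin.castSucc_lt_succ (i := b)).ne')⟩
  | cons a l ih =>
    have h1 : LowUni (eUp a (c a) : Matrix (Fin (n + 1)) (Fin (n + 1)) F)ᵀ := by
      rw [coe_eUp, Matrix.transvection, transpose_add, transpose_one, transpose_single]
      exact lowUni_transvection (Fin.castSucc_lt_succ (i := a)) _
    rw [List.map_cons, List.prod_cons, sl_mul_val, transpose_mul]
    simp only [List.map_cons, List.sum_cons]
    refine ⟨ih.1.mul h1, fun b => ?_⟩
    rw [sub_mul' ih.1 h1, ih.2 b, add_comm, coe_eUp, Matrix.transvection, transpose_add,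
      transpose_one, transpose_single]
    congr 1
    exact sub_transvection a b _

theorem sim_of_lowUni {M : Matrix (Fin (n + 1)) (Fin (n + 1)) F} (h : LowUni M)
    (hs : ∀ a : Fin n, sub M a ≠ 0) : Sim M uMat := by
  refine sim_uMat ⟨fun i j hij => h.1 i j hij, h.2, fun i j hij => ?_⟩
  have hj : j.val < n := by omega
  have := hs ⟨j.val, hj⟩
  convert this using 1
  show M i j = M _ _
  congr 1
  exact Fin.ext hij

theorem sim_of_upUni {M : Matrix (Fin (n + 1)) (Fin (n + 1)) F} (h : LowUni Mᵀ)
    (hs : ∀ a : Fin n, sub Mᵀ a ≠ 0) : Sim M uMat := by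
  obtain ⟨P, hP, e⟩ := sim_of_lowUni h hs
  have h1 : Sim (uMat : Matrix (Fin (n + 1)) (Fin (n + 1)) F)ᵀ M := by
    refine ⟨Pᵀ, by rwa [det_transpose], ?_⟩
    have := congrArg Matrix.transpose e
    rw [transpose_mul, transpose_mul, transpose_transpose] at this
    exact this.symm
  exact h1.symm.trans (sim_uMat regLower_transpose_uMat)

theorem sum_indicator {ι : Type*} [Fintype ι] [DecidableEq ι] (l : List ι) (hl : l.Nodup)
    (hall : ∀ a, a ∈ l) (c : ι → F) (b : ι) : (l.map fun a => if b = a then c a else 0).sum = c b := by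
  rw [← List.sum_toFinset _ hl, Finset.sum_ite_eq, if_pos (List.mem_toFinset.mpr (hall b))]

/-- The regular unipotent element of the chain. -/
def uChain (n : ℕ) (F : Type*) [Field F] : SpecialLinearGroup (Fin (n + 1)) F :=
  (((List.finRange n).map fun a => eLow a (1 : F)).reverse).prod

theorem uChain_spec : LowUni (uChain n F : Matrix (Fin (n + 1)) (Fin (n + 1)) F) ∧
    ∀ a, sub (uChain n F : Matrix (Fin (n + 1)) (Fin (n + 1)) F) a ≠ 0 := by
  rw [uChain, ← List.map_reverse]
  obtain ⟨h1, h2⟩ := prod_low (F := F) (List.finRange n).reverse (fun _ => 1)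
  refine ⟨h1, fun a => ?_⟩
  rw [h2 a, sum_indicator _ (List.nodup_reverse.mpr (List.nodup_finRange n))
    (fun b => List.mem_reverse.mpr (List.mem_finRange b))]
  exact one_ne_zero

theorem uChain_sim : Sim (uChain n F : Matrix (Fin (n + 1)) (Fin (n + 1)) F) uMat :=
  sim_of_lowUni uChain_spec.1 uChain_spec.2

theorem transvection_inv {m : ℕ} {i j : Fin m} (h : i ≠ j) (c : F) :
    (SpecialLinearGroup.transvection h c)⁻¹ = SpecialLinearGroup.transvection h (-c) := by
  refine inv_eq_of_mul_eq_one_right (Subtype.ext ?_)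
  show (SpecialLinearGroup.transvection h c).1 * (SpecialLinearGroup.transvection h (-c)).1 = 1
  rw [CfsgLib.Linear.transvec_coe, CfsgLib.Linear.transvec_coe,
    Matrix.transvection_mul_transvection_same _ _ h]
  simp

theorem uChain_inv : (uChain n F)⁻¹ = ((List.finRange n).map fun a => eLow a (-1 : F)).prod := by
  rw [uChain, List.prod_inv_reverse, List.map_reverse, List.reverse_reverse, List.map_map]
  exact congrArg List.prod (List.map_congr_left fun a _ => transvection_inv _ _)

/-- Unitriangular elements have order a power of the characteristic. -/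
theorem exists_pow_eq_one (p : ℕ) [CharP F p] [Fact p.Prime] {M : Matrix (Fin n) (Fin n) F}
    (h : LowUni M) : M ^ p ^ n = 1 := by
  rcases Nat.eq_zero_or_pos n with rfl | hn
  · exact Subsingleton.elim _ _
  haveI : Nonempty (Fin n) := ⟨⟨0, hn⟩⟩
  obtain ⟨N, rfl⟩ : ∃ N, M = 1 + N := ⟨M - 1, by abel⟩
  have hN : ∀ i j : Fin n, i.val ≤ j.val → N i j = 0 := fun i j hij => by
    rcases (Fin.le_def.mpr hij : i ≤ j).lt_or_eq with hlt | rfl
    · simpa [one_apply_ne hlt.ne] using h.1 i j hlt
    · simpa using h.2 i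
  have hz : N ^ n = 0 := by
    ext i j
    exact (pow_strictLower N hN n).1 i j (by omega)
  have hle : n ≤ p ^ n := (Nat.lt_pow_self (Fact.out : p.Prime).one_lt).le
  rw [add_pow_char_pow_of_commute (p := p) (n := n) (h := Commute.one_left N), one_pow, pow_eq_zero_of_le hle hz, add_zero]

/-- The matrix of conjugation by a dilatation of the first coordinate. -/
def d0 (δ : Fˣ) (i : Fin (n + 1)) : Fˣ := if i = 0 then δ else 1

/-- Conjugation by a dilatation of the first coordinate. -/
def conjD (δ : Fˣ) : SpecialLinearGroup (Fin (n + 1)) F →* SpecialLinearGroup (Fin (n + 1)) F where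
  toFun X := ⟨diagonal (fun i => (d0 δ i : F)) * (X : Matrix (Fin (n + 1)) (Fin (n + 1)) F) *
      diagonal (fun i => (((d0 δ i)⁻¹ : Fˣ) : F)), by
    rw [det_mul, det_mul, det_diagonal, det_diagonal, X.2, mul_one,
      ← Finset.prod_mul_distrib]
    exact Finset.prod_eq_one fun i _ => Units.mul_inv _⟩
  map_one' := Subtype.ext (by simp)
  map_mul' X Y := Subtype.ext (by
    show diagonal _ * ((X : Matrix (Fin (n + 1)) (Fin (n + 1)) F) * (Y : Matrix _ _ F)) * diagonal _ =
      diagonal (fun i => (d0 δ i : F)) * (X : Matrix (Fin (n + 1)) (Fin (n + 1)) F) *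
        diagonal (fun i => (((d0 δ i)⁻¹ : Fˣ) : F)) *
        (diagonal (fun i => (d0 δ i : F)) * (Y : Matrix (Fin (n + 1)) (Fin (n + 1)) F) *
          diagonal (fun i => (((d0 δ i)⁻¹ : Fˣ) : F)))
    have e : diagonal (fun i : Fin (n + 1) => (((d0 δ i)⁻¹ : Fˣ) : F)) *
        diagonal (fun i => (d0 δ i : F)) = 1 := by
      rw [diagonal_mul_diagonal, ← diagonal_one]
      congr 1; funext i; exact Units.inv_mul _
    simp only [Matrix.mul_assoc]
    rw [← Matrix.mul_assoc (diagonal fun i : Fin (n + 1) => (((d0 δ i)⁻¹ : Fˣ) : F))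
      (diagonal fun i => (d0 δ i : F)), e, Matrix.one_mul])

theorem conjD_transvection (δ : Fˣ) {i j : Fin (n + 1)} (h : i ≠ j) (t : F) :
    conjD δ (SpecialLinearGroup.transvection h t) =
      SpecialLinearGroup.transvection h ((d0 δ i : F) * t * ((d0 δ j)⁻¹ : Fˣ)) := by
  refine Subtype.ext ?_
  show diagonal _ * (SpecialLinearGroup.transvection h t).1 * diagonal _ = _
  rw [CfsgLib.Linear.transvec_coe, CfsgLib.Linear.transvec_coe]
  ext a b
  rw [mul_diagonal, diagonal_mul]
  simp only [Matrix.transvection, Matrix.add_apply, Matrix.one_apply, single_apply]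
  by_cases hab : a = b
  · subst hab
    have : ¬ (i = a ∧ j = a) := fun hh => h (hh.1.trans hh.2.symm)
    simp [this]
  · by_cases hh : i = a ∧ j = b
    · obtain ⟨rfl, rfl⟩ := hh
      simp [hab]
    · simp [hab, hh]

/-- Similar elements of the special linear group are conjugate by a dilatation and an element. -/
theorem conjD_of_sim {A B : SpecialLinearGroup (Fin (n + 1)) F}
    (h : Sim (A : Matrix (Fin (n + 1)) (Fin (n + 1)) F) B) :
    ∃ (δ : Fˣ) (Q : SpecialLinearGroup (Fin (n + 1)) F), A = conjD δ (Q * B * Q⁻¹) := by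
  obtain ⟨P, hP, e⟩ := h.symm
  set δ : Fˣ := Units.mk0 P.det hP
  set D₀ : Matrix (Fin (n + 1)) (Fin (n + 1)) F := diagonal (fun i => (d0 δ i : F))
  set D₁ : Matrix (Fin (n + 1)) (Fin (n + 1)) F := diagonal (fun i => (((d0 δ i)⁻¹ : Fˣ) : F))
  have hD : D₀ * D₁ = 1 := by
    rw [diagonal_mul_diagonal, ← diagonal_one]
    congr 1; funext i; exact Units.mul_inv _
  have hd1 : D₁.det = P.det⁻¹ := by
    rw [det_diagonal, Finset.prod_eq_single (0 : Fin (n + 1))]
    · simp [d0, δ]
    · intro b _ hb; simp [d0, hb]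
    · simp
  let Q : SpecialLinearGroup (Fin (n + 1)) F := ⟨D₁ * P, by rw [det_mul, hd1, inv_mul_cancel₀ hP]⟩
  refine ⟨δ, Q, ?_⟩
  set QB := Q * B * Q⁻¹ with hQB
  have h1 : QB * Q = Q * B := by rw [hQB]; group
  have h2 : (QB : Matrix (Fin (n + 1)) (Fin (n + 1)) F) * (D₁ * P) = D₁ * P * (B : Matrix _ _ F) :=
    congrArg Subtype.val h1
  apply Subtype.ext
  show (A : Matrix (Fin (n + 1)) (Fin (n + 1)) F) = D₀ * (QB : Matrix _ _ F) * D₁
  have h3 : D₀ * (QB : Matrix (Fin (n + 1)) (Fin (n + 1)) F) * D₁ * P = (A : Matrix _ _ F) * P := by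
    rw [Matrix.mul_assoc _ D₁ P, Matrix.mul_assoc, h2, ← Matrix.mul_assoc, ← Matrix.mul_assoc, hD,
      Matrix.one_mul, e]
  have hu : IsUnit P.det := isUnit_iff_ne_zero.mpr hP
  have h4 := congrArg (fun X => X * P⁻¹) h3
  simp only [Matrix.mul_assoc, mul_nonsing_inv _ hu, Matrix.mul_one] at h4
  rw [Matrix.mul_assoc]
  exact h4.symm

end CfsgLib.ClassSquare.Exc
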