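import Cfsg.Agent.ClassSquare.ExcTorus
import Cfsg.Agent.ClassSquare.ExcUni
import Cfsg.Agent.ClassSquare.Scaled

/-!
The element of a chain fixes nothing on the moved parts and is conjugate to its inverse.
-/

set_option autoImplicit false
set_option linter.unusedSectionVars false

namespace CfsgLib.ClassSquare.Exc

open Cfsg.Lie Matrix CfsgLib.Chev CfsgLib.Chev.Tab CfsgLib.OreSL CfsgLib.RegUnip
open scoped MatrixGroups

variable {D : ChevalleyDatum} {T : Tab D} {W : Long T} {k : ℕ} (C : Chain W k) (G : T.Good)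
variable {F : Type*} [Field F]

include G in
theorem Chain.Tm_preimage {r : ℕ} (hr : r ∈ C.Tm) :
    ∃ s : Fin D.nroots, T.wordT (W.L.map Fin.val) s.val = r ∧ s.val ∈ C.Tp := by
  obtain ⟨s, hs⟩ := exists_preimage G W hr.1
  refine ⟨s, hs, s.isLt, ?_⟩
  have := C.flipf s
  rw [hs] at this
  have := hr.2
  omega

include G in
theorem Chain.Tp_image {r : ℕ} (hr : r ∈ C.Tp) :
    r < D.nroots ∧ T.wordT (W.L.map Fin.val) r ∈ C.Tm := by
  refine ⟨hr.1, ?_, ?_⟩
  · rw [← G.pw_apply W.L ⟨r, hr.1⟩]; exact Fin.isLt _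
  · rw [C.flipf ⟨r, hr.1⟩]
    exact neg_neg_of_pos hr.2

include G in
/-- The longest element inverts the torus element. -/
theorem Chain.n0_z (γ : Fˣ) : n0 G W F * C.z γ * (n0 G W F)⁻¹ = (C.z γ)⁻¹ := by
  obtain ⟨d, hd⟩ := G.nw_hT (F := F) W.L (cpow γ C.v)
  have e : n0 G W F * C.z γ * (n0 G W F)⁻¹ = T.hT F d := mul_inv_eq_iff_eq_mul.mpr hd
  obtain ⟨c, hc⟩ := n0_act G W (F := F)
  have key : ∀ s : Fin D.nroots,
      T.chi (F := F) (G.full.pw W.L s).val d = γ ^ fv T C.v s.val := by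
    intro s
    have h1 : n0 G W F * (C.z γ * G.full.x s.val 1 * (C.z γ)⁻¹) * (n0 G W F)⁻¹ =
        T.hT F d * (n0 G W F * G.full.x s.val 1 * (n0 G W F)⁻¹) * (T.hT F d)⁻¹ := by
      rw [← e]; group
    rw [show C.z γ = T.hT F (cpow γ C.v) from rfl, G.full.hT_conj s.isLt, (hc s).2.2.2,
      (hc s).2.2.2, G.full.hT_conj (Fin.isLt _), chi_cpow] at h1
    have h3 : G.full.x (G.full.pw W.L s).val ((c s : F) * (((γ ^ fv T C.v s.val : Fˣ) : F) * 1) -
        (T.chi (F := F) (G.full.pw W.L s).val d : F) * ((c s : F) * 1)) = 1 := by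
      rw [sub_eq_add_neg, ← G.full.x_add, ← G.full.x_inv, mul_inv_eq_one]
      exact h1
    have h4 := G.x_eq_one (Fin.isLt _) h3
    exact Units.ext (mul_right_cancel₀ (Units.ne_zero (c s)) (by linear_combination -h4))
  rw [e, eq_inv_iff_mul_eq_one, show C.z γ = T.hT F (cpow γ C.v) from rfl, ← map_mul,
    G.full.hT_eq_one_iff]
  intro j hj
  obtain ⟨s, hs⟩ := exists_preimage G W (G.full.simple_lt hj)
  have h := key s
  rw [G.pw_apply, hs] at h
  rw [map_mul, h, chi_cpow, ← hs, C.flipf s, _root_.zpow_neg, mul_inv_cancel]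

theorem cpow_pow (γ : Fˣ) (v : Fin D.rank → ℤ) (N : ℕ) : cpow γ v ^ N = cpow (γ ^ N) v := by
  funext i
  simp only [cpow, Pi.pow_apply, ← zpow_natCast, ← _root_.zpow_mul, mul_comm]

theorem Chain.z_pow (γ : Fˣ) (N : ℕ) : C.z γ ^ N = C.z (γ ^ N) := by
  rw [Chain.z, Chain.z, ← map_pow, cpow_pow]

theorem US_empty {S : Set ℕ} (h : ∀ r, r ∉ S) : G.US F S = ⊥ := by
  rw [Tab.Good.US, Subgroup.closure_eq_bot_iff]
  rintro g ⟨r, hr, -⟩
  exact absurd hr (h r)

variable [Fintype F] (φ : SpecialLinearGroup (Fin (k + 2)) F →* GL D.Idx F)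
  (hφ : ∀ i j (hij : i ≠ j) (t : F), φ (SpecialLinearGroup.transvection hij t) = C.X G i j t)

/-- The Jordan block of the chain. -/
noncomputable def sC : GL D.Idx F := φ (uChain (k + 1) F)

theorem sC_mem : sC φ ∈ Levi (T := T) φ := Subgroup.mem_sup_left ⟨_, rfl⟩

include hφ in
theorem Chain.fix_Tp {γ : Fˣ} (hγ : ∀ e : ℕ, 0 < e → e < 8 → γ ^ e ≠ 1) {p : ℕ} [Fact p.Prime]
    [CharP F p] {w : GL D.Idx F} (hw : w ∈ G.US F C.Tp) {N : ℕ}
    (hN : ∃ e : ℕ, N = p ^ e) (h : C.z γ ^ N * w = w * C.z γ ^ N) : w = 1 := by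
  rw [C.z_pow, Chain.z] at h
  have h1 : T.hT F (cpow (γ ^ N) C.v) * w * (T.hT F (cpow (γ ^ N) C.v))⁻¹ = w :=
    mul_inv_eq_of_eq_mul h
  rw [G.fixed_US (C.closed_Tp G) _ hw, US_empty G (fun r hr => ?_)] at h1
  · exact Subgroup.mem_bot.mp h1
  · obtain ⟨hr, hχ⟩ := hr
    rw [chi_cpow] at hχ
    obtain ⟨e, rfl⟩ := hN
    obtain ⟨h0, h7⟩ := C.Tp_le (C.Tp_pos G hr)
    obtain ⟨m, hm⟩ := Int.eq_ofNat_of_zero_le h0
    rw [hm, zpow_natCast, ← pow_mul, mul_comm, pow_mul] at hχ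
    have hinj : Function.Injective (fun u : Fˣ => u ^ p ^ e) := fun a b hab => by
      apply Units.ext
      have := congrArg Units.val hab
      simp only [Units.val_pow_eq_pow_val] at this
      exact iterateFrobenius_inj F p e this
    have := hinj (hχ.trans (one_pow (M := Fˣ) _).symm)
    exact hγ m (by have := hr.2; omega) (by omega) this

include hφ in
theorem Chain.zs_pow {γ : Fˣ} (p : ℕ) [Fact p.Prime] [CharP F p] :
    (C.z γ * sC φ) ^ p ^ (k + 2) = C.z γ ^ p ^ (k + 2) := by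
  rw [Commute.mul_pow (C.z_comm G φ hφ γ (sC_mem (T := T) φ))]
  have h : uChain (k + 1) F ^ p ^ (k + 2) = 1 := by
    refine Matrix.SpecialLinearGroup.ext _ _ (fun i j => ?_)
    have e : ∀ n : ℕ, (uChain (k + 1) F ^ n).1 = (uChain (k + 1) F).1 ^ n := fun n => by
      induction n with
      | zero => rfl
      | succ n ih => rw [pow_succ, sl_mul_val, ih, pow_succ]
    rw [e, exists_pow_eq_one p (uChain_spec).1]
    rfl
  rw [show sC φ ^ p ^ (k + 2) = 1 by rw [sC, ← map_pow, h, map_one], mul_one]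

include hφ in
/-- The element fixes nothing on either side. -/
theorem Chain.fix {γ : Fˣ} (hγ : ∀ e : ℕ, 0 < e → e < 8 → γ ^ e ≠ 1) {w : GL D.Idx F}
    (hw : w ∈ G.US F C.Tp ∨ w ∈ G.US F C.Tm)
    (h : C.z γ * sC φ * w = w * (C.z γ * sC φ)) : w = 1 := by
  obtain ⟨p, hp⟩ := CharP.exists F
  haveI := hp
  haveI : Fact p.Prime := ⟨CharP.char_is_prime F p⟩
  have h' : Commute (C.z γ ^ p ^ (k + 2)) w := by
    rw [← C.zs_pow G φ hφ p]
    exact Commute.pow_left h _
  rcases hw with hw | hw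
  · exact C.fix_Tp G φ hφ hγ hw ⟨_, rfl⟩ h'.eq
  · set n := n0 G W F
    have hw' : n⁻¹ * w * n ∈ G.US F C.Tp := conj_n0_inv G W (fun r hr => C.Tm_preimage G hr) hw
    have hz : n⁻¹ * (C.z γ ^ p ^ (k + 2))⁻¹ * n = C.z γ ^ p ^ (k + 2) := by
      rw [C.z_pow, ← C.n0_z G (γ ^ p ^ (k + 2))]
      simp only [n]
      group
    have h2 : Commute (C.z γ ^ p ^ (k + 2)) (n⁻¹ * w * n) := by
      have h3 := h'.inv_left.map (MulAut.conj n⁻¹).toMonoidHom
      simp only [MulEquiv.coe_toMonoidHom, MulAut.conj_apply, inv_inv] at h3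
      rwa [hz] at h3
    have h4 := C.fix_Tp G φ hφ hγ hw' ⟨_, rfl⟩ h2.eq
    calc w = n * (n⁻¹ * w * n) * n⁻¹ := by group
      _ = 1 := by rw [h4]; group

/-- The conjugate of the Jordan block by the longest element, in the special linear group. -/
noncomputable def Chain.flipped (d : Fin (k + 1) → F) : SpecialLinearGroup (Fin (k + 2)) F :=
  ((List.finRange (k + 1)).reverse.map fun a => eUp (C.img a) (d a)).prod

theorem sim_flipped (d : Fin (k + 1) → F) (hd : ∀ a, d a ≠ 0) :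
    Sim (C.flipped d : Matrix (Fin (k + 2)) (Fin (k + 2)) F) uMat := by
  classical
  have hb : Function.Bijective C.img := Finite.injective_iff_bijective.mp C.inj
  set e := Equiv.ofBijective C.img hb
  have hmap : (List.finRange (k + 1)).reverse.map (fun a => eUp (C.img a) (d a)) =
      ((List.finRange (k + 1)).reverse.map C.img).map fun b => eUp b (d (e.symm b)) := by
    rw [List.map_map]
    refine List.map_congr_left fun a _ => ?_
    rw [Function.comp_apply, show e.symm (C.img a) = a from e.symm_apply_apply a]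
  rw [Chain.flipped, hmap]
  obtain ⟨h1, h2⟩ := prod_up ((List.finRange (k + 1)).reverse.map C.img) (fun b => d (e.symm b))
  refine sim_of_upUni h1 fun b => ?_
  rw [h2 b, sum_indicator _ ((List.nodup_reverse.mpr (List.nodup_finRange _)).map C.inj)
    (fun c => List.mem_map.mpr ⟨e.symm c, List.mem_reverse.mpr (List.mem_finRange _),
      e.apply_symm_apply c⟩)]
  exact hd _

include hφ in
theorem Chain.n0_s : ∃ d : Fin (k + 1) → F, (∀ a, d a ≠ 0) ∧
    n0 G W F * sC φ * (n0 G W F)⁻¹ = φ (C.flipped d) := by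
  obtain ⟨c, hc⟩ := n0_act G W (F := F)
  have hne : ∀ a : Fin (k + 1), a.succ ≠ a.castSucc := fun a => (Fin.castSucc_lt_succ (i := a)).ne'
  have hne' : ∀ a : Fin (k + 1), a.castSucc ≠ a.succ := fun a => (Fin.castSucc_lt_succ (i := a)).ne
  have heps : ∀ i j : Fin (k + 2), i ≠ j → (C.ε i j : F) ≠ 0 := fun i j h e => by
    have := C.eps_sq (F := F) i j h
    rw [e, mul_zero] at this
    exact zero_ne_one this
  refine ⟨fun a => (C.ε (C.img a).castSucc (C.img a).succ : F) *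
    ((c ⟨C.R a.succ a.castSucc, (C.root _ _ (hne a)).1⟩ : F) * (C.ε a.succ a.castSucc : F)),
    fun a => mul_ne_zero (heps _ _ (hne' _)) (mul_ne_zero (Units.ne_zero _) (heps _ _ (hne a))), ?_⟩
  rw [sC, uChain, ← List.map_reverse, Chain.flipped, map_list_prod, map_list_prod,
    List.map_map, List.map_map,
    ← MulAut.conj_apply, map_list_prod, List.map_map]
  refine congrArg List.prod (List.map_congr_left fun a _ => ?_)
  simp only [Function.comp_apply, eLow, eUp, MulAut.conj_apply]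
  rw [hφ, ← C.x_eq G φ hφ _ _ (hne' (C.img a)), Chain.X, mul_one,
    (hc ⟨C.R a.succ a.castSucc, (C.root _ _ (hne a)).1⟩).2.2.2, G.pw_apply, C.swap a]

include hφ in
theorem Chain.phi_conjD (δ : Fˣ) (g : SpecialLinearGroup (Fin (k + 2)) F) :
    φ (conjD δ g) = T.hT F (cpow δ C.fx) * φ g * (T.hT F (cpow δ C.fx))⁻¹ := by
  refine (C.hT_conj_phi G φ hφ _ (conjD δ) (fun i j => (d0 δ i : F) * (((d0 δ j)⁻¹ : Fˣ) : F))
    (fun i j hij t => ?_) (fun i j hij => ?_) g).symm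
  · rw [conjD_transvection]
    congr 1
    ring
  · rw [chi_cpow, (C.root i j hij).2.2.2.1, ← Units.val_mul]
    refine congrArg Units.val ?_
    unfold d0
    split_ifs with h1 h2 h2
    · exact absurd (h1.trans h2.symm) hij
    · simp
    · simp
    · simp

include hφ in
theorem Chain.exists_conj_of_sim {A B : SpecialLinearGroup (Fin (k + 2)) F}
    (h : Sim (A : Matrix (Fin (k + 2)) (Fin (k + 2)) F) B) :
    ∃ l ∈ Levi (T := T) φ, φ A = l * φ B * l⁻¹ := by
  obtain ⟨δ, Q, rfl⟩ := conjD_of_sim h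
  refine ⟨T.hT F (cpow δ C.fx) * φ Q,
    mul_mem (Subgroup.mem_sup_right ⟨_, rfl⟩) (Subgroup.mem_sup_left ⟨_, rfl⟩), ?_⟩
  rw [C.phi_conjD G φ hφ, map_mul, map_mul, map_inv]
  group

include hφ in
theorem Chain.real (γ : Fˣ) : ∃ l ∈ Levi (T := T) φ,
    (C.z γ * sC φ)⁻¹ = l * n0 G W F * (C.z γ * sC φ) * (l * n0 G W F)⁻¹ := by
  obtain ⟨d, hd, e⟩ := C.n0_s G φ hφ
  have hi : Sim ((uChain (k + 1) F)⁻¹ : SpecialLinearGroup (Fin (k + 2)) F).1 uMat := by
    rw [uChain_inv]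
    obtain ⟨h1, h2⟩ := prod_low (F := F) (List.finRange (k + 1)) (fun _ => -1)
    refine sim_of_lowUni h1 fun a => ?_
    rw [h2 a, sum_indicator _ (List.nodup_finRange _) List.mem_finRange]
    exact neg_ne_zero.mpr one_ne_zero
  obtain ⟨l, hl, el⟩ := C.exists_conj_of_sim G φ hφ (hi.trans (sim_flipped C d hd).symm)
  refine ⟨l, hl, ?_⟩
  set n := n0 G W F
  set z := C.z γ
  have hz : z * sC φ = sC φ * z := C.z_comm G φ hφ γ (sC_mem (T := T) φ)
  have hzl : z⁻¹ * l = l * z⁻¹ :=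
    (Commute.inv_left (show Commute z l from C.z_comm G φ hφ γ hl)).eq
  calc (z * sC φ)⁻¹ = z⁻¹ * (sC φ)⁻¹ := by rw [hz, _root_.mul_inv_rev]
    _ = z⁻¹ * (l * φ (C.flipped d) * l⁻¹) := by rw [sC, ← map_inv, el]
    _ = l * (z⁻¹ * φ (C.flipped d)) * l⁻¹ := by simp only [← mul_assoc, hzl]
    _ = l * ((n * z * n⁻¹) * (n * sC φ * n⁻¹)) * l⁻¹ := by rw [C.n0_z G γ, e]
    _ = _ := by group

end CfsgLib.ClassSquare.Exc
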