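import Cfsg.Agent.ClassSquare.ExcCell
import Mathlib.RingTheory.IntegralDomain
import Mathlib.FieldTheory.Finite.Basic

/-!
Every nontrivial element of a Chevalley group over a field with at least nine elements has a
conjugate in the big cell with prescribed torus part.
-/

set_option autoImplicit false
set_option linter.unusedSectionVars false

namespace CfsgLib.ClassSquare.Exc

open Cfsg.Lie Matrix CfsgLib.Chev CfsgLib.Chev.Tab
open scoped MatrixGroups

variable {D : ChevalleyDatum}

/-- The nodes with parents, leaves first, rooted at `r`. -/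
def chkTree (T : Tab D) (r : Fin D.rank) : List (Fin D.rank × Fin D.rank) → Bool
  | [] => true
  | e :: rest =>
    let U := r :: rest.map Prod.fst
    U.contains e.2 && !U.contains e.1 &&
      decide (T.cart e.1 (D.simple e.2) ≠ 0) && decide (T.cart e.2 (D.simple e.1) ≠ 0) &&
      U.all (fun k => decide (k = e.2) || decide (T.cart e.1 (D.simple k) = 0)) &&
      chkTree T r rest

/-- A rooted tree structure on the nodes. -/
structure Tree (T : Tab D) where
  root : Fin D.rank
  order : List (Fin D.rank × Fin D.rank)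
  ok : chkTree T root order = true
  all : ∀ i : Fin D.rank, i ∈ root :: order.map Prod.fst
  deg : ∀ i : Fin D.rank, T.cart i (D.simple i) = 2 ∧
    ∑ k : Fin D.rank, (T.cart i (D.simple k)).natAbs ≤ 5

variable {T : Tab D}

theorem chkTree_cons {r : Fin D.rank} {e : Fin D.rank × Fin D.rank}
    {rest : List (Fin D.rank × Fin D.rank)} (h : chkTree T r (e :: rest) = true) :
    e.2 ∈ r :: rest.map Prod.fst ∧ e.1 ∉ r :: rest.map Prod.fst ∧
      T.cart e.1 (D.simple e.2) ≠ 0 ∧ T.cart e.2 (D.simple e.1) ≠ 0 ∧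
      (∀ k ∈ r :: rest.map Prod.fst, k ≠ e.2 → T.cart e.1 (D.simple k) = 0) ∧
      chkTree T r rest = true := by
  simp only [chkTree, Bool.and_eq_true, List.contains_iff_mem, Bool.not_eq_true',
    decide_eq_true_eq, List.all_eq_true, Bool.or_eq_true] at h
  obtain ⟨⟨⟨⟨⟨h1, h2⟩, h3⟩, h4⟩, h5⟩, h6⟩ := h
  refine ⟨h1, fun hm => ?_, h3, h4, fun k hk hne => (h5 k hk).resolve_left hne, h6⟩
  rw [← List.contains_iff_mem] at hm
  rw [hm] at h2
  exact Bool.noConfusion h2

variable {F : Type*} [Field F]

theorem chi_move (i : Fin D.rank) (t : Fˣ) (c : Fin D.rank → Fˣ) (s : ℕ) :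
    T.chi s (Pi.mulSingle i t * c) = t ^ T.cart i s * T.chi s c := by
  rw [map_mul]
  congr 1
  show ∏ j, (Pi.mulSingle i t : Fin D.rank → Fˣ) j ^ T.cart j s = _
  rw [Finset.prod_eq_single i (fun j _ hj => by simp [hj]) (by simp)]
  simp

variable [Fintype F]

theorem card_pow_eq_le {e : ℤ} (he : e ≠ 0) (a : Fˣ) [DecidableEq F] :
    (Finset.univ.filter fun s : Fˣ => a * s ^ e = 1).card ≤ e.natAbs := by
  rcases (Finset.univ.filter fun s : Fˣ => a * s ^ e = 1).eq_empty_or_nonempty with h | ⟨s0, hs0⟩
  · rw [h]; simp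
  refine le_trans ?_ (IsCyclic.card_pow_eq_one_le (α := Fˣ) (Int.natAbs_pos.mpr he))
  refine Finset.card_le_card_of_injOn (fun s => s * s0⁻¹) (fun s hs => ?_)
    (fun s _ t _ h => mul_right_cancel h)
  simp only [Finset.coe_filter, Finset.mem_univ, true_and, Set.mem_setOf_eq] at hs ⊢
  have h0 : a * s0 ^ e = 1 := (Finset.mem_filter.mp hs0).2
  have h1 : (s * s0⁻¹) ^ e = 1 := by
    rw [mul_zpow, _root_.inv_zpow, mul_inv_eq_one]
    exact mul_left_cancel (hs.trans h0.symm)
  rcases Int.natAbs_eq e with h | h <;> rw [h] at h1 <;>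
    simpa [_root_.zpow_neg] using h1

/-- A parameter avoiding the finitely many bad values at a node. -/
theorem exists_avoid (hq : 9 ≤ Fintype.card F) (Y : Tree T) (i : Fin D.rank)
    (A : Fin D.rank → Fˣ) (K : Finset (Fin D.rank))
    (hA : ∀ k ∈ K, T.cart i (D.simple k) = 0 → A k ≠ 1) :
    ∃ s : Fˣ, ∀ k ∈ K, A k * s ^ T.cart i (D.simple k) ≠ 1 := by
  classical
  set bad := K.biUnion fun k => Finset.univ.filter fun s : Fˣ => A k * s ^ T.cart i (D.simple k) = 1
  have hcard : bad.card < (Finset.univ : Finset Fˣ).card := by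
    refine lt_of_le_of_lt ((Finset.card_biUnion_le).trans (Finset.sum_le_sum (g := fun k : Fin D.rank =>
      (T.cart i (D.simple k)).natAbs) fun k hk => ?_)) ?_
    · by_cases h0 : T.cart i (D.simple k) = 0
      · rw [h0]
        simp [hA k hk h0]
      · exact card_pow_eq_le h0 (A k)
    · rw [Finset.card_univ, Fintype.card_units]
      have := (Finset.sum_le_sum_of_subset (f := fun k : Fin D.rank => (T.cart i (D.simple k)).natAbs)
        (Finset.subset_univ K)).trans (Y.deg i).2
      omega
  obtain ⟨s, -, hs⟩ := Finset.exists_mem_notMem_of_card_lt_card hcard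
  exact ⟨s, fun k hk h => hs (Finset.mem_biUnion.mpr ⟨k, hk, by simp [h]⟩)⟩

variable (G : T.Good) (W : Long T)

include G W in
theorem cell_move (h3 : 3 ≤ Fintype.card F) {g : GL D.Idx F} {c : Fin D.rank → Fˣ}
    (h : Cell (T := T) g c) (i : Fin D.rank) (hne : T.chi (D.simple i) c ≠ 1) (t : Fˣ) :
    Cell (T := T) g (Pi.mulSingle i t * c) := by
  obtain ⟨y, hy, v, hv, u, hu, e⟩ := h
  obtain ⟨V, hV, w, rfl⟩ := neg_split G W i hv
  obtain ⟨q, a, ha, rfl⟩ := G.pos_split_left i hu
  exact move G W h3 i hV ha w q c (Or.inl hne) t hy e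

include G W in
/-- A nontrivial element has a cell whose torus part is not central. -/
theorem exists_start (hq : 9 ≤ Fintype.card F) (Y : Tree T) {g : GL D.Idx F}
    (hg : g ∈ D.group F) (hg1 : g ≠ 1) :
    ∃ c i, Cell (T := T) g c ∧ T.chi (F := F) (D.simple (i : Fin D.rank)) c ≠ 1 := by
  classical
  by_contra hcon
  push Not at hcon
  obtain ⟨γ, hγ⟩ : ∃ γ : Fˣ, γ ^ (2 : ℤ) ≠ 1 := by
    obtain ⟨s, hs⟩ := exists_avoid hq Y Y.root (fun _ => 1) {Y.root}
      (fun k hk h => by rw [Finset.mem_singleton.mp hk, (Y.deg _).1] at h; omega)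
    exact ⟨s, by simpa [(Y.deg Y.root).1] using hs Y.root (Finset.mem_singleton_self _)⟩
  -- every cell decomposition of every conjugate is degenerate
  have hdeg : ∀ (y : GL D.Idx F), y ∈ D.group F → ∀ v ∈ D.negUnipotent F, ∀ u ∈ D.posUnipotent F,
      y * g * y⁻¹ = v * u → ∀ i : Fin D.rank,
        v ∈ G.US F (negUpSet D i) ∧ u ∈ G.US F {s | IsPos D s ∧ s ≠ D.simple i} := by
    intro y hy v hv u hu e i
    obtain ⟨V, hV, w, rfl⟩ := neg_split G W i hv
    obtain ⟨q, a, ha, rfl⟩ := G.pos_split_left i hu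
    by_cases h : w ≠ 0 ∨ q ≠ 0
    · exfalso
      have e' : y * g * y⁻¹ = V * G.full.x (negR D (D.simple i)) w * T.hT F 1 *
          (G.full.x (D.simple i) q * a) := by rw [map_one, mul_one]; exact e
      have hc := move G W (by omega) i hV ha w q 1
        (h.elim (fun h => Or.inr (Or.inl h)) (fun h => Or.inr (Or.inr h))) γ hy e'
      have := hcon _ i hc
      rw [chi_move, (Y.deg i).1, map_one, mul_one] at this
      exact hγ this
    · push Not at h
      rw [h.1, h.2, G.full.x_zero, G.full.x_zero, mul_one, one_mul]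
      exact ⟨hV, ha⟩
  obtain ⟨c, hc⟩ := exists_cell G W hg
  have hc1 : T.hT F c = 1 := (G.full.hT_eq_one_iff c).mpr fun j hj => hcon c ⟨j, hj⟩ hc
  obtain ⟨y, hy, v, hv, u, hu, e⟩ := hc
  rw [hc1, mul_one] at e
  have key : ∀ L : List (Fin D.rank),
      G.full.nw F L * v * (G.full.nw F L)⁻¹ ∈ D.negUnipotent F ∧
        G.full.nw F L * u * (G.full.nw F L)⁻¹ ∈ D.posUnipotent F := by
    intro L
    induction L with
    | nil => simpa [Full.nw] using ⟨hv, hu⟩
    | cons i L ih =>
      obtain ⟨h1, h2⟩ := hdeg (G.full.nw F L * y)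
        (mul_mem (G.monomial_le_group (G.nw_mem_monomial L)) hy) _ ih.1 _ ih.2
        (by
          rw [show G.full.nw F L * y * g * (G.full.nw F L * y)⁻¹ =
            G.full.nw F L * (y * g * y⁻¹) * (G.full.nw F L)⁻¹ by group, e]
          group) i
      have hns : ∀ {a : GL D.Idx F}, a ∈ G.US F (negUpSet D i) →
          G.full.ns F i * a * (G.full.ns F i)⁻¹ ∈ G.US F (negUpSet D i) := by
        intro a ha
        have hx := x_conj_negUp G W i (Or.inl rfl) (1 : F)
          (x_conj_negUp G W i (Or.inr rfl) (-(1 : F)⁻¹) (x_conj_negUp G W i (Or.inl rfl) (1 : F) ha))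
        convert hx using 1
        show G.full.nr (D.simple i) 1 * a * (G.full.nr (D.simple i) 1)⁻¹ = _
        unfold Full.nr
        group
      refine ⟨G.negUp_le_neg i ?_, G.Up_le_pos i ?_⟩
      · rw [G.nw_cons]
        convert hns h1 using 1
        group
      · rw [G.nw_cons]
        convert G.ns_conj_Up i h2 using 1
        group
  obtain ⟨k1, k2⟩ := key W.L
  have hu1 : u = 1 := by
    have hb := G.pos_inf_neg k2 (pos_to_neg G W hu)
    rwa [conj_eq_one_iff] at hb
  have hv1 : v = 1 := by
    have hb := neg_to_pos G W k1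
    rw [show (n0 G W F)⁻¹ * (G.full.nw F W.L * v * (G.full.nw F W.L)⁻¹) * n0 G W F = v by
      simp only [n0]; group] at hb
    exact G.pos_inf_neg hb hv
  rw [hu1, hv1, mul_one, conj_eq_one_iff] at e
  exact hg1 e

theorem tree_edge (Y : Tree T) (S : Fin D.rank → Prop) (h1 : ∃ i, S i) (h2 : ∃ i, ¬S i) :
    ∃ i k, S i ∧ ¬S k ∧ T.cart i (D.simple k) ≠ 0 := by
  by_contra hc
  push Not at hc
  have key : ∀ l : List (Fin D.rank × Fin D.rank), chkTree T Y.root l = true →
      ∀ k ∈ Y.root :: l.map Prod.fst, (S k ↔ S Y.root) := by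
    intro l
    induction l with
    | nil => intro _ k hk; simp only [List.map_nil, List.mem_singleton] at hk; rw [hk]
    | cons e rest ih =>
      intro hl k hk
      obtain ⟨hp, -, ha, hb, -, hrest⟩ := chkTree_cons hl
      simp only [List.map_cons, List.mem_cons] at hk
      rcases hk with rfl | rfl | hk
      · rfl
      · rw [← ih hrest e.2 hp]
        exact ⟨fun h => not_not.mp fun h' => ha (hc e.1 e.2 h h'),
          fun h => not_not.mp fun h' => hb (hc e.2 e.1 h h')⟩
      · exact ih hrest k (List.mem_cons_of_mem _ hk)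
  obtain ⟨i, hi⟩ := h1
  obtain ⟨k, hk⟩ := h2
  exact hk ((key _ Y.ok k (Y.all k)).mpr ((key _ Y.ok i (Y.all i)).mp hi))

include G W in
/-- A nontrivial element has a cell whose torus part moves every fundamental root. -/
theorem exists_full (hq : 9 ≤ Fintype.card F) (Y : Tree T) {g : GL D.Idx F}
    (hg : g ∈ D.group F) (hg1 : g ≠ 1) :
    ∃ c, Cell (T := T) g c ∧ ∀ k : Fin D.rank, T.chi (F := F) (D.simple k) c ≠ 1 := by
  classical
  let N : (Fin D.rank → Fˣ) → ℕ := fun c =>
    (Finset.univ.filter fun k : Fin D.rank => T.chi (D.simple k) c = 1).card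
  suffices ∀ n c, N c = n → Cell (T := T) g c → (∃ i : Fin D.rank, T.chi (D.simple i) c ≠ 1) →
      ∃ c, Cell (T := T) g c ∧ ∀ k : Fin D.rank, T.chi (F := F) (D.simple k) c ≠ 1 by
    obtain ⟨c, i, hc, hi⟩ := exists_start G W hq Y hg hg1
    exact this _ c rfl hc ⟨i, hi⟩
  intro n
  induction n using Nat.strong_induction_on with
  | _ n ih =>
    intro c hn hc hex
    subst hn
    by_cases hall : ∀ k : Fin D.rank, T.chi (F := F) (D.simple k) c ≠ 1
    · exact ⟨c, hc, hall⟩
    push Not at hall
    obtain ⟨i, k, hi, hk, hik⟩ := tree_edge Y (fun i => T.chi (F := F) (D.simple i) c ≠ 1) hex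
      (by obtain ⟨k, hk⟩ := hall; exact ⟨k, not_not.mpr hk⟩)
    simp only [not_not] at hk
    set S := (Finset.univ.filter fun l : Fin D.rank => T.chi (D.simple l) c ≠ 1) with hS
    obtain ⟨s, hs⟩ := exists_avoid hq Y i (fun l => T.chi (D.simple l) c) (insert k S)
      (fun l hl h0 => by
        rcases Finset.mem_insert.mp hl with rfl | hl
        · exact absurd h0 hik
        · exact (Finset.mem_filter.mp hl).2)
    have hnew : ∀ l ∈ insert k S, T.chi (D.simple l) (Pi.mulSingle i s * c) ≠ 1 := fun l hl => by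
      rw [chi_move, mul_comm]; exact hs l hl
    refine ih _ ?_ _ rfl (cell_move G W (by omega) hc i hi s)
      ⟨k, hnew k (Finset.mem_insert_self _ _)⟩
    refine Finset.card_lt_card (Finset.ssubset_iff_of_subset (fun l hl => ?_) |>.mpr
      ⟨k, by simp [hk], ?_⟩)
    · simp only [Finset.mem_filter, Finset.mem_univ, true_and] at hl ⊢
      by_contra h
      exact hnew l (Finset.mem_insert_of_mem (by simp [hS, h])) hl
    · simp only [Finset.mem_filter, Finset.mem_univ, true_and]
      exact hnew k (Finset.mem_insert_self _ _)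

include G W in
theorem descend (hq : 9 ≤ Fintype.card F) (Y : Tree T) {g : GL D.Idx F} (tgt : Fin D.rank → Fˣ) :
    ∀ l : List (Fin D.rank × Fin D.rank), chkTree T Y.root l = true →
      ∀ c, Cell (T := T) g c →
        (∀ k ∈ Y.root :: l.map Prod.fst, T.chi (F := F) (D.simple k) c ≠ 1) →
        (∀ k ∉ Y.root :: l.map Prod.fst, c k = tgt k) → Cell (T := T) g tgt := by
  classical
  intro l
  induction l with
  | nil =>
    intro _ c hc hne heq
    have := cell_move G W (by omega) hc Y.root (hne _ (List.mem_cons_self ..))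
      (tgt Y.root * (c Y.root)⁻¹)
    convert this using 1
    funext k
    rcases eq_or_ne k Y.root with rfl | hk
    · simp
    · simp [hk, heq k (by simp [hk])]
  | cons e rest ih =>
    obtain ⟨j, p⟩ := e
    intro hl c hc hne heq
    obtain ⟨hp, hj, -, hpj, hfar, hrest⟩ := chkTree_cons hl
    simp only at hp hj hpj hfar
    have hjp : j ≠ p := fun h => hj (h ▸ hp)
    have hU : ∀ k ∈ Y.root :: rest.map Prod.fst, k ∈ Y.root :: ((j, p) :: rest).map Prod.fst :=
      fun k hk => by
        simp only [List.map_cons, List.mem_cons] at hk ⊢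
        rcases hk with h | h
        · exact Or.inl h
        · exact Or.inr (Or.inr h)
    have hjU : j ∈ Y.root :: ((j, p) :: rest).map Prod.fst := by simp
    set τ : Fˣ := tgt j * (c j)⁻¹
    let A : Fin D.rank → Fˣ := fun k =>
      if k = p then T.chi (D.simple k) c * τ ^ T.cart j (D.simple p) else T.chi (D.simple k) c
    obtain ⟨s, hs⟩ := exists_avoid hq Y p A (Y.root :: ((j, p) :: rest).map Prod.fst).toFinset
      (fun k hk h0 => by
        by_cases hkp : k = p
        · rw [hkp, (Y.deg p).1] at h0; omega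
        · simp only [A, if_neg hkp]; exact hne k (List.mem_toFinset.mp hk))
    have hc1 := cell_move G W (by omega) hc p (hne p (hU p hp)) s
    have hj1 : T.chi (D.simple j) (Pi.mulSingle p s * c) ≠ 1 := by
      have := hs j (List.mem_toFinset.mpr hjU)
      simp only [A, if_neg hjp] at this
      rw [chi_move, mul_comm]; exact this
    have hc2 := cell_move G W (by omega) hc1 j hj1 τ
    refine ih hrest _ hc2 (fun k hk => ?_) (fun k hk => ?_)
    · have := hs k (List.mem_toFinset.mpr (hU k hk))
      rw [chi_move, chi_move]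
      by_cases hkp : k = p
      · subst hkp
        simp only [A, if_pos rfl] at this
        rwa [mul_comm (T.chi (F := F) _ _) (τ ^ _), mul_assoc,
          mul_comm (T.chi (F := F) _ _) (s ^ _)] at this
      · simp only [A, if_neg hkp] at this
        rw [hfar k hk hkp, _root_.zpow_zero, one_mul, mul_comm]
        exact this
    · have hkp : k ≠ p := fun h => hk (h ▸ hp)
      rcases eq_or_ne k j with rfl | hkj
      · simp [τ, hkp, mul_assoc]
      · have := heq k (by
          simp only [List.map_cons, List.mem_cons, not_or] at hk ⊢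
          exact ⟨hk.1, hkj, hk.2⟩)
        simp [hkp, hkj, this]

include G W in
/-- Prescribed torus part. -/
theorem exists_prescribed (hq : 9 ≤ Fintype.card F) (Y : Tree T) {g : GL D.Idx F}
    (hg : g ∈ D.group F) (hg1 : g ≠ 1) (tgt : Fin D.rank → Fˣ) : Cell (T := T) g tgt := by
  obtain ⟨c, hc, hne⟩ := exists_full G W hq Y hg hg1
  exact descend G W hq Y tgt Y.order Y.ok c hc (fun k _ => hne k)
    (fun k hk => absurd (Y.all k) hk)

end CfsgLib.ClassSquare.Exc
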