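import Cfsg.Agent.OreSL.Large

/-!
# Nonscalar unimodular matrices as quotients of two conjugates of one regular matrix
-/

set_option autoImplicit false

namespace CfsgLib.ClassSquare

open Matrix CfsgLib.Sourour CfsgLib.RegUnip CfsgLib.OreSL
open scoped MatrixGroups

variable {F : Type*} [Field F] {n : ℕ}

/-- Every nonscalar element is `M * N⁻¹` with `M`, `N` similar to `T`. -/
def Divides (T : SpecialLinearGroup (Fin n) F) : Prop :=
  ∀ l : SpecialLinearGroup (Fin n) F, (∀ c : F, (l : Matrix (Fin n) (Fin n) F) ≠ c • 1) →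
    ∃ M N : SpecialLinearGroup (Fin n) F, l = M * N⁻¹ ∧
      Sim (M : Matrix (Fin n) (Fin n) F) T ∧ Sim (N : Matrix (Fin n) (Fin n) F) T

theorem sim_inverse {ι : Type*} [Fintype ι] [DecidableEq ι] {A A' B B' : Matrix ι ι F}
    (h : Sim A B) (hA : A * A' = 1) (hB : B * B' = 1) : Sim A' B' := by
  obtain ⟨P, hP, e⟩ := h
  refine ⟨P, hP, ?_⟩
  calc P * A' = (B' * B) * (P * A') := by rw [mul_eq_one_comm.mp hB, Matrix.one_mul]
    _ = B' * (B * P) * A' := by simp only [Matrix.mul_assoc]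
    _ = B' * (P * A) * A' := by rw [e]
    _ = B' * P * (A * A') := by simp only [Matrix.mul_assoc]
    _ = B' * P := by rw [hA, Matrix.mul_one]

theorem sl_mul_inv {ι : Type*} [Fintype ι] [DecidableEq ι] (A : SpecialLinearGroup ι F) :
    (A : Matrix ι ι F) * ((A⁻¹ : SpecialLinearGroup ι F) : Matrix ι ι F) = 1 :=
  congrArg (fun M : SpecialLinearGroup ι F => (M : Matrix ι ι F)) (mul_inv_cancel A)

theorem sl_ext_mul {ι : Type*} [Fintype ι] [DecidableEq ι] {A B C D : SpecialLinearGroup ι F}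
    (h : (A : Matrix ι ι F) * (B : Matrix ι ι F) = (C : Matrix ι ι F) * (D : Matrix ι ι F)) :
    A * B = C * D :=
  Subtype.ext h

theorem sl_sim_inv {A B : SpecialLinearGroup (Fin n) F}
    (h : Sim (A : Matrix (Fin n) (Fin n) F) B) :
    Sim ((A⁻¹ : SpecialLinearGroup (Fin n) F) : Matrix (Fin n) (Fin n) F)
      ((B⁻¹ : SpecialLinearGroup (Fin n) F) : Matrix (Fin n) (Fin n) F) := by
  exact sim_inverse h (sl_mul_inv A) (sl_mul_inv B)

/-- The Jordan block in `SL n`. -/
def uSL (n : ℕ) (F : Type*) [Field F] : SpecialLinearGroup (Fin n) F := ⟨uMat, det_uMat⟩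

theorem divides_uSL (hK : 4 ≤ Cardinal.mk F) (hn : 2 ≤ n) : Divides (uSL n F) := by
  intro l hl
  obtain ⟨x, y, e⟩ := exists_prod_conj hK hn _ hl l.det_coe
    ⟨uMat, uMat⁻¹, mul_nonsing_inv _ (by rw [det_uMat]; exact isUnit_one),
      nonsing_inv_mul _ (by rw [det_uMat]; exact isUnit_one)⟩ rfl
  set u : (Matrix (Fin n) (Fin n) F)ˣ := ⟨uMat, uMat⁻¹, _, _⟩
  rw [Units.val_mul] at e
  set A : Matrix (Fin n) (Fin n) F := ↑(x * u * x⁻¹) with hA
  set B : Matrix (Fin n) (Fin n) F := ↑(y * u * y⁻¹) with hB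
  have sA : Sim A uMat := (Sim.of_units x (by simp [A, u])).symm
  have sB : Sim B uMat := (Sim.of_units y (by simp [B, u])).symm
  set M : SpecialLinearGroup (Fin n) F := ⟨A, sA.det_eq.trans det_uMat⟩
  set N' : SpecialLinearGroup (Fin n) F := ⟨B, sB.det_eq.trans det_uMat⟩
  refine ⟨M, N'⁻¹, by rw [inv_inv]; exact Subtype.ext e, sA, ?_⟩
  obtain ⟨J, hJ, hJs⟩ := exists_uMat_inverse (F := F) (k := n)
  exact (sim_inverse sB (sl_mul_inv N') hJ).trans hJs.symm

theorem exists_LU_conj (hK : 4 ≤ Cardinal.mk F) (hn : 2 ≤ n) (g : Matrix (Fin n) (Fin n) F)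
    (hg : ∀ c : F, g ≠ c • 1) (hdet : g.det = 1) :
    ∃ (X : (Matrix (Fin n) (Fin n) F)ˣ) (L U : Matrix (Fin n) (Fin n) F),
      RegLower L ∧ (RegLower U ∨ RegUpper U) ∧
        g = (X : Matrix (Fin n) (Fin n) F) * (L * U) * (↑(X⁻¹) : Matrix (Fin n) (Fin n) F) := by
  obtain ⟨T₄, hT⟩ := exists_four hK
  set A : Module.End F (Fin n → F) := Matrix.toLin' g with hA
  have hgA : LinearMap.toMatrix' A = g := LinearMap.toMatrix'_toLin' g
  have hAdet : LinearMap.det A = 1 := by rw [hA, LinearMap.det_toLin', hdet]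
  have hsc : ∀ μ : F, A ≠ μ • 1 := by
    intro μ e
    refine hg μ ?_
    rw [← hgA, e, map_smul, LinearMap.toMatrix'_one]
  suffices h : ∃ (b : Module.Basis (Fin n) F (Fin n → F)) (L U : Matrix (Fin n) (Fin n) F),
      RegLower L ∧ (RegLower U ∨ RegUpper U) ∧ LinearMap.toMatrix b b A = L * U by
    obtain ⟨b, L, U, hL, hU, hLU⟩ := h
    obtain ⟨X, hX⟩ := toMatrix'_eq_conj A b
    rw [hLU, hgA] at hX
    exact ⟨X, L, U, hL, hU, hX⟩
  by_cases hr : 2 ≤ Module.finrank F (LinearMap.range (A - 1))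
  · obtain ⟨j, rfl⟩ : ∃ j, n = j + 1 := ⟨n - 1, by omega⟩
    obtain ⟨b, L, U, hL, hU, hLU, -, -⟩ := exists_LU T₄ hT (exists_five hK) j _
      (Module.finrank_fin_fun F) A hAdet (fun _ => ⟨hr, hsc⟩) (Pi.single 0 1) (by simp)
      (LinearMap.proj 0) (fun e => by simpa using LinearMap.congr_fun e (Pi.single 0 1))
    exact ⟨b, L, U, hL, Or.inr hU, hLU⟩
  · obtain ⟨j, rfl⟩ : ∃ j, n = j + 2 := ⟨n - 2, by omega⟩
    obtain ⟨b, hb⟩ := exists_basis_transvection A hAdet
      (fun e => hsc 1 (by rw [one_smul, e])) (by omega)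
    obtain ⟨L, U, hL, hU, hLU⟩ := transvection_LU (n := j) T₄ hT
    exact ⟨b, L, U, hL, Or.inl hU, hb.trans hLU⟩

section TModel

variable {k : ℕ}

/-- `diag (x, x⁻¹)` and a Jordan block, in `SL (2 + k)`. -/
def tSL (x : Fˣ) (k : ℕ) : SpecialLinearGroup (Fin (2 + k)) F :=
  ⟨reindex finSumFinEquiv finSumFinEquiv (model (x : F) ((x⁻¹ : Fˣ) : F) k), by
    rw [det_reindex_self, model, det_fromBlocks_zero₂₁, det_uMat, det_diagonal, Fin.prod_univ_two]
    simp⟩

theorem tSL_sim_model {M : Matrix (Fin 2 ⊕ Fin k) (Fin 2 ⊕ Fin k) F} {x : Fˣ}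
    (h : Sim M (model (x : F) ((x⁻¹ : Fˣ) : F) k)) :
    Sim (reindex finSumFinEquiv finSumFinEquiv M)
      (tSL x k : Matrix (Fin (2 + k)) (Fin (2 + k)) F) :=
  h.reindex finSumFinEquiv

theorem divides_tSL (hK : 4 ≤ Cardinal.mk F) {x : Fˣ} (hxx : x ≠ x⁻¹) : Divides (tSL x k) := by
  intro l hl
  obtain ⟨X, L, U, hL, hU, hX⟩ := exists_LU_conj hK (Nat.le_add_right 2 k) _ hl l.det_coe
  set a : F := (x : F)
  set a' : F := ((x⁻¹ : Fˣ) : F)
  have haa : a * a' = 1 := Units.mul_inv x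
  have hne : a ≠ a' := fun e => hxx (Units.ext e)
  have ha : a ≠ 1 := fun e => hxx (by rw [show x = 1 from Units.ext e, inv_one])
  have ha' : a' ≠ 1 := fun e => hxx (by
    rw [show x = 1 from inv_eq_one.mp (Units.ext e), inv_one])
  set e := (finSumFinEquiv (m := 2) (n := k))
  set D := diagonal (diagD a a' k)
  set D' := diagonal (diagD a' a k)
  have hDD : D * D' = 1 := by
    rw [diagonal_mul_diagonal, ← diagonal_one]
    congr 1
    funext i
    rcases i with i | i
    · fin_cases i <;> simp [diagD, haa, mul_comm a' a]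
    · simp [diagD]
  obtain ⟨J, hJ, hJs⟩ := exists_uMat_inverse (F := F) (k := k)
  set T' : Matrix (Fin 2 ⊕ Fin k) (Fin 2 ⊕ Fin k) F :=
    Matrix.fromBlocks (diagonal ![a', a]) 0 0 J
  have hTT : model a a' k * T' = 1 := by
    simp only [T', model, fromBlocks_multiply, Matrix.mul_zero, Matrix.zero_mul, add_zero, zero_add,
      hJ, diagonal_mul_diagonal]
    convert fromBlocks_one using 2
    rw [← diagonal_one]
    congr 1
    funext i
    fin_cases i <;> simp [haa, mul_comm a' a]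
  have hN : Sim (D' * U.submatrix e e) T' := by
    rcases hU with hU | hU
    · exact (sim_model_lower hne.symm ha' ha hU).2.trans (Sim.fromBlocks (Sim.refl _) hJs)
    · obtain ⟨P, hP, hPe⟩ := (sim_model_lower (k := k) hne.symm ha' ha hU).1
      have h2 : Sim (D' * U.submatrix e e) (model a' a k)ᵀ := by
        refine Sim.symm ⟨Pᵀ, by rwa [det_transpose], ?_⟩
        have := congrArg Matrix.transpose hPe
        simp only [transpose_mul, diagonal_transpose, transpose_submatrix, transpose_transpose] at this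
        exact this.symm
      refine h2.trans ?_
      rw [model, fromBlocks_transpose, diagonal_transpose, transpose_zero, transpose_zero]
      exact Sim.fromBlocks (Sim.refl _) ((sim_uMat regLower_transpose_uMat).trans hJs)
  have hM : Sim (L.submatrix e e * D) (model a a' k) := (sim_model_lower hne ha ha' hL).1
  set M₀ := reindex e e (L.submatrix e e * D)
  set N₀ := reindex e e (D' * U.submatrix e e)
  have hMN : M₀ * N₀ = L * U := by
    simp only [M₀, N₀, reindex_apply]
    rw [submatrix_mul_equiv, Matrix.mul_assoc, ← Matrix.mul_assoc D, hDD, Matrix.one_mul,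
      ← submatrix_mul L U e e e e.bijective, submatrix_submatrix]
    simp
  have sM : Sim ((X : Matrix (Fin (2 + k)) (Fin (2 + k)) F) * M₀ * (↑X⁻¹ : Matrix (Fin (2 + k)) (Fin (2 + k)) F))
      (tSL x k : Matrix (Fin (2 + k)) (Fin (2 + k)) F) :=
    (Sim.of_units X rfl).symm.trans (tSL_sim_model hM)
  have sN : Sim ((X : Matrix (Fin (2 + k)) (Fin (2 + k)) F) * N₀ * (↑X⁻¹ : Matrix (Fin (2 + k)) (Fin (2 + k)) F))
      (reindex e e T') :=
    (Sim.of_units X rfl).symm.trans (hN.reindex e)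
  have hTT' : (tSL x k : Matrix (Fin (2 + k)) (Fin (2 + k)) F) * reindex e e T' = 1 := by
    show reindex e e (model a a' k) * reindex e e T' = 1
    simp only [reindex_apply]
    rw [submatrix_mul_equiv, hTT, submatrix_one_equiv]
  have hdN : (reindex e e T').det = 1 := by
    have := congrArg Matrix.det hTT'
    rwa [det_mul, (tSL x k).det_coe, det_one, one_mul] at this
  set M : SpecialLinearGroup (Fin (2 + k)) F := ⟨_, sM.det_eq.trans (tSL x k).det_coe⟩
  set N : SpecialLinearGroup (Fin (2 + k)) F := ⟨_, sN.det_eq.trans hdN⟩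
  refine ⟨M, N⁻¹, ?_, sM, ?_⟩
  · rw [inv_inv]
    apply Subtype.ext
    show (l : Matrix (Fin (2 + k)) (Fin (2 + k)) F) = (M : Matrix (Fin (2 + k)) (Fin (2 + k)) F) * (N : Matrix (Fin (2 + k)) (Fin (2 + k)) F)
    refine hX.trans ?_
    rw [← hMN]
    show _ = (X : Matrix (Fin (2 + k)) (Fin (2 + k)) F) * M₀ * (↑X⁻¹ : Matrix (Fin (2 + k)) (Fin (2 + k)) F) *
      ((X : Matrix (Fin (2 + k)) (Fin (2 + k)) F) * N₀ * (↑X⁻¹ : Matrix (Fin (2 + k)) (Fin (2 + k)) F))
    simp only [Matrix.mul_assoc]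
    rw [← Matrix.mul_assoc (↑X⁻¹ : Matrix (Fin (2 + k)) (Fin (2 + k)) F) (X : Matrix (Fin (2 + k)) (Fin (2 + k)) F),
      Units.inv_mul, Matrix.one_mul]
  · refine sim_inverse sN ?_ (mul_eq_one_comm.mp hTT')
    exact sl_mul_inv N

/-- Matrices similar to the model are conjugate to it under `SL`. -/
theorem conj_of_sim {x : Fˣ} {M : SpecialLinearGroup (Fin (2 + k)) F}
    (h : Sim (M : Matrix (Fin (2 + k)) (Fin (2 + k)) F) (tSL x k : Matrix (Fin (2 + k)) (Fin (2 + k)) F)) :
    ∃ P : SpecialLinearGroup (Fin (2 + k)) F, M = P * tSL x k * P⁻¹ := by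
  obtain ⟨Q, hQ, e⟩ := h
  set e' := (finSumFinEquiv (m := 2) (n := k))
  set C : Matrix (Fin (2 + k)) (Fin (2 + k)) F :=
    reindex e' e' (Matrix.fromBlocks (diagonal ![Q.det⁻¹, 1]) 0 0 1) with hC
  have hCd : C.det = Q.det⁻¹ := by
    rw [hC, det_reindex_self, det_fromBlocks_zero₂₁, det_diagonal, det_one, mul_one, Fin.prod_univ_two]
    simp
  have hCT : C * (tSL x k : Matrix (Fin (2 + k)) (Fin (2 + k)) F) = (tSL x k : Matrix (Fin (2 + k)) (Fin (2 + k)) F) * C := by
    show C * reindex e' e' _ = reindex e' e' _ * C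
    simp only [hC, reindex_apply, submatrix_mul_equiv, model, fromBlocks_multiply, Matrix.mul_zero,
      Matrix.zero_mul, add_zero, zero_add, Matrix.one_mul, Matrix.mul_one, diagonal_mul_diagonal]
    congr 3
    funext i
    exact mul_comm _ _
  let P : SpecialLinearGroup (Fin (2 + k)) F := ⟨C * Q, by rw [det_mul, hCd, inv_mul_cancel₀ hQ]⟩
  refine ⟨P⁻¹, ?_⟩
  rw [inv_inv]
  have : P * M = tSL x k * P := by
    apply Subtype.ext
    show C * Q * (M : Matrix _ _ F) = _ * (C * Q)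
    rw [Matrix.mul_assoc, e, ← Matrix.mul_assoc, hCT, Matrix.mul_assoc]
  rw [mul_assoc, ← this]
  group

theorem sim_model_swap (a b : F) : Sim (model a b k) (model b a k) := by
  refine Sim.fromBlocks ⟨!![0, 1; 1, 0], by simp [det_fin_two], ?_⟩ (Sim.refl _)
  ext i j
  fin_cases i <;> fin_cases j <;> simp [Matrix.mul_apply, Fin.sum_univ_two]

theorem tSL_inv_sim (x : Fˣ) :
    Sim (((tSL x k)⁻¹ : SpecialLinearGroup (Fin (2 + k)) F) : Matrix (Fin (2 + k)) (Fin (2 + k)) F) (tSL x k : Matrix (Fin (2 + k)) (Fin (2 + k)) F) := by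
  obtain ⟨J, hJ, hJs⟩ := exists_uMat_inverse (F := F) (k := k)
  set e := (finSumFinEquiv (m := 2) (n := k))
  set a : F := (x : F)
  set a' : F := ((x⁻¹ : Fˣ) : F)
  have haa : a * a' = 1 := Units.mul_inv x
  have h1 : model a a' k * Matrix.fromBlocks (diagonal ![a', a]) 0 0 J = 1 := by
    simp only [model, fromBlocks_multiply, Matrix.mul_zero, Matrix.zero_mul, add_zero, zero_add,
      hJ, diagonal_mul_diagonal]
    convert fromBlocks_one using 2
    rw [← diagonal_one]
    congr 1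
    funext i
    fin_cases i <;> simp [haa, mul_comm a' a]
  have h2 : Sim (Matrix.fromBlocks (diagonal ![a', a]) 0 0 J) (model a a' k) :=
    (Sim.fromBlocks (Sim.refl _) hJs.symm).trans (sim_model_swap a' a)
  have h3 : (((tSL x k)⁻¹ : SpecialLinearGroup (Fin (2 + k)) F) : Matrix (Fin (2 + k)) (Fin (2 + k)) F) =
      reindex e e (Matrix.fromBlocks (diagonal ![a', a]) 0 0 J) := by
    have h4 : (tSL x k : Matrix (Fin (2 + k)) (Fin (2 + k)) F) * reindex e e (Matrix.fromBlocks (diagonal ![a', a]) 0 0 J) = 1 := by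
      show reindex e e (model a a' k) * _ = 1
      simp only [reindex_apply]
      rw [submatrix_mul_equiv, h1, submatrix_one_equiv]
    exact left_inv_eq_right_inv (mul_eq_one_comm.mp (sl_mul_inv (tSL x k))) h4
  rw [h3]
  exact tSL_sim_model h2

theorem tSL_transpose_sim (x : Fˣ) :
    Sim (tSL x k : Matrix (Fin (2 + k)) (Fin (2 + k)) F)ᵀ (tSL x k : Matrix (Fin (2 + k)) (Fin (2 + k)) F) := by
  show Sim (reindex finSumFinEquiv finSumFinEquiv _)ᵀ _
  rw [transpose_reindex]
  refine tSL_sim_model ?_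
  rw [model, fromBlocks_transpose, diagonal_transpose, transpose_zero, transpose_zero]
  exact Sim.fromBlocks (Sim.refl _) (sim_uMat regLower_transpose_uMat)

theorem model_upper (a b : F) (i j : Fin 2 ⊕ Fin k)
    (h : (finSumFinEquiv j).val < (finSumFinEquiv i).val) : model a b k i j = 0 := by
  rcases i with i | i <;> rcases j with j | j <;> simp only [model, fromBlocks_apply₁₁,
    fromBlocks_apply₁₂, fromBlocks_apply₂₁, fromBlocks_apply₂₂, Matrix.zero_apply]
  · refine diagonal_apply_ne _ fun e => ?_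
    subst e
    simp at h
  · simp at h
    simp only [uMat, Matrix.of_apply]
    rw [if_neg (by omega), if_neg (by omega), add_zero]

end TModel

end CfsgLib.ClassSquare
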