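import Cfsg.Agent.ClassSquare.Core
import Cfsg.Agent.ClassSquare.GL
import Mathlib.FieldTheory.Finite.Basic

/-!
# `PSL n` is the square of a conjugacy class
-/

set_option autoImplicit false

namespace CfsgLib.ClassSquare

open Matrix CfsgLib.OreSL
open scoped MatrixGroups

variable {F : Type*} [Field F] [Fintype F]

theorem four_le_mk (hq : 4 ≤ Fintype.card F) : 4 ≤ Cardinal.mk F := by
  rw [Cardinal.mk_fintype]
  exact_mod_cast hq

theorem exists_unit_ne_inv (hq : 4 ≤ Fintype.card F) : ∃ x : Fˣ, x ≠ x⁻¹ := by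
  classical
  obtain ⟨a, -, ha⟩ := Finset.exists_mem_notMem_of_card_lt_card (s := ({0, 1, -1} : Finset F))
    (t := (Finset.univ : Finset F))
    (by have := Finset.card_le_three (a := (0 : F)) (b := 1) (c := -1); rw [Finset.card_univ]; omega)
  simp only [Finset.mem_insert, Finset.mem_singleton, not_or] at ha
  refine ⟨Units.mk0 a ha.1, fun e => ?_⟩
  have h : a * a = 1 := by
    have := congrArg (fun u : Fˣ => (u : F) * a) e
    simpa [ha.1] using this
  rcases mul_self_eq_one_iff.mp h with h | h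
  · exact ha.2.1 h
  · exact ha.2.2 h

theorem psl_class_square (hq : 4 ≤ Fintype.card F) {n : ℕ} (hn : 2 ≤ n) :
    ∃ c : ProjectiveSpecialLinearGroup (Fin n) F, ∀ g : ProjectiveSpecialLinearGroup (Fin n) F,
      ∃ x y, g = (x * c * x⁻¹) * (y * c * y⁻¹) := by
  obtain ⟨k, rfl⟩ := Nat.exists_eq_add_of_le hn
  obtain ⟨x, hx⟩ := exists_unit_ne_inv hq
  obtain ⟨P, hP⟩ := conj_of_sim (k := k) (tSL_inv_sim x)
  let S : Frame (SpecialLinearGroup (Fin (2 + k)) F) :=
    { Um := ⊥, Up := ⊥, L := ⊤, z := 1, s := tSL x k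
      s_mem := trivial
      z_comm := fun l _ => by simp
      norm_m := fun l _ v hv => by
        rw [Subgroup.mem_bot] at hv ⊢; subst hv; group
      norm_p := fun l _ v hv => by
        rw [Subgroup.mem_bot] at hv ⊢; subst hv; group
      z_norm_m := fun v hv => by simpa using hv
      z_norm_p := fun v hv => by simpa using hv
      fix_m := fun v hv _ => Subgroup.mem_bot.mp hv
      fix_p := fun v hv _ => Subgroup.mem_bot.mp hv
      real := ⟨P, by simpa using hP⟩ }
  refine S.covers (QuotientGroup.mk' (Subgroup.center (SpecialLinearGroup (Fin (2 + k)) F)))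
    (QuotientGroup.mk'_surjective _) fun g hg => ?_
  obtain ⟨M, N, e, hM, hN⟩ := divides_tSL (k := k) (four_le_mk hq) hx g fun c hc => hg (by
    refine (QuotientGroup.eq_one_iff g).mpr (Subgroup.mem_center_iff.mpr fun h => Subtype.ext ?_)
    show (h : Matrix (Fin (2 + k)) (Fin (2 + k)) F) * (g : Matrix (Fin (2 + k)) (Fin (2 + k)) F) =
      (g : Matrix (Fin (2 + k)) (Fin (2 + k)) F) * (h : Matrix (Fin (2 + k)) (Fin (2 + k)) F)
    rw [hc]
    simp)
  obtain ⟨A, rfl⟩ := conj_of_sim hM
  obtain ⟨B, rfl⟩ := conj_of_sim hN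
  refine ⟨1, 1, one_mem _, A, trivial, B, trivial, 1, one_mem _, ?_⟩
  rw [e]
  simp only [S]
  group

end CfsgLib.ClassSquare
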