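import Cfsg.Agent.ClassSquare.ExcFix
import Cfsg.Agent.ClassSquare.ExcMoves
import Cfsg.Agent.ClassSquare.Core
import Cfsg.Agent.ClassSquare.PSL

/-!
A Chevalley group with a chain is the square of a conjugacy class.
-/

set_option autoImplicit false
set_option linter.unusedSectionVars false

namespace CfsgLib.ClassSquare.Exc

open Cfsg.Lie Matrix CfsgLib.Chev CfsgLib.Chev.Tab CfsgLib.OreSL CfsgLib.RegUnip
open scoped MatrixGroups

variable {D : ChevalleyDatum} {T : Tab D} {W : Long T} {k : ℕ} (C : Chain W k) (G : T.Good)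
variable {F : Type*} [Field F] [Fintype F] (φ : SpecialLinearGroup (Fin (k + 2)) F →* GL D.Idx F)
  (hφ : ∀ i j (hij : i ≠ j) (t : F), φ (SpecialLinearGroup.transvection hij t) = C.X G i j t)

include hφ in
theorem Chain.lower_part {u : GL D.Idx F}
    (hu : u ∈ G.US F {r | r < D.nroots ∧ ¬ IsPos D r ∧ fv T C.v r = 0}) :
    ∃ A : SpecialLinearGroup (Fin (k + 2)) F, φ A = u ∧ LowUni A.1 := by
  have hx : ∀ r, r ∈ {r | r < D.nroots ∧ ¬ IsPos D r ∧ fv T C.v r = 0} → ∀ t : F,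
      ∃ A : SpecialLinearGroup (Fin (k + 2)) F, φ A = G.full.x r t ∧ LowUni A.1 := by
    rintro r ⟨hr, hpos, hf⟩ t
    obtain ⟨i, j, hij, rfl⟩ : ∃ i j : Fin (k + 2), i ≠ j ∧ C.R i j = r := C.cover ⟨r, hr⟩ hf
    refine ⟨SpecialLinearGroup.transvection hij ((C.ε i j : F) * t),
      (C.x_eq G φ hφ i j hij t).symm, ?_⟩
    rw [CfsgLib.Linear.transvec_coe]
    refine lowUni_transvection (lt_of_le_of_ne (not_lt.mp fun h => hpos ?_) hij.symm) _
    exact (C.root i j hij).2.2.1.mpr h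
  induction hu using Subgroup.closure_induction'' with
  | mem x hx' => obtain ⟨r, hr, t, rfl⟩ := hx'; exact hx r hr t
  | inv_mem x hx' =>
    obtain ⟨r, hr, t, rfl⟩ := hx'
    rw [G.full.x_inv]
    exact hx r hr (-t)
  | one => exact ⟨1, map_one φ, LowUni.one⟩
  | mul x y _ _ hx' hy' =>
    obtain ⟨A, rfl, hA⟩ := hx'
    obtain ⟨B, rfl, hB⟩ := hy'
    exact ⟨A * B, map_mul φ A B, hA.mul hB⟩

include hφ in
theorem Chain.upper_part {u : GL D.Idx F} (hu : u ∈ G.US F C.Jp) :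
    ∃ B : SpecialLinearGroup (Fin (k + 2)) F, φ B = u ∧ LowUni B.1ᵀ := by
  have hx : ∀ r, r ∈ C.Jp → ∀ t : F,
      ∃ A : SpecialLinearGroup (Fin (k + 2)) F, φ A = G.full.x r t ∧ LowUni A.1ᵀ := by
    rintro r ⟨hr, hf⟩ t
    obtain ⟨i, j, hij, rfl⟩ : ∃ i j : Fin (k + 2), i ≠ j ∧ C.R i j = r := C.cover ⟨r, hr.1⟩ hf
    refine ⟨SpecialLinearGroup.transvection hij ((C.ε i j : F) * t),
      (C.x_eq G φ hφ i j hij t).symm, ?_⟩
    rw [CfsgLib.Linear.transvec_coe, Matrix.transvection, transpose_add, transpose_one,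
      transpose_single]
    exact lowUni_transvection ((C.root i j hij).2.2.1.mp hr) _
  induction hu using Subgroup.closure_induction'' with
  | mem x hx' => obtain ⟨r, hr, t, rfl⟩ := hx'; exact hx r hr t
  | inv_mem x hx' =>
    obtain ⟨r, hr, t, rfl⟩ := hx'
    rw [G.full.x_inv]
    exact hx r hr (-t)
  | one => exact ⟨1, map_one φ, by rw [sl_one_val, transpose_one]; exact LowUni.one⟩
  | mul x y _ _ hx' hy' =>
    obtain ⟨A, rfl, hA⟩ := hx'
    obtain ⟨B, rfl, hB⟩ := hy'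
    exact ⟨A * B, map_mul φ A B, by rw [sl_mul_val, transpose_mul]; exact hB.mul hA⟩

include hφ in
theorem Chain.diag_eq (t : Fˣ) :
    T.hT F (Pi.mulSingle C.j1 t) =
      φ (SpecialLinearGroup.diag2n (Fin.zero_ne_one (n := k)) (t : F) t.ne_zero) := by
  obtain ⟨h1, h2, h3, h4⟩ := C.start
  have h01 : ∀ a : F, φ (SpecialLinearGroup.transvection (Fin.zero_ne_one (n := k)) a) =
      G.full.x (D.simple C.j1) a := fun a => by
    rw [hφ, Chain.X, h1, h3, Int.cast_one, one_mul]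
  have h10 : ∀ a : F, φ (SpecialLinearGroup.transvection (Fin.zero_ne_one (n := k)).symm a) =
      G.full.x (negR D (D.simple C.j1)) a := fun a => by
    rw [hφ, Chain.X, h2, h4, Int.cast_one, one_mul]
  rw [G.full.hT_single, CfsgLib.Linear.diag2n_decompose]
  simp only [map_mul, h01, h10, Full.hr, Full.nr, inv_neg, inv_one, neg_neg]

include hφ in
/-- Every nontrivial element splits. -/
theorem Chain.splits (hq : 9 ≤ Fintype.card F) (Y : Tree T) {g : GL D.Idx F}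
    (hg : g ∈ D.group F) (hg1 : g ≠ 1) :
    ∃ y ∈ D.group F, ∃ v ∈ G.US F C.Tm, ∃ P ∈ Levi (T := T) φ, ∃ R ∈ Levi (T := T) φ,
      ∃ u ∈ G.US F C.Tp,
        y * g * y⁻¹ = v * (P * sC φ * P⁻¹ * (R * (sC φ)⁻¹ * R⁻¹)) * u := by
  obtain ⟨t, ht⟩ := exists_unit_ne_inv (F := F) (by omega)
  obtain ⟨y, hy, v, hv, u, hu, e⟩ := exists_prescribed G W hq Y hg hg1 (Pi.mulSingle C.j1 t)
  -- the upper part
  rw [G.posUnipotent_eq] at hu
  obtain ⟨uJ, huJ, uP, huP, rfl⟩ :=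
    G.US_split (C.closed_Jp G) (C.closed_Tp G) (closed_pos G) (C.pos_eq G) hu
  obtain ⟨B, rfl, hB⟩ := C.upper_part G φ hφ huJ
  -- the lower part
  have hv' := neg_to_pos G W hv
  rw [G.posUnipotent_eq] at hv'
  obtain ⟨a, ha, b, hb, eab⟩ := G.US_split (C.closed_Tp G) (C.closed_Jp G) (closed_pos G)
    (by rw [C.pos_eq G, Set.union_comm]) hv'
  set n := n0 G W F
  have hva : n * a * n⁻¹ ∈ G.US F C.Tm := conj_n0 G W (fun r hr => C.Tp_image G hr) ha
  have hvb : n * b * n⁻¹ ∈ G.US F {r | r < D.nroots ∧ ¬ IsPos D r ∧ fv T C.v r = 0} := by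
    refine conj_n0 G W (fun r hr => ⟨hr.1.1, ?_⟩) hb
    refine ⟨?_, (W.flip ⟨r, hr.1.1⟩).mp hr.1, ?_⟩
    · rw [← G.pw_apply W.L ⟨r, hr.1.1⟩]; exact Fin.isLt _
    · rw [C.flipf ⟨r, hr.1.1⟩, hr.2, neg_zero]
  obtain ⟨A, eA, hA⟩ := C.lower_part G φ hφ hvb
  have ev : v = n * a * n⁻¹ * φ A := by
    calc v = n * (n⁻¹ * v * n) * n⁻¹ := by group
      _ = n * a * n⁻¹ * (n * b * n⁻¹) := by rw [eab]; group
      _ = _ := by rw [eA]
  -- the middle part is not scalar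
  set Δ := SpecialLinearGroup.diag2n (Fin.zero_ne_one (n := k)) (t : F) t.ne_zero
  set M := A * Δ * B with hM
  have hval : ∀ i j, M.1 i j = ∑ l, A.1 i l * Δ.1 l l * B.1 l j := fun i j => by
    rw [hM, sl_mul_val, sl_mul_val]
    simp only [Δ, SpecialLinearGroup.diag2n_coe, Matrix.mul_apply]
    refine Finset.sum_congr rfl fun l _ => ?_
    rw [Finset.sum_eq_single l (fun m _ hm => by rw [diagonal_apply_ne _ hm, mul_zero])
      (fun h => absurd (Finset.mem_univ l) h)]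
  have hsum : ∀ (i j : Fin (k + 2)), i.val ≤ 1 → M.1 i j =
      A.1 i 0 * (t : F) * B.1 0 j + A.1 i 1 * (t : F)⁻¹ * B.1 1 j := by
    intro i j hi
    rw [hval, Finset.sum_eq_add (0 : Fin (k + 2)) 1 Fin.zero_ne_one]
    · simp [Δ, SpecialLinearGroup.diag2n_coe]
    · rintro l - ⟨h0, h1⟩
      rw [hA.1 i l, zero_mul, zero_mul]
      rw [Fin.lt_def]
      have e0 : l.val ≠ 0 := fun e => h0 (Fin.ext e)
      have e1 : l.val ≠ 1 := fun e => h1 (Fin.ext (by simpa using e))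
      omega
    · simp
    · simp
  have hns : ∀ c : F, M.1 ≠ c • 1 := by
    intro c hc
    have hB10 : B.1 1 0 = 0 := hB.1 0 1 (by simp)
    have hA01 : A.1 0 1 = 0 := hA.1 0 1 (by simp)
    have h00 := congrFun (congrFun hc 0) 0
    have h01 := congrFun (congrFun hc 0) 1
    have h11 := congrFun (congrFun hc 1) 1
    rw [hsum 0 0 (by simp), hA01, hA.2 0, show B.1 0 0 = 1 from hB.2 0] at h00
    rw [hsum 0 1 (by simp), hA01, hA.2 0] at h01
    rw [hsum 1 1 (by simp), hA.2 1, show B.1 1 1 = 1 from hB.2 1] at h11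
    simp at h00 h01 h11
    rw [h01, mul_zero, zero_add, ← h00] at h11
    exact ht (Units.ext (by rw [Units.val_inv_eq_inv_val, h11]))
  obtain ⟨P', N', eM, hP', hN'⟩ :=
    divides_uSL (four_le_mk (by omega)) (by omega : 2 ≤ k + 2) M hns
  obtain ⟨P, hP, eP⟩ := C.exists_conj_of_sim G φ hφ (hP'.trans (uChain_sim (n := k + 1)).symm)
  obtain ⟨R, hR, eR⟩ := C.exists_conj_of_sim G φ hφ (hN'.trans (uChain_sim (n := k + 1)).symm)
  refine ⟨y, hy, n * a * n⁻¹, hva, P, hP, R, hR, uP, huP, ?_⟩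
  rw [e, ev, C.diag_eq G φ hφ]
  have : φ A * φ Δ * φ B = P * sC φ * P⁻¹ * (R * (sC φ)⁻¹ * R⁻¹) := by
    rw [← map_mul, ← map_mul, ← hM, eM, map_mul, map_inv, eP, eR, sC]
    group
  rw [← this]
  simp only [Δ]
  group

include hφ in
theorem Chain.levi_le : Levi (T := T) φ ≤ D.group F := by
  refine sup_le ?_ ?_
  · rintro _ ⟨g, rfl⟩
    exact C.range_le G φ hφ (fun r _ _ t => G.x_mem_group r t) g
  · rintro _ ⟨c, rfl⟩
    exact G.borel_le_group (G.borel_hT c)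

include C hφ W in
/-- The group of a datum with a chain is the square of a conjugacy class. -/
theorem class_square (hq : 9 ≤ Fintype.card F) (Y : Tree T) :
    ∃ c : ↥(D.group F), ∀ g : ↥(D.group F), ∃ x y, g = (x * c * x⁻¹) * (y * c * y⁻¹) := by
  obtain ⟨γ, hγ⟩ := exists_gamma hq
  set H := D.group F
  have hL : Levi (T := T) φ ≤ H := C.levi_le G φ hφ
  have hz : C.z γ ∈ H := G.borel_le_group (G.borel_hT _)
  have hzL : C.z γ ∈ Levi (T := T) φ := Subgroup.mem_sup_right ⟨_, rfl⟩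
  have hs : sC φ ∈ Levi (T := T) φ := sC_mem φ
  have hUm : G.US F C.Tm ≤ H := G.US_le_group _
  have hUp : G.US F C.Tp ≤ H := G.US_le_group _
  obtain ⟨l, hl, el⟩ := C.real G φ hφ γ
  let S : Frame ↥H :=
    { Um := (G.US F C.Tm).subgroupOf H
      Up := (G.US F C.Tp).subgroupOf H
      L := (Levi (T := T) φ).subgroupOf H
      z := ⟨C.z γ, hz⟩
      s := ⟨sC φ, hL hs⟩
      s_mem := hs
      z_comm := fun a ha => Subtype.ext (C.z_comm G φ hφ γ ha)
      norm_m := fun a ha v hv => C.levi_norm G φ hφ C.Tm (fun x => x < 0) (fun _ => Iff.rfl)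
        (fun j x hj hx => mul_neg_of_pos_of_neg (by omega) hx) (lt_irrefl 0) ha hv
      norm_p := fun a ha v hv => C.levi_norm G φ hφ C.Tp (fun x => 0 < x) (fun _ => Iff.rfl)
        (fun j x hj hx => mul_pos (by omega) hx) (lt_irrefl 0) ha hv
      z_norm_m := fun v hv => hT_conj_US G (fun r hr => hr.1) _ hv
      z_norm_p := fun v hv => hT_conj_US G (fun r hr => hr.1) _ hv
      fix_m := fun v hv h => Subtype.ext
        (C.fix G φ hφ hγ (Or.inr hv) (congrArg Subtype.val h))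
      fix_p := fun v hv h => Subtype.ext
        (C.fix G φ hφ hγ (Or.inl hv) (congrArg Subtype.val h))
      real := ⟨⟨l * n0 G W F, mul_mem (hL hl) (n0_mem G W)⟩, Subtype.ext el⟩ }
  refine S.covers (MonoidHom.id _) Function.surjective_id fun g hg => ?_
  obtain ⟨y, hy, v, hv, P, hP, R, hR, u, hu, e⟩ := C.splits G φ hφ hq Y g.2
    (fun h => hg (Subtype.ext h))
  exact ⟨⟨y, hy⟩, ⟨v, hUm hv⟩, hv, ⟨P, hL hP⟩, hP, ⟨R, hL hR⟩, hR, ⟨u, hUp hu⟩, hu,
    Subtype.ext e⟩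

end CfsgLib.ClassSquare.Exc
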