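import Cfsg.Agent.ClassSquare.ExcData

/-!
The torus element of a chain, its sets of roots, and the homomorphism of the chain.
-/

set_option autoImplicit false
set_option linter.unusedSectionVars false

namespace CfsgLib.ClassSquare.Exc

open Cfsg.Lie Matrix CfsgLib.Chev CfsgLib.Chev.Tab
open scoped MatrixGroups

variable {D : ChevalleyDatum} {T : Tab D} {W : Long T} {k : ℕ} (C : Chain W k) (G : T.Good)
variable {F : Type*} [Field F]

/-- The torus parameters of a cocharacter. -/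
def cpow (γ : Fˣ) (v : Fin D.rank → ℤ) : Fin D.rank → Fˣ := fun i => γ ^ v i

/-- The character of a root on a power of a cocharacter. -/
theorem chi_cpow (v : Fin D.rank → ℤ) (γ : Fˣ) (r : ℕ) :
    T.chi (F := F) r (cpow γ v) = γ ^ fv T v r := by
  show ∏ i, cpow γ v i ^ T.cart i r = _
  rw [fv, zpow_sum_eq_prod]
  simp only [cpow, ← _root_.zpow_mul]

/-- The roots moved positively. -/
def Chain.Tp : Set ℕ := {r | r < D.nroots ∧ 0 < fv T C.v r}

/-- The roots moved negatively. -/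
def Chain.Tm : Set ℕ := {r | r < D.nroots ∧ fv T C.v r < 0}

/-- The roots fixed, among the positive ones. -/
def Chain.Jp : Set ℕ := {r | IsPos D r ∧ fv T C.v r = 0}

include G in
theorem isPos_negR {r : ℕ} (hr : r < D.nroots) (h : ¬ IsPos D r) : IsPos D (negR D r) := by
  have := G.full.cert.even
  have h' : ¬ D.nroots ≤ 2 * r := fun e => h ⟨hr, e⟩
  refine ⟨Cert.negR_lt hr, ?_⟩
  rw [negR_eq]
  omega

include G in
theorem Chain.Tp_pos {r : ℕ} (hr : r ∈ C.Tp) : IsPos D r := by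
  by_contra h
  have h1 := (C.bound ⟨_, Cert.negR_lt hr.1⟩ (isPos_negR G hr.1 h)).1
  have h2 := C.negf ⟨r, hr.1⟩
  have := hr.2
  simp only at h1 h2
  omega

theorem Chain.Tp_le {r : ℕ} (hr : IsPos D r) : 0 ≤ fv T C.v r ∧ fv T C.v r ≤ 7 :=
  C.bound ⟨r, hr.1⟩ hr

include G in
theorem fv_comm (v : Fin D.rank → ℤ) {r s : ℕ} (hr : r < D.nroots) (hs : s < D.nroots)
    {c : ℕ × ℤ × ℕ × ℕ} (hc : c ∈ T.commT r s) :
    c.1 < D.nroots ∧
      ∃ i j : ℤ, 1 ≤ i ∧ 1 ≤ j ∧ fv T v c.1 = i * fv T v r + j * fv T v s := by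
  have hlt : c.1 < D.nroots := by
    simp only [commT, List.mem_filterMap, List.mem_cons, List.not_mem_nil, or_false] at hc
    obtain ⟨a, ha, hc⟩ := hc
    obtain ⟨k, hk, rfl⟩ := Option.map_eq_some_iff.mp hc
    rcases ha with rfl | rfl | rfl | rfl | rfl | rfl | rfl
    all_goals first
      | exact G.full.cert.rootT_lt hr hs hk
      | exact G.full.cert.rootT_lt hs hr hk
      | (obtain ⟨k', hk', hk''⟩ := Option.bind_eq_some_iff.mp hk
         first
          | exact G.full.cert.rootT_lt (G.full.cert.rootT_lt hr hs hk') hs hk''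
          | exact G.full.cert.rootT_lt (G.full.cert.rootT_lt hs hr hk') hr hk'')
  obtain ⟨i, j, hi, hj, hw⟩ := G.comm_add hr hs hc
  refine ⟨hlt, i, j, hi, hj, ?_⟩
  simp only [fv, Finset.mul_sum, ← Finset.sum_add_distrib]
  refine Finset.sum_congr rfl fun l _ => ?_
  have := hw _ (G.full.cert.isAdd_wt l.isLt)
  rw [T.wt_root hlt, T.wt_root hr, T.wt_root hs] at this
  rw [this]
  ring

include G in
theorem Chain.closed_Tp : T.Closed C.Tp := by
  refine ⟨fun r hr => C.Tp_pos G hr, fun r hr s hs c hc => ?_⟩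
  obtain ⟨hlt, i, j, hi, hj, e⟩ := fv_comm G C.v hr.1 hs.1 hc
  refine ⟨hlt, ?_⟩
  rw [e]
  nlinarith [hr.2, hs.2]

include G in
theorem Chain.closed_Jp : T.Closed C.Jp := by
  refine ⟨fun r hr => hr.1, fun r hr s hs c hc => ⟨(G.comm_keys hr.1 hs.1 hc).1, ?_⟩⟩
  obtain ⟨-, i, j, -, -, e⟩ := fv_comm G C.v hr.1.1 hs.1.1 hc
  rw [e, hr.2, hs.2, mul_zero, mul_zero, add_zero]

include G in
theorem Chain.pos_eq : {r | IsPos D r} = C.Jp ∪ C.Tp := by
  ext r
  constructor
  · intro h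
    rcases (C.Tp_le h).1.eq_or_lt with e | e
    · exact Or.inl ⟨h, e.symm⟩
    · exact Or.inr ⟨h.1, e⟩
  · rintro (h | h)
    · exact h.1
    · exact C.Tp_pos G h

include G in
theorem closed_pos : T.Closed {r | IsPos D r} :=
  ⟨fun _ h => h, fun _ hr _ hs _ hc => (G.comm_keys hr hs hc).1⟩

include G in
/-- A root element of the chain normalises both moved parts. -/
theorem Chain.x_conj_side (S : Set ℕ) (P : ℤ → Prop) (hS : ∀ r, r ∈ S ↔ r < D.nroots ∧ P (fv T C.v r))
    (hP : ∀ j x : ℤ, 1 ≤ j → P x → P (j * x)) (h0 : ¬ P 0) {r : ℕ} (hr : r < D.nroots)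
    (hf : fv T C.v r = 0) (t : F) {u : GL D.Idx F} (hu : u ∈ G.US F S) :
    G.full.x r t * u * (G.full.x r t)⁻¹ ∈ G.US F S := by
  refine G.conj_US _ (fun s hs u' => ?_) hu
  obtain ⟨hs', hPs⟩ := (hS s).mp hs
  have hne : s ≠ r := fun e => h0 (by rw [e, hf] at hPs; exact hPs)
  have hn : s ≠ negR D r := fun e => h0 (by
    rw [e, C.negf ⟨r, hr⟩, hf, neg_zero] at hPs; exact hPs)
  have h := G.full.x_comm hr hs' hne hn (-t) u'
  rw [G.full.x_inv, mul_assoc, h, ← mul_assoc, ← mul_assoc, G.full.x_add, add_neg_cancel,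
    G.full.x_zero, one_mul]
  refine mul_mem (G.x_mem_US hs _) (Subgroup.list_prod_mem _ fun g hg => ?_)
  rw [G.full.cert.commWord_eq hr hs'] at hg
  simp only [rhsWord, List.map_map, List.mem_map, Function.comp_apply] at hg
  obtain ⟨e, he, rfl⟩ := hg
  obtain ⟨hlt, i, j, -, hj, ef⟩ := fv_comm G C.v hr hs' he
  refine G.x_mem_US ((hS _).mpr ⟨hlt, ?_⟩) _
  rw [ef, hf, mul_zero, zero_add]
  exact hP j _ hj hPs

theorem hT_conj_US {S : Set ℕ} (hS : ∀ r ∈ S, r < D.nroots) (c : Fin D.rank → Fˣ)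
    {u : GL D.Idx F} (hu : u ∈ G.US F S) : T.hT F c * u * (T.hT F c)⁻¹ ∈ G.US F S :=
  G.conj_US _ (fun r hr t => by rw [G.full.hT_conj (hS r hr)]; exact G.x_mem_US hr _) hu

variable (φ : SpecialLinearGroup (Fin (k + 2)) F →* GL D.Idx F)
  (hφ : ∀ i j (hij : i ≠ j) (t : F), φ (SpecialLinearGroup.transvection hij t) = C.X G i j t)

include hφ in
theorem Chain.x_eq (i j : Fin (k + 2)) (h : i ≠ j) (t : F) :
    G.full.x (C.R i j) t = φ (SpecialLinearGroup.transvection h ((C.ε i j : F) * t)) := by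
  rw [hφ, Chain.X, ← mul_assoc, C.eps_sq i j h, one_mul]

include hφ in
theorem Chain.range_le {K : Subgroup (GL D.Idx F)}
    (h : ∀ r, r < D.nroots → fv T C.v r = 0 → ∀ t, G.full.x r t ∈ K)
    (g : SpecialLinearGroup (Fin (k + 2)) F) : φ g ∈ K := by
  refine CfsgLib.Linear.transvection_induction (fun g => φ g ∈ K) (fun i j hij t => ?_)
    (fun A B hA hB => by rw [map_mul]; exact mul_mem hA hB) g
  rw [hφ]
  exact h _ (C.root i j hij).1 (C.root i j hij).2.1 _

include hφ in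
theorem Chain.hT_conj_phi (c : Fin D.rank → Fˣ) (ψ : SpecialLinearGroup (Fin (k + 2)) F →*
    SpecialLinearGroup (Fin (k + 2)) F) (d : Fin (k + 2) → Fin (k + 2) → F)
    (hψ : ∀ i j (hij : i ≠ j) (t : F), ψ (SpecialLinearGroup.transvection hij t) =
      SpecialLinearGroup.transvection hij (d i j * t))
    (hd : ∀ i j, i ≠ j → (T.chi (F := F) (C.R i j) c : F) = d i j)
    (g : SpecialLinearGroup (Fin (k + 2)) F) :
    T.hT F c * φ g * (T.hT F c)⁻¹ = φ (ψ g) := by
  refine CfsgLib.Linear.transvection_induction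
    (fun g => T.hT F c * φ g * (T.hT F c)⁻¹ = φ (ψ g)) (fun i j hij t => ?_)
    (fun A B hA hB => by rw [map_mul, map_mul, map_mul, ← hA, ← hB]; group) g
  rw [hψ, hφ, hφ, Chain.X, Chain.X, G.full.hT_conj (C.root i j hij).1, hd i j hij]
  congr 1
  ring

/-- The extended Levi part. -/
noncomputable def Levi : Subgroup (GL D.Idx F) := φ.range ⊔ (T.hT F).range

/-- The element of the torus. -/
noncomputable def Chain.z (γ : Fˣ) : GL D.Idx F := T.hT F (cpow γ C.v)

include hφ in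
theorem Chain.z_phi (γ : Fˣ) (g : SpecialLinearGroup (Fin (k + 2)) F) :
    C.z γ * φ g * (C.z γ)⁻¹ = φ g :=
  C.hT_conj_phi G φ hφ _ (MonoidHom.id _) (fun _ _ => 1)
    (fun i j hij t => by rw [one_mul]; rfl)
    (fun i j hij => by rw [chi_cpow, (C.root i j hij).2.1, _root_.zpow_zero, Units.val_one]) g

include hφ in
theorem Chain.z_comm (γ : Fˣ) {l : GL D.Idx F} (hl : l ∈ Levi (T := T) φ) :
    C.z γ * l = l * C.z γ := by
  have h : Levi (T := T) φ ≤ Subgroup.centralizer {C.z γ} := by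
    refine sup_le ?_ ?_
    · rintro _ ⟨g, rfl⟩
      rw [Subgroup.mem_centralizer_singleton_iff]
      exact (mul_inv_eq_iff_eq_mul.mp (C.z_phi G φ hφ γ g)).symm
    · rintro _ ⟨c, rfl⟩
      rw [Subgroup.mem_centralizer_singleton_iff]
      show T.hT F c * T.hT F _ = T.hT F _ * T.hT F c
      rw [← map_mul, ← map_mul, mul_comm]
  exact (Subgroup.mem_centralizer_singleton_iff.mp (h hl)).symm

include hφ in
theorem Chain.levi_norm (S : Set ℕ) (P : ℤ → Prop)
    (hS : ∀ r, r ∈ S ↔ r < D.nroots ∧ P (fv T C.v r)) (hP : ∀ j x : ℤ, 1 ≤ j → P x → P (j * x))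
    (h0 : ¬ P 0) {l : GL D.Idx F} (hl : l ∈ Levi (T := T) φ) {u : GL D.Idx F}
    (hu : u ∈ G.US F S) : l * u * l⁻¹ ∈ G.US F S := by
  let K : Subgroup (GL D.Idx F) :=
    { carrier := {y | ∀ a ∈ G.US F S, y * a * y⁻¹ ∈ G.US F S ∧ y⁻¹ * a * y ∈ G.US F S}
      one_mem' := fun a ha => by simp [ha]
      mul_mem' := fun {y z} hy hz a ha => by
        refine ⟨?_, ?_⟩
        · simpa [mul_assoc] using (hy _ (hz a ha).1).1
        · simpa [mul_assoc] using (hz _ (hy a ha).2).2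
      inv_mem' := fun {y} hy a ha => by simpa [and_comm] using hy a ha }
  have h1 : φ.range ≤ K := by
    rintro _ ⟨g, rfl⟩
    exact C.range_le G φ hφ (K := K) (fun r hr hf t a ha =>
      ⟨C.x_conj_side G S P hS hP h0 hr hf t ha, by
        simpa [G.full.x_inv] using C.x_conj_side G S P hS hP h0 hr hf (-t) ha⟩) g
  have h2 : (T.hT F).range ≤ K := by
    rintro _ ⟨c, rfl⟩ a ha
    exact ⟨hT_conj_US G (fun r hr => ((hS r).mp hr).1) c ha, by
      simpa using hT_conj_US G (fun r hr => ((hS r).mp hr).1) c⁻¹ ha⟩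
  exact ((sup_le h1 h2 : Levi φ ≤ K) hl u hu).1

end CfsgLib.ClassSquare.Exc
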