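import Cfsg.Agent.Quad.Hyp
import Mathlib.LinearAlgebra.Matrix.Transvection
import Mathlib.LinearAlgebra.Matrix.Block
import Mathlib.LinearAlgebra.Matrix.NonsingularInverse

/-!
# Shifting a corner of a matrix by a symmetric or alternating multiple of the block below
-/

set_option autoImplicit false
set_option linter.unusedSectionVars false

namespace CfsgLib.ClassSquare

open Matrix

variable {F : Type*} [Field F] {ι κ : Type*}

/-- Symmetric (`false`) or alternating (`true`) matrices. -/
def Skew (b : Bool) (M : Matrix ι ι F) : Prop :=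
  (∀ i j, M j i = (if b then -1 else 1) * M i j) ∧ (b = true → ∀ i, M i i = 0)

theorem Skew.submatrix {b : Bool} {M : Matrix ι ι F} (h : Skew b M) (f : κ → ι) :
    Skew b (M.submatrix f f) :=
  ⟨fun i j => h.1 _ _, fun hb i => h.2 hb _⟩

theorem Skew.smul {b : Bool} {M : Matrix ι ι F} (h : Skew b M) (c : F) : Skew b (c • M) := by
  refine ⟨fun i j => ?_, fun hb i => ?_⟩
  · simp only [Matrix.smul_apply, smul_eq_mul, h.1 i j]; ring
  · simp [h.2 hb]

theorem Skew.neg {b : Bool} {M : Matrix ι ι F} (h : Skew b M) : Skew b (-M) := by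
  simpa using h.smul (-1)

theorem Skew.add {b : Bool} {M N : Matrix ι ι F} (h : Skew b M) (h' : Skew b N) : Skew b (M + N) := by
  refine ⟨fun i j => ?_, fun hb i => ?_⟩
  · simp only [Matrix.add_apply, h.1 i j, h'.1 i j]; ring
  · simp [h.2 hb, h'.2 hb]

variable [Fintype ι] [DecidableEq ι]

theorem alt_sum_zero {R : Type*} [AddCommGroup R] {κ : Type*} [DecidableEq κ] (f : κ → κ → R)
    (hs : ∀ i j, f j i = -f i j) (hd : ∀ i, f i i = 0) (s : Finset κ) :
    ∑ i ∈ s, ∑ j ∈ s, f i j = 0 := by
  induction s using Finset.induction_on with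
  | empty => simp
  | @insert a s ha ih =>
    rw [Finset.sum_insert ha]
    simp only [Finset.sum_insert ha]
    rw [Finset.sum_add_distrib, ih, hd a,
      show ∑ i ∈ s, f i a = -∑ i ∈ s, f a i by
        rw [← Finset.sum_neg_distrib]; exact Finset.sum_congr rfl fun i _ => hs a i]
    abel

theorem Skew.congr {b : Bool} {M : Matrix ι ι F} (h : Skew b M) [Fintype κ] [DecidableEq κ]
    (P : Matrix ι κ F) : Skew b (Pᵀ * M * P) := by
  refine ⟨fun i j => ?_, fun hb i => ?_⟩
  · simp only [Matrix.mul_apply, Finset.sum_mul, Finset.mul_sum, transpose_apply]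
    rw [Finset.sum_comm]
    refine Finset.sum_congr rfl fun x _ => Finset.sum_congr rfl fun y _ => ?_
    rw [h.1 y x]; ring
  · simp only [Matrix.mul_apply, Finset.sum_mul, transpose_apply]
    rw [Finset.sum_comm]
    refine alt_sum_zero (fun x y => P x i * M x y * P y i) (fun x y => ?_)
      (fun x => by simp [h.2 hb]) _
    rw [h.1 x y, hb]
    simp only [↓reduceIte]
    ring

/-- A diagonal normal form under unimodular row and column operations. -/
structure Diag (C : Matrix ι ι F) where
  P : Matrix ι ι F
  P' : Matrix ι ι F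
  Q : Matrix ι ι F
  Q' : Matrix ι ι F
  d : ι → F
  hP : P * P' = 1
  hQ : Q * Q' = 1
  detP : P.det = 1
  detQ : Q.det = 1
  eq : P * C * Q = diagonal d

theorem exists_diag (C : Matrix ι ι F) : Nonempty (Diag C) := by
  obtain ⟨L, L', D, h⟩ := Pivot.exists_list_transvec_mul_mul_list_transvec_eq_diagonal C
  have hd : ∀ M : List (TransvectionStruct ι F), (M.map TransvectionStruct.toMatrix).prod.det = 1 := by
    intro M
    induction M with
    | nil => simp
    | cons a M ih => rw [List.map_cons, List.prod_cons, det_mul, ih, TransvectionStruct.det, one_mul]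
  exact ⟨⟨_, _, _, _, D, mul_nonsing_inv _ (by rw [hd L]; exact isUnit_one),
    mul_nonsing_inv _ (by rw [hd L']; exact isUnit_one), hd L, hd L', h⟩⟩

namespace Diag

variable {C : Matrix ι ι F} (δ : Diag C)

theorem detP' : δ.P'.det = 1 := by
  have := congrArg Matrix.det δ.hP
  rwa [det_mul, δ.detP, one_mul, det_one] at this

theorem detQ' : δ.Q'.det = 1 := by
  have := congrArg Matrix.det δ.hQ
  rwa [det_mul, δ.detQ, one_mul, det_one] at this

/-- The corner in the new coordinates. -/
def coord (A : Matrix ι ι F) : Matrix ι ι F := δ.P'ᵀ * A * δ.Q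

/-- Back to the old coordinates. -/
def back (T : Matrix ι ι F) : Matrix ι ι F := δ.Pᵀ * T * δ.Q'

theorem back_coord (A : Matrix ι ι F) : δ.back (δ.coord A) = A := by
  have h1 : δ.Pᵀ * δ.P'ᵀ = 1 := by
    rw [← transpose_mul, mul_eq_one_comm.mp δ.hP, transpose_one]
  simp only [back, coord, Matrix.mul_assoc]
  rw [← Matrix.mul_assoc δ.Pᵀ, h1, Matrix.one_mul, δ.hQ, Matrix.mul_one]

theorem back_injective : Function.Injective δ.back := by
  intro T T' h
  have h1 : δ.P'ᵀ * δ.Pᵀ = 1 := by rw [← transpose_mul, δ.hP, transpose_one]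
  have := congrArg (fun X => δ.P'ᵀ * X * δ.Q) h
  simpa only [back, Matrix.mul_assoc, mul_eq_one_comm.mp δ.hQ, Matrix.mul_one,
    ← Matrix.mul_assoc δ.P'ᵀ δ.Pᵀ, h1, Matrix.one_mul] using this

theorem back_smul (c : F) (T : Matrix ι ι F) : δ.back (c • T) = c • δ.back T := by
  simp [back]

theorem det_back (T : Matrix ι ι F) : (δ.back T).det = T.det := by
  rw [back, det_mul, det_mul, det_transpose, δ.detP, δ.detQ', one_mul, mul_one]

/-- The relation of the corner to the block below, in the new coordinates. -/
theorem coord_rel (A : Matrix ι ι F) :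
    (δ.coord A)ᵀ * diagonal δ.d = δ.Qᵀ * (Aᵀ * C) * δ.Q := by
  rw [← δ.eq, coord, transpose_mul, transpose_mul, transpose_transpose]
  simp only [Matrix.mul_assoc]
  rw [← Matrix.mul_assoc δ.P' δ.P, mul_eq_one_comm.mp δ.hP, Matrix.one_mul]

/-- Every target agreeing with the corner off the support and differing from it on the support by a
matrix of the given kind is reached. -/
theorem exists_shift [DecidableEq F] {b : Bool} (A : Matrix ι ι F) (T : Matrix ι ι F)
    (h0 : ∀ i j, δ.d j = 0 → T i j = δ.coord A i j)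
    (h1 : Skew b (fun i j : {i : ι // δ.d i ≠ 0} => δ.d i * (T i j - δ.coord A i j))) :
    ∃ S : Matrix ι ι F, Skew b S ∧ A + S * C = δ.back T := by
  set E := T - δ.coord A with hE
  set σ : F := if b then -1 else 1 with hσ
  let S₁ : Matrix ι ι F := fun i j =>
    if δ.d j ≠ 0 then E i j / δ.d j else if δ.d i ≠ 0 then σ * (E j i / δ.d i) else 0
  have hσσ : σ * σ = 1 := by rw [hσ]; cases b <;> simp
  have hS : Skew b S₁ := by
    refine ⟨fun i j => ?_, fun hb i => ?_⟩
    · simp only [S₁, ← hσ]
      by_cases hj : δ.d j = 0 <;> by_cases hi : δ.d i = 0 <;>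
        simp only [hi, hj, ne_eq, not_true_eq_false, not_false_eq_true, if_false, if_true, mul_zero]
      · rw [← mul_assoc, hσσ, one_mul]
      · have := h1.1 ⟨i, hi⟩ ⟨j, hj⟩
        simp only [← hσ] at this
        rw [hE, Matrix.sub_apply, Matrix.sub_apply]
        field_simp
        linear_combination this
    · by_cases hi : δ.d i = 0
      · simp [S₁, hi]
      · have := h1.2 hb ⟨i, hi⟩
        simp only [mul_eq_zero, hi, false_or] at this
        simp [S₁, hi, hE, this]
  have hSE : S₁ * diagonal δ.d = E := by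
    ext i j
    rw [mul_diagonal]
    by_cases hj : δ.d j = 0
    · rw [hj, mul_zero, hE, Matrix.sub_apply, h0 i j hj, sub_self]
    · simp only [S₁, ne_eq, hj, not_false_eq_true, if_true]
      field_simp
  refine ⟨δ.Pᵀ * S₁ * δ.P, hS.congr δ.P, ?_⟩
  have hC : δ.P * C = diagonal δ.d * δ.Q' := by
    rw [← δ.eq, Matrix.mul_assoc _ δ.Q δ.Q', δ.hQ, Matrix.mul_one]
  calc A + δ.Pᵀ * S₁ * δ.P * C = δ.back (δ.coord A) + δ.back E := by
        rw [δ.back_coord, back, ← hSE]
        simp only [Matrix.mul_assoc, hC]
    _ = δ.back T := by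
        simp only [back, hE, Matrix.mul_sub, Matrix.sub_mul]
        abel

/-- The determinant of a target. -/
theorem det_target [DecidableEq F] (T : Matrix ι ι F)
    (h0 : ∀ i j, δ.d i ≠ 0 → δ.d j = 0 → T i j = 0) :
    T.det = (T.toSquareBlockProp fun i => δ.d i ≠ 0).det *
      (T.toSquareBlockProp fun i => ¬δ.d i ≠ 0).det :=
  twoBlockTriangular_det' T _ fun i hi j hj => h0 i j hi (not_not.mp hj)

/-- The columns off the support stay independent. -/
theorem det_off_ne_zero [DecidableEq F] (A : Matrix ι ι F)
    (hinj : ∀ v, A *ᵥ v = 0 → C *ᵥ v = 0 → v = 0)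
    (h0 : ∀ i j, δ.d i ≠ 0 → δ.d j = 0 → δ.coord A i j = 0) :
    ((δ.coord A).toSquareBlockProp fun i => ¬δ.d i ≠ 0).det ≠ 0 := by
  intro h
  obtain ⟨v, hv, hv0⟩ := Matrix.exists_mulVec_eq_zero_iff.mpr h
  let w : ι → F := fun i => if hi : ¬δ.d i ≠ 0 then v ⟨i, hi⟩ else 0
  have hA : δ.coord A *ᵥ w = 0 := by
    funext i
    rw [mulVec, dotProduct, ← Fintype.sum_subtype_add_sum_subtype (fun j => δ.d j ≠ 0),
      Finset.sum_eq_zero fun j _ => by simp [w, j.2], zero_add]
    by_cases hi : δ.d i = 0
    · have := congrFun hv0 ⟨i, not_not.mpr hi⟩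
      simp only [mulVec, dotProduct, Pi.zero_apply] at this
      refine Eq.trans (Finset.sum_congr rfl fun j _ => ?_) this
      simp only [w, j.2, not_false_eq_true, dif_pos]
      rfl
    · exact Finset.sum_eq_zero fun j _ => by rw [h0 i j hi (not_not.mp j.2), zero_mul]
  have hd : diagonal δ.d *ᵥ w = 0 := by
    funext i
    rw [mulVec_diagonal]
    by_cases hi : δ.d i = 0
    · simp [hi]
    · simp [w, hi]
  have hQw : δ.Q *ᵥ w = 0 := by
    refine hinj _ ?_ ?_
    · have := congrArg (fun z => δ.Pᵀ *ᵥ z) hA
      simp only [coord, mulVec_mulVec, mulVec_zero] at this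
      rwa [← Matrix.mul_assoc, ← Matrix.mul_assoc, ← transpose_mul, mul_eq_one_comm.mp δ.hP,
        transpose_one, Matrix.one_mul, ← mulVec_mulVec] at this
    · have := congrArg (fun z => δ.P' *ᵥ z) hd
      simp only [← δ.eq, mulVec_mulVec, mulVec_zero] at this
      rwa [← Matrix.mul_assoc, ← Matrix.mul_assoc, mul_eq_one_comm.mp δ.hP, Matrix.one_mul,
        ← mulVec_mulVec] at this
  have hw : w = 0 := by
    have := congrArg (fun z => δ.Q' *ᵥ z) hQw
    simpa [mulVec_mulVec, mul_eq_one_comm.mp δ.hQ] using this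
  refine hv (funext fun i => ?_)
  have := congrFun hw i.1
  exact (by simpa [w] using this : δ.d i.1 = 0 → v i = 0) (not_not.mp i.2)

end Diag

/-- An invertible matrix of order at least three is not proportional to all its congruents by
transvections. -/
theorem exists_congr_ne [DecidableEq F] {M : Matrix ι ι F} (hM : M.det ≠ 0)
    (h3 : 3 ≤ Fintype.card ι) :
    ∃ P : Matrix ι ι F, P.det = 1 ∧ ∀ μ : F, Pᵀ * M * P ≠ μ • M := by
  classical
  by_contra hc
  push Not at hc
  obtain ⟨i⟩ : Nonempty ι := Fintype.card_pos_iff.mp (by omega)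
  -- row `i` vanishes off each other index
  have key : ∀ j, j ≠ i → ∀ l, l ≠ j → M i l = 0 := by
    intro j hj l hl
    obtain ⟨μ, hμ⟩ := hc (Matrix.transvection i j 1) (det_transvection_of_ne _ _ (Ne.symm hj) _)
    have e : ∀ r c, (μ - 1) * M r c =
        (if r = j then M i c else 0) + (if c = j then M r i else 0) +
          (if r = j ∧ c = j then M i i else 0) := by
      intro r c
      have h := congrFun (congrFun hμ r) c
      simp only [Matrix.transvection, transpose_add, transpose_one, transpose_single, Matrix.add_mul,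
        Matrix.mul_add, Matrix.one_mul, Matrix.mul_one, Matrix.add_apply, Matrix.smul_apply,
        smul_eq_mul] at h
      rw [sub_mul, one_mul, ← h]
      by_cases hr : r = j <;> by_cases hcj : c = j <;>
        simp [hr, hcj, Matrix.single_mul_apply_same, Matrix.mul_single_apply_same,
          Matrix.single_mul_apply_of_ne, Matrix.mul_single_apply_of_ne] <;> ring
    have hμ1 : μ = 1 := by
      by_contra hne
      -- a column off `j` is then supported in `{j}` only
      obtain ⟨p, q, hpj, hqj, hpq⟩ : ∃ p q, p ≠ j ∧ q ≠ j ∧ p ≠ q := by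
        obtain ⟨p, hp, q, hq, hpq⟩ := Finset.one_lt_card.mp
          (show 1 < (Finset.univ.erase j).card by
            rw [Finset.card_erase_of_mem (Finset.mem_univ j), Finset.card_univ]; omega)
        exact ⟨p, q, (Finset.mem_erase.mp hp).1, (Finset.mem_erase.mp hq).1, hpq⟩
      have hz : ∀ r c, r ≠ j → c ≠ j → M r c = 0 := fun r c hr hc => by
        simpa [hr, hc, sub_eq_zero, hne] using e r c
      refine hM (Matrix.exists_vecMul_eq_zero_iff.mp
        (by
          by_cases hp0 : M p j = 0
          · exact ⟨Pi.single p 1, by simp, by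
              funext c
              rw [single_one_vecMul]
              by_cases hcj : c = j
              · rw [hcj]; exact hp0
              · exact hz p c hpj hcj⟩
          · refine ⟨M q j • Pi.single p 1 - M p j • Pi.single q 1, fun h => hp0 ?_, ?_⟩
            · simpa [hpq.symm] using congrFun h q
            · funext c
              simp only [sub_vecMul, smul_vecMul, single_one_vecMul, Pi.sub_apply, Pi.smul_apply,
                smul_eq_mul, Pi.zero_apply, Matrix.row]
              by_cases hcj : c = j
              · rw [hcj]; ring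
              · rw [hz p c hpj hcj, hz q c hqj hcj]; ring))
    have := e j l
    rw [hμ1] at this
    simpa [hl] using this.symm
  obtain ⟨j, hj, k, hk, hjk⟩ := Finset.one_lt_card.mp
    (show 1 < (Finset.univ.erase i).card by
      rw [Finset.card_erase_of_mem (Finset.mem_univ i), Finset.card_univ]; omega)
  refine hM (Matrix.det_eq_zero_of_row_eq_zero i fun l => ?_)
  by_cases hl : l = j
  · exact key k (Finset.mem_erase.mp hk).1 l (hl ▸ hjk)
  · exact key j (Finset.mem_erase.mp hj).1 l hl

end CfsgLib.ClassSquare
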