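import Cfsg.Agent.ClassSquare.OrthTools
import Cfsg.Agent.ClassSquare.Shift
import Cfsg.Agent.Quad.Concrete
import Mathlib.Data.Matrix.ColumnRowPartitioned
import Mathlib.LinearAlgebra.Matrix.SpecialLinearGroup

/-!
# Elements of the orthogonal group in dimension `2 m + 1`
-/

set_option autoImplicit false
set_option linter.unusedSectionVars false

namespace CfsgLib.ClassSquare.Odd

open Matrix QuadraticMap CfsgLib.Quad CfsgLib.ClassSquare
open scoped MatrixGroups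

variable {F : Type*} [Field F] {m : ℕ}

local notation "Idx" => Unit ⊕ (Fin m ⊕ Fin m)
local notation "Mat" => Matrix (Fin m) (Fin m) F
local notation "Row" => Matrix Unit (Fin m) F
local notation "Col" => Matrix (Fin m) Unit F
local notation "G" => Cfsg.isometryGroup F (Cfsg.quadFormOdd m F)

/-- A matrix in block form. -/
def mk3 (z : Matrix Unit Unit F) (c b : Row) (β δ : Col) (A B C D : Mat) : Matrix Idx Idx F :=
  Matrix.fromBlocks z (Matrix.fromCols c b) (Matrix.fromRows β δ) (Matrix.fromBlocks A B C D)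

theorem mk3_inj {z z' : Matrix Unit Unit F} {c b c' b' : Row} {β δ β' δ' : Col}
    {A B C D A' B' C' D' : Mat}
    (h : mk3 z c b β δ A B C D = mk3 z' c' b' β' δ' A' B' C' D') :
    z = z' ∧ c = c' ∧ b = b' ∧ β = β' ∧ δ = δ' ∧ A = A' ∧ B = B' ∧ C = C' ∧ D = D' := by
  obtain ⟨h1, h2, h3, h4⟩ := fromBlocks_inj.mp h
  obtain ⟨h5, h6, h7, h8⟩ := fromBlocks_inj.mp h4
  exact ⟨h1, (fromCols_inj h2).1, (fromCols_inj h2).2, (fromRows_inj h3).1, (fromRows_inj h3).2,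
    h5, h6, h7, h8⟩

theorem mk3_mul (z z' : Matrix Unit Unit F) (c b c' b' : Row) (β δ β' δ' : Col)
    (A B C D A' B' C' D' : Mat) :
    mk3 z c b β δ A B C D * mk3 z' c' b' β' δ' A' B' C' D' =
      mk3 (z * z' + c * β' + b * δ') (z * c' + c * A' + b * C') (z * b' + c * B' + b * D')
        (β * z' + A * β' + B * δ') (δ * z' + C * β' + D * δ')
        (β * c' + A * A' + B * C') (β * b' + A * B' + B * D')
        (δ * c' + C * A' + D * C') (δ * b' + C * B' + D * D') := by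
  simp only [mk3, fromBlocks_multiply, fromCols_mul_fromRows, mul_fromCols, fromRows_mul,
    fromBlocks_mul_fromRows, fromCols_mul_fromBlocks, fromRows_mul_fromCols]
  refine fromBlocks_inj.mpr ⟨by abel, ?_, ?_, ?_⟩
  · ext i (j | j) <;> simp [add_assoc]
  · ext (i | i) j <;> simp [add_assoc]
  · ext (i | i) (j | j) <;> simp [add_assoc]

theorem mk3_one : mk3 1 (0 : Row) 0 0 0 (1 : Mat) 0 0 1 = 1 := by
  rw [mk3, fromBlocks_one, show Matrix.fromCols (0 : Row) (0 : Row) = 0 from fromCols_zero,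
    show Matrix.fromRows (0 : Col) (0 : Col) = 0 from fromRows_zero, fromBlocks_one]

theorem mk3_transpose (z : Matrix Unit Unit F) (c b : Row) (β δ : Col) (A B C D : Mat) :
    (mk3 z c b β δ A B C D)ᵀ = mk3 zᵀ βᵀ δᵀ cᵀ bᵀ Aᵀ Cᵀ Bᵀ Dᵀ := by
  rw [mk3, fromBlocks_transpose, fromBlocks_transpose, transpose_fromCols, transpose_fromRows, mk3]

/-- The middle scalar. -/
def two : Matrix Unit Unit F := (2 : F) • 1

/-- The polar form. -/
def polarM (m : ℕ) (F : Type*) [Field F] :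
    Matrix (Unit ⊕ (Fin m ⊕ Fin m)) (Unit ⊕ (Fin m ⊕ Fin m)) F :=
  mk3 two 0 0 0 0 0 1 1 0

theorem q_elim (t : Unit → F) (x y : Fin m → F) :
    Cfsg.quadFormOdd m F (Sum.elim t (Sum.elim x y)) = t () ^ 2 + x ⬝ᵥ y := rfl

theorem q_dot (v : Idx → F) : v ⬝ᵥ (polarM m F *ᵥ v) = 2 * Cfsg.quadFormOdd m F v := by
  obtain ⟨t, x, y, rfl⟩ : ∃ (t : Unit → F) (x y : Fin m → F), v = Sum.elim t (Sum.elim x y) :=
    ⟨v ∘ Sum.inl, v ∘ Sum.inr ∘ Sum.inl, v ∘ Sum.inr ∘ Sum.inr, by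
      funext i; rcases i with i | i | i <;> rfl⟩
  rw [q_elim, polarM, mk3, fromBlocks_mulVec, Sum.elim_comp_inl, Sum.elim_comp_inr,
    fromBlocks_mulVec, Sum.elim_comp_inl, Sum.elim_comp_inr]
  simp only [show Matrix.fromCols (0 : Row) (0 : Row) = 0 from fromCols_zero,
    show Matrix.fromRows (0 : Col) (0 : Col) = 0 from fromRows_zero, zero_mulVec, one_mulVec,
    zero_add, add_zero, two, smul_mulVec]
  simp only [dotProduct, Fintype.sum_sum_type, Sum.elim_inl, Sum.elim_inr, Pi.smul_apply,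
    smul_eq_mul, Finset.univ_unique, Finset.sum_singleton]
  rw [Finset.sum_congr rfl fun i _ => mul_comm (y i) (x i)]
  ring

theorem mem_of_polar (h2 : (2 : F) ≠ 0) {g : GL Idx F}
    (h : (g : Matrix Idx Idx F)ᵀ * polarM m F * (g : Matrix Idx Idx F) = polarM m F) : g ∈ G := by
  intro u v
  show Cfsg.quadFormOdd m F ((g : Matrix Idx Idx F) *ᵥ u) = Cfsg.quadFormOdd m F u
  refine mul_left_cancel₀ h2 ?_
  rw [← q_dot, ← q_dot]
  conv_rhs => rw [← h, ← mulVec_mulVec, ← mulVec_mulVec, dotProduct_mulVec u (g : Matrix Idx Idx F)ᵀ,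
    vecMul_transpose]

/-- The polar form is preserved. -/
theorem polar_of_mem (h2 : (2 : F) ≠ 0) (g : G) :
    ((g : GL Idx F).1)ᵀ * polarM m F * (g : GL Idx F).1 = polarM m F := by
  classical
  set M := ((g : GL Idx F).1)ᵀ * polarM m F * (g : GL Idx F).1
  have hq : ∀ u : Idx → F, u ⬝ᵥ (M *ᵥ u) = u ⬝ᵥ (polarM m F *ᵥ u) := fun u => by
    rw [← mulVec_mulVec, ← mulVec_mulVec, dotProduct_mulVec u ((g : GL Idx F).1)ᵀ, vecMul_transpose,
      q_dot, q_dot]
    exact congrArg _ (g.2 u 0)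
  have hJ : (polarM m F)ᵀ = polarM m F := by
    rw [polarM, mk3_transpose]
    simp [two]
  have hM : Mᵀ = M := by
    simp only [M, transpose_mul, transpose_transpose, hJ, Matrix.mul_assoc]
  ext i j
  have h := hq (Pi.single i 1 + Pi.single j 1)
  have hi := hq (Pi.single i 1)
  have hj := hq (Pi.single j 1)
  simp only [mulVec_add, add_dotProduct, dotProduct_add, mulVec_single_one, single_dotProduct,
    Matrix.col_apply, one_mul] at h hi hj
  have hji : M j i = M i j := congrFun (congrFun hM i) j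
  have hJji : polarM m F j i = polarM m F i j := congrFun (congrFun hJ i) j
  refine mul_left_cancel₀ h2 ?_
  linear_combination h - hi - hj - hji + hJji

/-- Package a matrix with its inverse. -/
def ofInv (h2 : (2 : F) ≠ 0) (M N : Matrix Idx Idx F) (h : M * N = 1)
    (hM : Mᵀ * polarM m F * M = polarM m F) : G :=
  ⟨⟨M, N, h, mul_eq_one_comm.mp h⟩, mem_of_polar h2 hM⟩

variable (h2 : (2 : F) ≠ 0)

/-- The condition on a radical element. -/
def Rad (χ : Row) (S : Mat) : Prop := S + Sᵀ = -((2 : F) • (χᵀ * χ))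

theorem Rad.transpose {χ : Row} {S : Mat} (h : Rad χ S) : Rad (-χ) Sᵀ := by
  simp only [Rad] at h ⊢
  rw [transpose_transpose, add_comm, h]
  simp

include h2 in
theorem low_polar {χ : Row} {S : Mat} (h : Rad χ S) :
    (mk3 1 χ 0 0 (-((2 : F) • χᵀ)) 1 0 S 1)ᵀ * polarM m F * mk3 1 χ 0 0 (-((2 : F) • χᵀ)) 1 0 S 1 =
      polarM m F := by
  rw [mk3_transpose, polarM, mk3_mul, mk3_mul]
  congr 1 <;> simp [two, Matrix.smul_mul, Matrix.mul_smul, transpose_neg, transpose_smul]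
  rw [add_assoc, add_comm Sᵀ S, h]
  simp

include h2 in
theorem up_polar {χ : Row} {S : Mat} (h : Rad χ S) :
    (mk3 1 0 χ (-((2 : F) • χᵀ)) 0 1 S 0 1)ᵀ * polarM m F * mk3 1 0 χ (-((2 : F) • χᵀ)) 0 1 S 0 1 =
      polarM m F := by
  rw [mk3_transpose, polarM, mk3_mul, mk3_mul]
  congr 1 <;> simp [two, Matrix.smul_mul, Matrix.mul_smul, transpose_neg, transpose_smul]
  rw [add_assoc, h]
  simp

theorem low_inv {χ : Row} {S : Mat} (h : Rad χ S) :
    mk3 1 χ 0 0 (-((2 : F) • χᵀ)) 1 0 S 1 * mk3 1 (-χ) 0 0 ((2 : F) • χᵀ) 1 0 Sᵀ 1 = 1 := by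
  rw [mk3_mul, ← mk3_one]
  congr 1 <;> simp [Matrix.smul_mul]
  rw [add_assoc, h]
  simp

theorem up_inv {χ : Row} {S : Mat} (h : Rad χ S) :
    mk3 1 0 χ (-((2 : F) • χᵀ)) 0 1 S 0 1 * mk3 1 0 (-χ) ((2 : F) • χᵀ) 0 1 Sᵀ 0 1 = 1 := by
  rw [mk3_mul, ← mk3_one]
  congr 1 <;> simp [Matrix.smul_mul]
  rw [add_assoc, add_comm Sᵀ S, h]
  simp

/-- `L (χ, S)`. -/
def low (χ : Row) (S : Mat) (h : Rad χ S) : G :=
  ofInv h2 _ _ (low_inv h) (low_polar h2 h)

/-- `U (χ, S)`. -/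
def up (χ : Row) (S : Mat) (h : Rad χ S) : G :=
  ofInv h2 _ _ (up_inv h) (up_polar h2 h)

theorem low_coe {χ : Row} {S : Mat} (h : Rad χ S) :
    ((low h2 χ S h : G) : GL Idx F).1 = mk3 1 χ 0 0 (-((2 : F) • χᵀ)) 1 0 S 1 := rfl

theorem up_coe {χ : Row} {S : Mat} (h : Rad χ S) :
    ((up h2 χ S h : G) : GL Idx F).1 = mk3 1 0 χ (-((2 : F) • χᵀ)) 0 1 S 0 1 := rfl

theorem ext_iff' {g h : G} : g = h ↔ (g : GL Idx F).1 = (h : GL Idx F).1 :=
  ⟨fun e => e ▸ rfl, fun e => Subtype.ext (Units.ext e)⟩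

/-- The Levi embedding. -/
def emb : (Mat)ˣ →* G where
  toFun M := ofInv h2 (mk3 1 0 0 0 0 (M : Mat) 0 0 ((↑M⁻¹ : Mat))ᵀ)
    (mk3 1 0 0 0 0 (↑M⁻¹ : Mat) 0 0 ((M : Mat))ᵀ)
    (by rw [mk3_mul, ← mk3_one]; congr 1 <;> simp [← transpose_mul])
    (by
      rw [mk3_transpose, polarM, mk3_mul, mk3_mul]
      congr 1 <;> simp [← transpose_mul])
  map_one' := ext_iff'.mpr (by
    show mk3 1 0 0 0 0 _ 0 0 _ = (1 : Matrix Idx Idx F)
    rw [← mk3_one]; simp)
  map_mul' M N := ext_iff'.mpr (by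
    show _ = mk3 1 0 0 0 0 _ 0 0 _ * mk3 1 0 0 0 0 _ 0 0 _
    conv_rhs => rw [mk3_mul]
    show mk3 1 0 0 0 0 _ 0 0 _ = _
    congr 1 <;> simp [transpose_mul])

theorem emb_coe (M : (Mat)ˣ) :
    ((emb h2 M : G) : GL Idx F).1 = mk3 1 0 0 0 0 (M : Mat) 0 0 ((↑M⁻¹ : Mat))ᵀ := rfl

theorem low_mul {χ χ' : Row} {S S' : Mat} (h : Rad χ S) (h' : Rad χ' S') :
    ∃ h'', low h2 χ S h * low h2 χ' S' h' = low h2 (χ + χ') (S + S' - (2 : F) • (χᵀ * χ')) h'' := by
  refine ⟨?_, ext_iff'.mpr ?_⟩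
  · simp only [Rad, transpose_add, transpose_sub, transpose_smul, transpose_mul, transpose_transpose,
      Matrix.add_mul, Matrix.mul_add, smul_add] at h h' ⊢
    linear_combination (norm := abel) h + h'
  · rw [Subgroup.coe_mul, Units.val_mul, low_coe, low_coe, low_coe, mk3_mul]
    congr 1 <;> simp [Matrix.smul_mul, Matrix.mul_assoc, add_comm] <;> abel

theorem up_mul {χ χ' : Row} {S S' : Mat} (h : Rad χ S) (h' : Rad χ' S') :
    ∃ h'', up h2 χ S h * up h2 χ' S' h' = up h2 (χ + χ') (S + S' - (2 : F) • (χᵀ * χ')) h'' := by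
  refine ⟨?_, ext_iff'.mpr ?_⟩
  · simp only [Rad, transpose_add, transpose_sub, transpose_smul, transpose_mul, transpose_transpose,
      Matrix.add_mul, Matrix.mul_add, smul_add] at h h' ⊢
    linear_combination (norm := abel) h + h'
  · rw [Subgroup.coe_mul, Units.val_mul, up_coe, up_coe, up_coe, mk3_mul]
    congr 1 <;> simp [Matrix.smul_mul, Matrix.mul_assoc, add_comm] <;> abel

theorem rad_zero : Rad (0 : Row) (0 : Mat) := by simp [Rad]

/-- The lower unipotent radical. -/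
def um : Subgroup G where
  carrier := {g | ∃ χ S h, g = low h2 χ S h}
  one_mem' := ⟨0, 0, rad_zero, ext_iff'.mpr (by
    show (1 : Matrix Idx Idx F) = _
    rw [low_coe, ← mk3_one]; simp)⟩
  mul_mem' := by
    rintro _ _ ⟨χ, S, h, rfl⟩ ⟨χ', S', h', rfl⟩
    obtain ⟨h'', e⟩ := low_mul h2 h h'
    exact ⟨_, _, h'', e⟩
  inv_mem' := by
    rintro _ ⟨χ, S, h, rfl⟩
    exact ⟨-χ, Sᵀ, h.transpose, ext_iff'.mpr (by
      show mk3 1 (-χ) 0 0 ((2 : F) • χᵀ) 1 0 Sᵀ 1 = _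
      rw [low_coe]; simp)⟩

/-- The upper unipotent radical. -/
def ur : Subgroup G where
  carrier := {g | ∃ χ S h, g = up h2 χ S h}
  one_mem' := ⟨0, 0, rad_zero, ext_iff'.mpr (by
    show (1 : Matrix Idx Idx F) = _
    rw [up_coe, ← mk3_one]; simp)⟩
  mul_mem' := by
    rintro _ _ ⟨χ, S, h, rfl⟩ ⟨χ', S', h', rfl⟩
    obtain ⟨h'', e⟩ := up_mul h2 h h'
    exact ⟨_, _, h'', e⟩
  inv_mem' := by
    rintro _ ⟨χ, S, h, rfl⟩
    exact ⟨-χ, Sᵀ, h.transpose, ext_iff'.mpr (by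
      show mk3 1 0 (-χ) ((2 : F) • χᵀ) 0 1 Sᵀ 0 1 = _
      rw [up_coe]; simp)⟩

theorem emb_conj_low (M : (Mat)ˣ) {χ : Row} {S : Mat} (h : Rad χ S) :
    ∃ h', emb h2 M * low h2 χ S h * (emb h2 M)⁻¹ =
      low h2 (χ * (↑M⁻¹ : Mat)) ((↑M⁻¹ : Mat)ᵀ * S * (↑M⁻¹ : Mat)) h' := by
  refine ⟨?_, ?_⟩
  · have := congrArg (fun X => (↑M⁻¹ : Mat)ᵀ * X * (↑M⁻¹ : Mat)) h
    simp only [Rad, transpose_mul, transpose_transpose] at this ⊢
    simpa [Matrix.mul_add, Matrix.add_mul, Matrix.mul_assoc] using this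
  · rw [mul_inv_eq_iff_eq_mul]
    refine ext_iff'.mpr ?_
    rw [Subgroup.coe_mul, Units.val_mul, Subgroup.coe_mul, Units.val_mul, emb_coe, low_coe, low_coe,
      mk3_mul, mk3_mul]
    congr 1 <;> simp [Matrix.mul_assoc, transpose_mul, ← transpose_mul]

theorem emb_conj_up (M : (Mat)ˣ) {χ : Row} {S : Mat} (h : Rad χ S) :
    ∃ h', emb h2 M * up h2 χ S h * (emb h2 M)⁻¹ =
      up h2 (χ * (M : Mat)ᵀ) ((M : Mat) * S * (M : Mat)ᵀ) h' := by
  refine ⟨?_, ?_⟩
  · have := congrArg (fun X => (M : Mat) * X * (M : Mat)ᵀ) h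
    simp only [Rad, transpose_mul, transpose_transpose] at this ⊢
    simpa [Matrix.mul_add, Matrix.add_mul, Matrix.mul_assoc] using this
  · rw [mul_inv_eq_iff_eq_mul]
    refine ext_iff'.mpr ?_
    rw [Subgroup.coe_mul, Units.val_mul, Subgroup.coe_mul, Units.val_mul, emb_coe, up_coe, up_coe,
      mk3_mul, mk3_mul]
    congr 1 <;> simp [Matrix.mul_assoc, ← transpose_mul] <;> simp [transpose_mul]

/-- The nine blocks. -/
def bz (M : Matrix Idx Idx F) : Matrix Unit Unit F := M.toBlocks₁₁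
/-- The middle row, first block. -/
def bc (M : Matrix Idx Idx F) : Row := M.toBlocks₁₂.toCols₁
/-- The middle row, second block. -/
def bb (M : Matrix Idx Idx F) : Row := M.toBlocks₁₂.toCols₂
/-- The middle column, first block. -/
def bbeta (M : Matrix Idx Idx F) : Col := M.toBlocks₂₁.toRows₁
/-- The middle column, second block. -/
def bdelta (M : Matrix Idx Idx F) : Col := M.toBlocks₂₁.toRows₂
/-- The first corner. -/
def bA (M : Matrix Idx Idx F) : Mat := M.toBlocks₂₂.toBlocks₁₁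
/-- The upper block. -/
def bB (M : Matrix Idx Idx F) : Mat := M.toBlocks₂₂.toBlocks₁₂
/-- The lower block. -/
def bC (M : Matrix Idx Idx F) : Mat := M.toBlocks₂₂.toBlocks₂₁
/-- The second corner. -/
def bD (M : Matrix Idx Idx F) : Mat := M.toBlocks₂₂.toBlocks₂₂

theorem eq_mk3 (M : Matrix Idx Idx F) :
    M = mk3 (bz M) (bc M) (bb M) (bbeta M) (bdelta M) (bA M) (bB M) (bC M) (bD M) := by
  simp only [mk3, bz, bc, bb, bbeta, bdelta, bA, bB, bC, bD, fromCols_toCols, fromRows_toRows,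
    fromBlocks_toBlocks]

theorem blocks_mk3 (z : Matrix Unit Unit F) (c b : Row) (β δ : Col) (A B C D : Mat) :
    bc (mk3 z c b β δ A B C D) = c ∧ bA (mk3 z c b β δ A B C D) = A ∧
      bC (mk3 z c b β δ A B C D) = C := by
  obtain ⟨-, h2, -, -, -, h6, -, h8, -⟩ := mk3_inj (eq_mk3 (mk3 z c b β δ A B C D)).symm
  exact ⟨h2, h6, h8⟩

/-- The relations of an element. -/
theorem rel (h2 : (2 : F) ≠ 0) (g : G) :
    let M := (g : GL Idx F).1
    (2 : F) • ((bc M)ᵀ * bc M) + (bA M)ᵀ * bC M + (bC M)ᵀ * bA M = 0 ∧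
      (2 : F) • ((bb M)ᵀ * bb M) + (bB M)ᵀ * bD M + (bD M)ᵀ * bB M = 0 ∧
      (2 : F) • ((bc M)ᵀ * bb M) + (bA M)ᵀ * bD M + (bC M)ᵀ * bB M = 1 ∧
      (2 : F) • ((bz M)ᵀ * bb M) + (bbeta M)ᵀ * bD M + (bdelta M)ᵀ * bB M = 0 ∧
      (2 : F) • ((bz M)ᵀ * bc M) + (bbeta M)ᵀ * bC M + (bdelta M)ᵀ * bA M = 0 := by
  intro M
  have h := polar_of_mem h2 g
  rw [show (g : GL Idx F).1 = M from rfl, eq_mk3 M, mk3_transpose, polarM, mk3_mul, mk3_mul] at h
  obtain ⟨-, h01, h02, -, -, h11, h12, -, h22⟩ := mk3_inj h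
  simp only [two, Matrix.mul_smul, Matrix.smul_mul, Matrix.mul_zero, Matrix.mul_one, add_zero,
    zero_add] at h01 h02 h11 h12 h22
  refine ⟨?_, ?_, ?_, ?_, ?_⟩
  · linear_combination (norm := abel) h11
  · linear_combination (norm := abel) h22
  · linear_combination (norm := abel) h12
  · linear_combination (norm := abel) h02
  · linear_combination (norm := abel) h01

end CfsgLib.ClassSquare.Odd
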