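import Cfsg.Agent.ClassSquare.PlusOmega
import Cfsg.Agent.Quad.Parity

/-!
# A unimodular nonscalar corner in type `D`
-/

set_option autoImplicit false
set_option linter.unusedSectionVars false

namespace CfsgLib.ClassSquare.Plus

open Matrix QuadraticMap CfsgLib.Forms CfsgLib.Quad CfsgLib.ClassSquare
open scoped MatrixGroups

variable {F : Type*} [Field F] {m : ℕ}

local notation "Idx" => Fin m ⊕ Fin m
local notation "Mat" => Matrix (Fin m) (Fin m) F
local notation "G" => Cfsg.isometryGroup F (Cfsg.quadFormPlus m F)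
local notation "Ω" => commutator G

/-- An invertible alternating matrix on a type of even cardinality. -/
theorem exists_alt_det {κ : Type*} [Fintype κ] [DecidableEq κ] (h : Even (Fintype.card κ)) :
    ∃ N : Matrix κ κ F, Skew true N ∧ N.det ≠ 0 := by
  obtain ⟨c, hc⟩ := h
  obtain ⟨e⟩ : Nonempty (κ ≃ Fin c ⊕ Fin c) := Fintype.card_eq.mp (by simp [hc])
  refine ⟨(Matrix.J (Fin c) F).submatrix e e, Skew.submatrix ⟨fun i j => ?_, fun _ i => ?_⟩ e, ?_⟩
  · rcases i with i | i <;> rcases j with j | j <;> simp [Matrix.J, Matrix.one_apply, eq_comm] <;>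
      split_ifs <;> simp
  · rcases i with i | i <;> simp [Matrix.J]
  · rw [det_submatrix_equiv_self]
    exact (Matrix.isUnit_det_J _ _).ne_zero

variable [Finite F] [DecidableEq F]

theorem parity_emb (hq : ∃ x : F, x ≠ 0 ∧ x ^ 2 ≠ 1) (hm : 0 < m) {ε : oGroup (plusQ (F := F) m) →* ℤˣ}
    (hε : ∀ v, plusQ (F := F) m v ≠ 0 → ε (Quad.refl (plusQ m) v) = -1) (M : (Mat)ˣ) :
    ε (toO F m (emb M)) = 1 := by
  set i : Fin m := ⟨0, hm⟩
  have hd : (M : Mat).det ≠ 0 := (Matrix.isUnit_iff_isUnit_det _).mp M.isUnit |>.ne_zero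
  set t := Units.mk0 _ hd
  let N : SpecialLinearGroup (Fin m) F := ⟨((dilU i t)⁻¹ * M : (Mat)ˣ), by
    rw [Units.val_mul, det_mul]
    have h := congrArg Matrix.det (Units.inv_mul (dilU i t))
    rw [det_mul, det_dilU, det_one] at h
    exact h⟩
  have e : M = dilU i t * Matrix.SpecialLinearGroup.toGL N := by
    refine Units.ext ?_
    show (M : Mat) = (dilU i t : Mat) * ((↑(dilU i t)⁻¹ : Mat) * (M : Mat))
    rw [← Matrix.mul_assoc, Units.mul_inv, Matrix.one_mul]
  have h1 : ε (toO F m (emb (Matrix.SpecialLinearGroup.toGL N))) = 1 :=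
    Abelianization.commutator_subset_ker ε ((mem_omega_iff _).mp (emb_sl_mem hq N))
  have q1 := (pair (F := F) i).q_comb 1
  rw [one_smul] at q1
  rw [e, map_mul, map_mul, map_mul, h1, mul_one, toO_dil, map_mul, hε, hε, Int.units_mul_self]
  · rw [(pair i).q_comb]; exact neg_ne_zero.mpr t.ne_zero
  · rw [q1]; exact neg_ne_zero.mpr one_ne_zero

/-- An element whose corner becomes singular with a line kernel is odd. -/
theorem not_mem_of_corank_one (hq : ∃ x : F, x ≠ 0 ∧ x ^ 2 ≠ 1) (hm : 0 < m) {g : G}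
    {k η : Fin m → F} (hk0 : k ≠ 0) (hη0 : η ≠ 0)
    (hk : ∀ x, (g : GL Idx F).1.toBlocks₁₁ *ᵥ x = 0 → ∃ t : F, x = t • k)
    (hη : η ᵥ* (g : GL Idx F).1.toBlocks₁₁ = 0)
    (hk' : (g : GL Idx F).1.toBlocks₁₁ *ᵥ k = 0) : g ∉ Ω := by
  classical
  intro hg
  set A := (g : GL Idx F).1.toBlocks₁₁
  set B := (g : GL Idx F).1.toBlocks₁₂
  have hB : η ᵥ* B ≠ 0 := by
    intro h
    apply hη0
    have hrow : Sum.elim η (0 : Fin m → F) ᵥ* (g : GL Idx F).1 = 0 := by
      rw [← fromBlocks_toBlocks (g : GL Idx F).1, vecMul_fromBlocks]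
      funext i
      rcases i with i | i <;> simp [A, B] at hη h ⊢ <;> simp [hη, h]
    have := congrArg (fun z => z ᵥ* ((g : GL Idx F)⁻¹ : GL Idx F).1) hrow
    simp only [vecMul_vecMul, Units.mul_inv, vecMul_one, zero_vecMul] at this
    exact funext fun i => congrFun this (Sum.inl i)
  obtain ⟨w, hw1, hw2⟩ : ∃ w : Fin m → F, (η ᵥ* B) ⬝ᵥ w ≠ 0 ∧ k ⬝ᵥ w ≠ 0 := by
    obtain ⟨i, hi⟩ : ∃ i, (η ᵥ* B) i ≠ 0 := Function.ne_iff.mp hB
    obtain ⟨j, hj⟩ : ∃ j, k j ≠ 0 := Function.ne_iff.mp hk0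
    by_cases h1 : k i ≠ 0
    · exact ⟨Pi.single i 1, by simpa using hi, by simpa using h1⟩
    by_cases h2 : (η ᵥ* B) j ≠ 0
    · exact ⟨Pi.single j 1, by simpa using h2, by simpa using hj⟩
    push Not at h1 h2
    exact ⟨Pi.single i 1 + Pi.single j 1, by simpa [dotProduct_add, h2] using hi,
      by simpa [dotProduct_add, h1] using hj⟩
  set v : Idx → F := Sum.elim k w
  have hv : plusQ m v = k ⬝ᵥ w := by rw [plusQ_apply, q_elim]
  set ρ : G := (toO F m).symm (Quad.refl (plusQ m) v)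
  have hρ : ∀ x : Fin m → F, (ρ : GL Idx F).1 *ᵥ Sum.elim x 0 =
      Sum.elim (x - ((x ⬝ᵥ w) / (k ⬝ᵥ w)) • k) (-(((x ⬝ᵥ w) / (k ⬝ᵥ w)) • w)) := by
    intro x
    rw [← toO_apply, MulEquiv.apply_symm_apply, refl_apply, polar_elim, hv, dotProduct_zero, add_zero]
    funext i
    rcases i with i | i <;> simp [v, neg_div, div_eq_inv_mul] <;> ring
  have hA'' : Function.Injective ((g * ρ : G) : GL Idx F).1.toBlocks₁₁.mulVec := by
    rw [← Matrix.coe_mulVecLin, ← LinearMap.ker_eq_bot, LinearMap.ker_eq_bot']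
    intro x hx
    set c := (x ⬝ᵥ w) / (k ⬝ᵥ w)
    have e2 : (((g : GL Idx F).1 * (ρ : GL Idx F).1) *ᵥ Sum.elim x 0) ∘ Sum.inl = 0 := by
      have hx' : ((g * ρ : G) : GL Idx F).1.toBlocks₁₁ *ᵥ x = 0 := hx
      conv_lhs => rw [← fromBlocks_toBlocks ((g : GL Idx F).1 * (ρ : GL Idx F).1)]
      rw [fromBlocks_mulVec]
      simp only [Sum.elim_comp_inl, Sum.elim_comp_inr, mulVec_zero, add_zero]
      exact hx'
    rw [← mulVec_mulVec, hρ, ← fromBlocks_toBlocks (g : GL Idx F).1, fromBlocks_mulVec] at e2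
    simp only [Sum.elim_comp_inl, Sum.elim_comp_inr, mulVec_sub, mulVec_smul, mulVec_neg] at e2
    rw [show (g : GL Idx F).1.toBlocks₁₁ *ᵥ k = 0 from hk', smul_zero, sub_zero] at e2
    have hc : c = 0 := by
      have e3 := congrArg (fun z => η ⬝ᵥ z) e2
      have hη' : η ᵥ* (g : GL Idx F).1.toBlocks₁₁ = 0 := hη
      simp only [dotProduct_add, dotProduct_neg, dotProduct_smul, smul_eq_mul, dotProduct_zero,
        dotProduct_mulVec, hη', zero_dotProduct, zero_add, neg_eq_zero, mul_eq_zero] at e3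
      exact e3.resolve_right hw1
    rw [show (x ⬝ᵥ w) / (k ⬝ᵥ w) = c from rfl, hc, zero_smul, neg_zero, add_zero] at e2
    obtain ⟨t, rfl⟩ := hk x e2
    have hc' : (t • k) ⬝ᵥ w / (k ⬝ᵥ w) = 0 := hc
    rw [smul_dotProduct, smul_eq_mul, mul_div_assoc, div_self hw2, mul_one] at hc'
    rw [hc', zero_smul]
  obtain ⟨M, hM⟩ := (Matrix.mulVec_injective_iff_isUnit.mp hA'')
  obtain ⟨L, ⟨S, hS, rfl⟩, U, ⟨T, hT, rfl⟩, e⟩ := ldu (g * ρ) M hM.symm
  obtain ⟨ε, hε⟩ := exists_parity (plusQ_nondeg (F := F) m) (Or.inl (by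
    obtain ⟨a, ha, ha'⟩ := hq
    exact ⟨a, ha, fun h => ha' (by rw [h]; ring)⟩))
  have hεg : ε (toO F m g) = 1 := Abelianization.commutator_subset_ker ε ((mem_omega_iff _).mp hg)
  have h2 := congrArg (fun x => ε (toO F m x)) e
  simp only [map_mul, hεg, one_mul] at h2
  rw [show toO F m ρ = Quad.refl (plusQ m) v from MulEquiv.apply_symm_apply _ _,
    hε v (by rw [hv]; exact hw2), parity_emb hq hm hε,
    show ε (toO F m (low S hS)) = 1 from
      Abelianization.commutator_subset_ker ε ((mem_omega_iff _).mp (low_mem hq hS)),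
    show ε (toO F m (up T hT)) = 1 from
      Abelianization.commutator_subset_ker ε ((mem_omega_iff _).mp (up_mem hq hT))] at h2
  exact absurd h2 (by decide)

/-- The determinant of an invertible corner is a square. -/
theorem isSquare_corner (hq : ∃ x : F, x ≠ 0 ∧ x ^ 2 ≠ 1) (hm : 0 < m) {g : G} (hg : g ∈ Ω)
    (M : (Mat)ˣ) (hM : (g : GL Idx F).1.toBlocks₁₁ = (M : Mat)) : IsSquare (M : Mat).det := by
  obtain ⟨L, ⟨S, hS, rfl⟩, U, ⟨T, hT, rfl⟩, e⟩ := ldu g M hM
  rw [← emb_mem_iff hq hm]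
  have : emb M = (low S hS)⁻¹ * g * (up T hT)⁻¹ := by rw [e]; group
  rw [this]
  exact mul_mem (mul_mem (inv_mem (low_mem hq hS)) hg) (inv_mem (up_mem hq hT))

theorem up_conj_corner (g : G) {S : Mat} (hS : Skew true S) :
    (up S hS * g * (up S hS)⁻¹ : G).1.1.toBlocks₁₁ =
      (g : GL Idx F).1.toBlocks₁₁ + S * (g : GL Idx F).1.toBlocks₂₁ := by
  show (Matrix.fromBlocks 1 S 0 1 * (g : GL Idx F).1 * Matrix.fromBlocks 1 (-S) 0 1).toBlocks₁₁ = _
  conv_lhs => rw [← fromBlocks_toBlocks (g : GL Idx F).1]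
  simp [fromBlocks_multiply]

/-- A conjugate with a unimodular nonscalar corner. -/
theorem exists_corner (hq : ∃ x : F, x ≠ 0 ∧ x ^ 2 ≠ 1) (hm : 3 ≤ m) {g : G} (hg : g ∈ Ω)
    (hC : (g : GL Idx F).1.toBlocks₂₁ ≠ 0) :
    ∃ y ∈ Ω, ∃ M : SpecialLinearGroup (Fin m) F,
      (y * g * y⁻¹ : G).1.1.toBlocks₁₁ = (M : Mat) ∧ ∀ c : F, (M : Mat) ≠ c • 1 := by
  classical
  obtain ⟨r1, -, -⟩ := rel g
  set A := (g : GL Idx F).1.toBlocks₁₁ with hA
  set C := (g : GL Idx F).1.toBlocks₂₁ with hCdef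
  have hinj : ∀ v, A *ᵥ v = 0 → C *ᵥ v = 0 → v = 0 := by
    intro v hv hv'
    have hw : (g : GL Idx F).1 *ᵥ Sum.elim v 0 = 0 := by
      rw [← fromBlocks_toBlocks (g : GL Idx F).1, fromBlocks_mulVec]
      funext i
      rcases i with i | i <;> simp [← hA, ← hCdef, hv, hv']
    have := congrArg (fun z => ((g : GL Idx F)⁻¹ : GL Idx F).1 *ᵥ z) hw
    simp only [mulVec_mulVec, Units.inv_mul, one_mulVec, mulVec_zero] at this
    exact funext fun i => congrFun this (Sum.inl i)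
  obtain ⟨δ⟩ := exists_diag C
  have hsk : Skew true ((δ.coord A)ᵀ * diagonal δ.d) := by rw [δ.coord_rel]; exact r1.congr _
  have hs : ∀ i j, δ.d i * δ.coord A i j = -(δ.d j * δ.coord A j i) := fun i j => by
    have := hsk.1 i j
    simp only [mul_diagonal, transpose_apply, ↓reduceIte] at this
    linear_combination this
  have hs0 : ∀ i, δ.d i * δ.coord A i i = 0 := fun i => by
    have := hsk.2 rfl i
    simp only [mul_diagonal, transpose_apply] at this
    linear_combination this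
  have h0 : ∀ i j, δ.d i ≠ 0 → δ.d j = 0 → δ.coord A i j = 0 := fun i j hi hj => by
    have := hs i j
    rw [hj, zero_mul, neg_zero] at this
    exact (mul_eq_zero.mp this).resolve_left hi
  have hκ := δ.kappa_ne_zero A hinj h0
  have hdA : Skew true (Matrix.of fun i j : δ.Supp => δ.d i * δ.coord A i j) :=
    ⟨fun i j => by simpa using hs j.1 i.1, fun _ i => hs0 i.1⟩
  have reach : ∀ (N : Matrix δ.Supp δ.Supp F), Skew true N → ∀ Z : Mat, ∃ S, ∃ hS : Skew true S,
      (up S hS * g * (up S hS)⁻¹ : G).1.1.toBlocks₁₁ = δ.back (δ.target A N Z) := by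
    intro N hN Z
    obtain ⟨S, hS, e⟩ := δ.exists_target (b := true) A N Z (by
      have := hN.add hdA.neg
      have e : (fun i j : δ.Supp => N i j - δ.d i * δ.coord A i j) =
          N + -(Matrix.of fun i j : δ.Supp => δ.d i * δ.coord A i j) := by
        funext i j; exact sub_eq_add_neg _ _
      exact e ▸ this)
    exact ⟨S, hS, (up_conj_corner g hS).trans e⟩
  have hconj : ∀ {S : Mat} (hS : Skew true S), (up S hS * g * (up S hS)⁻¹ : G) ∈ Ω := fun hS =>
    mul_mem (mul_mem (up_mem hq hS) hg) (inv_mem (up_mem hq hS))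
  have heven : Even (Fintype.card δ.Supp) := by
    by_contra hodd
    obtain ⟨i₀, hi₀⟩ := δ.exists_supp hC
    set r₀ : δ.Supp := ⟨i₀, hi₀⟩
    obtain ⟨N₁, hN₁, hd₁⟩ := exists_alt_det (F := F) (κ := {i : δ.Supp // i ≠ r₀}) (by
      rw [Fintype.card_subtype_compl, Fintype.card_subtype_eq]
      rw [Nat.not_even_iff_odd] at hodd
      exact Nat.Odd.sub_odd hodd odd_one)
    let N : Matrix δ.Supp δ.Supp F := fun i j =>
      if hi : i ≠ r₀ then (if hj : j ≠ r₀ then N₁ ⟨i, hi⟩ ⟨j, hj⟩ else 0) else 0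
    have hN : Skew true N := by
      refine ⟨fun i j => ?_, fun _ i => ?_⟩
      · simp only [N, ↓reduceIte]
        by_cases hi : i = r₀ <;> by_cases hj : j = r₀ <;> simp [hi, hj]
        simpa using hN₁.1 ⟨i, hi⟩ ⟨j, hj⟩
      · by_cases hi : i = r₀ <;> simp [N, hi, hN₁.2 rfl]
    obtain ⟨S, hS, e⟩ := reach N hN 0
    set T := δ.target A N 0
    set k : Fin m → F := δ.Q *ᵥ Pi.single i₀ 1
    have hcol : ∀ i, T i i₀ = 0 := fun i => by
      simp only [T, Diag.target, dif_neg hi₀]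
      by_cases hi : δ.d i = 0
      · simp [hi]
      · simp [hi, N, r₀]
    have hbk : δ.back T *ᵥ k = 0 := by
      show (δ.Pᵀ * T * δ.Q') *ᵥ (δ.Q *ᵥ Pi.single i₀ 1) = 0
      rw [mulVec_mulVec, Matrix.mul_assoc, mul_eq_one_comm.mp δ.hQ, Matrix.mul_one, ← mulVec_mulVec]
      rw [show T *ᵥ Pi.single i₀ 1 = 0 from funext fun i => by simp [hcol i], mulVec_zero]
    have hk0 : k ≠ 0 := fun h => by
      have := congrArg (fun z => δ.Q' *ᵥ z) h
      simp only [k, mulVec_mulVec, mul_eq_one_comm.mp δ.hQ, one_mulVec, mulVec_zero] at this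
      simpa using congrFun this i₀
    obtain ⟨η, hη0, hη⟩ := Matrix.exists_vecMul_eq_zero_iff.mpr
      (Matrix.exists_mulVec_eq_zero_iff.mp ⟨k, hk0, hbk⟩ : (δ.back T).det = 0)
    refine not_mem_of_corank_one hq (by omega) hk0 hη0 ?_ (e ▸ hη) (e ▸ hbk) (hconj hS)
    intro x hx
    rw [e] at hx
    set y := δ.Q' *ᵥ x
    have hTy : T *ᵥ y = 0 := by
      have := congrArg (fun z => δ.P'ᵀ *ᵥ z) hx
      simpa only [Diag.back, y, mulVec_mulVec, mulVec_zero, ← Matrix.mul_assoc, ← transpose_mul,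
        δ.hP, transpose_one, Matrix.one_mul] using this
    have hyR : ∀ j : δ.Supp, j ≠ r₀ → y j = 0 := by
      intro j hj
      by_contra hyj
      refine hd₁ (Matrix.exists_mulVec_eq_zero_iff.mp ⟨fun l => y l.1.1, fun h => hyj ?_, ?_⟩)
      · exact congrFun h ⟨j, hj⟩
      funext i
      have h := congrFun hTy i.1.1
      simp only [mulVec, dotProduct, Pi.zero_apply] at h ⊢
      rw [← Fintype.sum_subtype_add_sum_subtype (fun l => δ.d l ≠ 0),
        Finset.sum_eq_zero (s := (Finset.univ : Finset {l // ¬δ.d l ≠ 0})) (fun l _ => by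
          simp only [T, Diag.target, dif_pos (not_not.mp l.2)]
          rw [h0 i.1.1 l.1 i.1.2 (not_not.mp l.2), zero_mul]), add_zero] at h
      have e2 : ∑ l : δ.Supp, N i.1 l * y l.1 = 0 := by
        have h' := congrArg (fun z => δ.d i.1.1 * z) h
        simp only [mul_zero, Finset.mul_sum] at h'
        refine Eq.trans (Finset.sum_congr rfl fun l _ => ?_) h'
        simp only [T, Diag.target, dif_neg l.2, dif_neg i.1.2]
        rw [← mul_assoc, mul_div_cancel₀ _ i.1.2]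
      rw [← Fintype.sum_subtype_add_sum_subtype (fun l => l ≠ r₀),
        Finset.sum_eq_zero (s := (Finset.univ : Finset {l // ¬l ≠ r₀})) (fun l _ => by
          simp [N, not_not.mp l.2]), add_zero] at e2
      refine Eq.trans (Finset.sum_congr rfl fun l _ => ?_) e2
      simp only [N, dif_pos i.2, dif_pos l.2]
    have hyS : ∀ j, δ.d j = 0 → y j = 0 := by
      intro j hj
      by_contra hyj
      refine δ.det_off_ne_zero A hinj h0 (Matrix.exists_mulVec_eq_zero_iff.mp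
        ⟨fun l => y l.1, fun h => hyj (congrFun h ⟨j, not_not.mpr hj⟩), ?_⟩)
      funext i
      have h := congrFun hTy i.1
      simp only [mulVec, dotProduct, Pi.zero_apply] at h ⊢
      rw [← Fintype.sum_subtype_add_sum_subtype (fun l => δ.d l ≠ 0),
        Finset.sum_eq_zero (s := (Finset.univ : Finset {l // δ.d l ≠ 0})) (fun l _ => by
          simp only [T, Diag.target, dif_neg l.2, dif_pos (not_not.mp i.2)]
          simp), zero_add] at h
      refine Eq.trans (Finset.sum_congr rfl fun l _ => ?_) h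
      simp only [T, Diag.target, dif_pos (not_not.mp l.2)]
      rfl
    refine ⟨y i₀, ?_⟩
    have hy : y = y i₀ • Pi.single i₀ 1 := by
      funext j
      rcases eq_or_ne j i₀ with rfl | hj
      · simp
      · by_cases hd : δ.d j = 0
        · simp [hyS j hd, hj]
        · simp [hyR ⟨j, hd⟩ (fun h => hj (congrArg Subtype.val h)), hj]
    calc x = δ.Q *ᵥ y := by simp [y, mulVec_mulVec, δ.hQ]
      _ = y i₀ • k := by conv_lhs => rw [hy, mulVec_smul]
  obtain ⟨N₀, hN₀, hd₀⟩ := exists_alt_det (F := F) heven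
  obtain ⟨s, hs'⟩ : IsSquare (δ.kappa A * N₀.det) := by
    obtain ⟨S, hS, e⟩ := reach N₀ hN₀ 0
    have hdet := δ.det_back_target A h0 N₀ 0
    have hu : IsUnit (δ.back (δ.target A N₀ 0)) := (Matrix.isUnit_iff_isUnit_det _).mpr
      (isUnit_iff_ne_zero.mpr (by rw [hdet]; exact mul_ne_zero hκ hd₀))
    have := isSquare_corner hq (by omega) (hconj hS) hu.unit e
    rwa [IsUnit.unit_spec, hdet] at this
  obtain ⟨i₀, hi₀⟩ := δ.exists_supp hC
  let D₀ : Matrix δ.Supp δ.Supp F := diagonal (Function.update 1 ⟨i₀, hi₀⟩ s⁻¹)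
  have hs0' : s ≠ 0 := fun h => mul_ne_zero hκ hd₀ (by rw [hs', h, mul_zero])
  have hD : D₀.det = s⁻¹ := by
    rw [det_diagonal, Finset.prod_update_of_mem (Finset.mem_univ _)]; simp
  have hN : (D₀ᵀ * N₀ * D₀).det = (δ.kappa A)⁻¹ := by
    have : s⁻¹ * N₀.det * s⁻¹ * δ.kappa A = 1 := by
      rw [show s⁻¹ * N₀.det * s⁻¹ * δ.kappa A = (δ.kappa A * N₀.det) * (s⁻¹ * s⁻¹) by ring, hs']
      field_simp
    rw [det_mul, det_mul, det_transpose, hD]
    exact eq_inv_of_mul_eq_one_left this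
  obtain ⟨N, Z, hNs, hNd, hns⟩ := δ.exists_nonscalar A hC (fun N => Skew true N)
    (N := D₀ᵀ * N₀ * D₀) (hN₀.congr D₀) (by rw [hN]; exact inv_ne_zero hκ) (fun hR => by
      obtain ⟨P, hP, hne⟩ := exists_congr_ne (M := D₀ᵀ * N₀ * D₀)
        (by rw [hN]; exact inv_ne_zero hκ) (by
          rw [Fintype.card_congr (Equiv.subtypeUnivEquiv hR), Fintype.card_fin]; exact hm)
      exact ⟨_, (hN₀.congr D₀).congr P, by rw [det_mul, det_mul, det_transpose, hP, one_mul, mul_one],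
        hne⟩)
  obtain ⟨S, hS, e⟩ := reach N hNs Z
  have hdet : (δ.back (δ.target A N Z)).det = 1 := by
    rw [δ.det_back_target A h0, hNd, hN, mul_inv_cancel₀ hκ]
  exact ⟨up S hS, up_mem hq hS, ⟨_, hdet⟩, e, hns⟩

end CfsgLib.ClassSquare.Plus
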