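import Cfsg.Agent.ClassSquare.OddOmega
import Cfsg.Agent.ClassSquare.PlusCorner

/-!
# A unimodular nonscalar corner in type `B`
-/

set_option autoImplicit false
set_option linter.unusedSectionVars false

namespace CfsgLib.ClassSquare.Odd

open Matrix QuadraticMap CfsgLib.Forms CfsgLib.Quad CfsgLib.ClassSquare
open CfsgLib.ClassSquare.Plus (dilU det_dilU scalU scalU_coe scalU_inv_coe exists_alt_det skew_true)
open scoped MatrixGroups

variable {F : Type*} [Field F] {m : ℕ}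

local notation "Idx" => Unit ⊕ (Fin m ⊕ Fin m)
local notation "Mat" => Matrix (Fin m) (Fin m) F
local notation "Row" => Matrix Unit (Fin m) F
local notation "Col" => Matrix (Fin m) Unit F
local notation "G" => Cfsg.isometryGroup F (Cfsg.quadFormOdd m F)
local notation "Ω" => commutator G

/-- The determinant as a homomorphism. -/
noncomputable def detG : G →* F :=
  (Matrix.detMonoidHom : Matrix Idx Idx F →* F).comp
    ((Units.coeHom (Matrix Idx Idx F)).comp (Cfsg.isometryGroup F (Cfsg.quadFormOdd m F)).subtype)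

theorem detG_apply (g : G) : detG g = (g : GL Idx F).1.det := rfl

theorem detG_of_mem {g : G} (hg : g ∈ Ω) : detG g = 1 := by
  have h := Abelianization.commutator_subset_ker ((detG (F := F) (m := m)).toHomUnits) hg
  exact congrArg Units.val h

theorem bc_mk3 (z : Matrix Unit Unit F) (c b : Row) (β δ : Col) (A B C D : Mat) :
    bc (mk3 z c b β δ A B C D) = c := (blocks_mk3 z c b β δ A B C D).1

theorem bA_mk3 (z : Matrix Unit Unit F) (c b : Row) (β δ : Col) (A B C D : Mat) :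
    bA (mk3 z c b β δ A B C D) = A := (blocks_mk3 z c b β δ A B C D).2.1

theorem bC_mk3 (z : Matrix Unit Unit F) (c b : Row) (β δ : Col) (A B C D : Mat) :
    bC (mk3 z c b β δ A B C D) = C := (blocks_mk3 z c b β δ A B C D).2.2

theorem skew_transpose {ι : Type*} {M : Matrix ι ι F} (h : Skew true M) : Mᵀ = -M :=
  Matrix.ext fun i j => by simpa using h.1 i j

variable (h2 : (2 : F) ≠ 0)

theorem detG_emb (M : (Mat)ˣ) : detG (emb h2 M) = 1 := by
  rw [detG_apply, emb_coe, mk3, show Matrix.fromCols (0 : Row) (0 : Row) = 0 from fromCols_zero,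
    show Matrix.fromRows (0 : Col) (0 : Col) = 0 from fromRows_zero, det_fromBlocks_zero₂₁,
    det_fromBlocks_zero₂₁, det_one, one_mul, det_transpose, ← det_mul, Units.mul_inv, det_one]

theorem detG_middle (a : Matrix Unit Unit F) :
    (mk3 a (0 : Row) 0 0 0 (1 : Mat) 0 0 1).det = a () () := by
  rw [mk3, show Matrix.fromCols (0 : Row) (0 : Row) = 0 from fromCols_zero,
    show Matrix.fromRows (0 : Col) (0 : Col) = 0 from fromRows_zero, det_fromBlocks_zero₂₁,
    fromBlocks_one, det_one, mul_one, det_unique]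

theorem row_eq_zero (h2 : (2 : F) ≠ 0) {κ : Type*} (c : Matrix Unit κ F)
    (h : (2 : F) • (cᵀ * c) = 0) : c = 0 := by
  ext u i
  have := congrFun (congrFun h i) i
  simp [Matrix.mul_apply, h2] at this
  simpa using this

theorem up_conj_blocks (g : G) {χ : Row} {S : Mat} (h : Rad χ S) :
    bc (up h2 χ S h * g * (up h2 χ S h)⁻¹ : G).1.1 =
        bc (g : GL Idx F).1 + χ * bC (g : GL Idx F).1 ∧
      bA (up h2 χ S h * g * (up h2 χ S h)⁻¹ : G).1.1 =
        -((2 : F) • (χᵀ * bc (g : GL Idx F).1)) + bA (g : GL Idx F).1 + S * bC (g : GL Idx F).1 ∧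
      bC (up h2 χ S h * g * (up h2 χ S h)⁻¹ : G).1.1 = bC (g : GL Idx F).1 := by
  have e : (up h2 χ S h * g * (up h2 χ S h)⁻¹ : G).1.1 =
      mk3 1 0 χ (-((2 : F) • χᵀ)) 0 1 S 0 1 * (g : GL Idx F).1 *
        mk3 1 0 (-χ) ((2 : F) • χᵀ) 0 1 Sᵀ 0 1 := rfl
  conv at e => rhs; rw [eq_mk3 (g : GL Idx F).1, mk3_mul, mk3_mul]
  rw [e, bc_mk3, bA_mk3, bC_mk3]
  refine ⟨?_, ?_, ?_⟩ <;> simp [Matrix.smul_mul]

theorem low_conj_C (g : G) {χ : Row} {S : Mat} (h : Rad χ S)
    (hC : bC (g : GL Idx F).1 = 0) (hc : bc (g : GL Idx F).1 = 0)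
    (hδ : bdelta (g : GL Idx F).1 = 0) :
    bC (low h2 χ S h * g * (low h2 χ S h)⁻¹ : G).1.1 =
      (2 : F) • (χᵀ * (bz (g : GL Idx F).1 * χ)) - S * (bbeta (g : GL Idx F).1 * χ) +
        S * bA (g : GL Idx F).1 +
        (-((2 : F) • (χᵀ * bb (g : GL Idx F).1)) + S * bB (g : GL Idx F).1 +
          bD (g : GL Idx F).1) * Sᵀ := by
  have e : (low h2 χ S h * g * (low h2 χ S h)⁻¹ : G).1.1 =
      mk3 1 χ 0 0 (-((2 : F) • χᵀ)) 1 0 S 1 * (g : GL Idx F).1 *
        mk3 1 (-χ) 0 0 ((2 : F) • χᵀ) 1 0 Sᵀ 1 := rfl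
  conv at e => rhs; rw [eq_mk3 (g : GL Idx F).1, mk3_mul, mk3_mul]
  rw [e, bC_mk3, hC, hc, hδ]
  simp [Matrix.smul_mul, Matrix.mul_assoc, Matrix.add_mul]
  abel

variable [Finite F]

/-- An element with invertible corner is a product `L * emb * U`. -/
theorem ldu (hm : 0 < m) {g : G} (hg : detG g = 1) (M : (Mat)ˣ)
    (hM : bA (g : GL Idx F).1 = (M : Mat)) :
    ∃ χ S h, ∃ χ' S' h', g = low h2 χ S h * emb h2 M * up h2 χ' S' h' := by
  obtain ⟨r1, -, -, -, -⟩ := rel h2 g
  set Mi : Mat := (↑M⁻¹ : Mat) with hMi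
  have hMM : (M : Mat) * Mi = 1 := Units.mul_inv M
  rw [hM] at r1
  set χ : Row := bc (g : GL Idx F).1 * Mi with hχ
  set S : Mat := bC (g : GL Idx F).1 * Mi with hSdef
  have hS : Rad χ S := by
    have := congrArg (fun X => Miᵀ * X * Mi) r1
    simp only [Matrix.mul_add, Matrix.add_mul, Matrix.mul_smul, Matrix.smul_mul, Matrix.mul_zero,
      Matrix.zero_mul] at this
    simp only [Rad, hχ, hSdef, transpose_mul]
    have a1 : Miᵀ * ((M : Mat)ᵀ * bC (g : GL Idx F).1) * Mi = bC (g : GL Idx F).1 * Mi := by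
      rw [← Matrix.mul_assoc Miᵀ, ← transpose_mul, hMM, transpose_one, Matrix.one_mul]
    have a2 : Miᵀ * ((bC (g : GL Idx F).1)ᵀ * (M : Mat)) * Mi = Miᵀ * (bC (g : GL Idx F).1)ᵀ := by
      simp only [Matrix.mul_assoc, hMM, Matrix.mul_one]
    rw [a1, a2] at this
    simp only [Matrix.mul_assoc] at this ⊢
    linear_combination (norm := abel) this
  set g₁ := (emb h2 M)⁻¹ * ((low h2 χ S hS)⁻¹ * g) with hg₁
  have hcC : bc (g₁ : GL Idx F).1 = 0 ∧ bA (g₁ : GL Idx F).1 = 1 ∧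
      bC (g₁ : GL Idx F).1 = 0 := by
    have e : (g₁ : GL Idx F).1 = mk3 1 0 0 0 0 Mi 0 0 ((M : Mat))ᵀ *
        (mk3 1 (-χ) 0 0 ((2 : F) • χᵀ) 1 0 Sᵀ 1 * (g : GL Idx F).1) := rfl
    conv at e => rhs; rw [eq_mk3 (g : GL Idx F).1, mk3_mul, mk3_mul]
    rw [e, bc_mk3, bA_mk3, bC_mk3, hM]
    refine ⟨?_, ?_, ?_⟩
    · simp [hχ, hMi, Matrix.mul_assoc]
    · simp [hMi]
    · have h0 : (2 : F) • (χᵀ * bc (g : GL Idx F).1) + Sᵀ * (M : Mat) + bC (g : GL Idx F).1 = 0 := by
        have hc' : bc (g : GL Idx F).1 = χ * (M : Mat) := by simp [hχ, hMi, Matrix.mul_assoc]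
        have hC' : bC (g : GL Idx F).1 = S * (M : Mat) := by simp [hSdef, hMi, Matrix.mul_assoc]
        rw [hc', hC', ← Matrix.mul_assoc, ← Matrix.smul_mul, ← Matrix.add_mul, ← Matrix.add_mul,
          show (2 : F) • (χᵀ * χ) + Sᵀ + S = 0 by
            rw [add_assoc, add_comm Sᵀ S, show S + Sᵀ = _ from hS, add_neg_cancel],
          Matrix.zero_mul]
      simp only [Matrix.smul_mul, Matrix.one_mul, Matrix.zero_mul, Matrix.mul_zero, zero_add,
        add_zero]
      rw [h0, Matrix.mul_zero]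
  obtain ⟨q1, q22, q12, q02, q01⟩ := rel h2 g₁
  obtain ⟨hc, hA, hC⟩ := hcC
  rw [hc, hA, hC] at q01
  rw [hc, hA, hC] at q12
  have hD : bD (g₁ : GL Idx F).1 = 1 := by simpa using q12
  have hδ : bdelta (g₁ : GL Idx F).1 = 0 := by
    have := congrArg Matrix.transpose q01
    simpa using this
  rw [hD, hδ] at q02
  rw [hD] at q22
  set z : F := bz (g₁ : GL Idx F).1 () () with hz
  set χ' : Row := z • bb (g₁ : GL Idx F).1 with hχ'
  have hbz : bz (g₁ : GL Idx F).1 = z • 1 := by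
    ext u v; simp [hz]
  have hβ : bbeta (g₁ : GL Idx F).1 = -((2 : F) • χ'ᵀ) := by
    have := congrArg Matrix.transpose q02
    simp only [transpose_add, transpose_smul, transpose_mul, transpose_transpose, transpose_zero,
      Matrix.zero_mul, Matrix.mul_one, Matrix.one_mul, transpose_one, Matrix.mul_zero, add_zero,
      hbz, Matrix.mul_smul, Matrix.smul_mul] at this
    rw [hχ', transpose_smul]
    linear_combination (norm := abel) this
  have hz2 : z * z = 1 := by
    have h := congrFun (congrFun (polar_of_mem h2 g₁) (Sum.inl ())) (Sum.inl ())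
    rw [eq_mk3 (g₁ : GL Idx F).1, mk3_transpose, polarM, mk3_mul, mk3_mul, hδ, hbz] at h
    simp [mk3, two, hδ] at h
    exact mul_left_cancel₀ h2 (by linear_combination h)
  set S' := bB (g₁ : GL Idx F).1 with hS'def
  have hS' : Rad χ' S' := by
    simp only [Rad, hχ', transpose_smul, Matrix.smul_mul, Matrix.mul_smul, smul_smul, mul_assoc,
      hz2, mul_one]
    simp only [Matrix.mul_one, transpose_one, Matrix.one_mul] at q22
    linear_combination (norm := abel) q22
  have hfac : (g₁ : GL Idx F).1 = mk3 (z • 1) 0 0 0 0 1 0 0 1 *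
      mk3 1 0 χ' (-((2 : F) • χ'ᵀ)) 0 1 S' 0 1 := by
    conv_lhs => rw [eq_mk3 (g₁ : GL Idx F).1, hc, hA, hC, hD, hδ, hbz, hβ]
    rw [mk3_mul]
    congr 1 <;> simp [hχ', smul_smul, hz2, ← hS'def]
  have hz1 : z = 1 := by
    have hu : (mk3 1 0 χ' (-((2 : F) • χ'ᵀ)) 0 1 S' 0 1).det = 1 :=
      detG_of_mem (up_mem h2 hm hS')
    have h := detG_apply g₁
    rw [hfac, det_mul, detG_middle, hu] at h
    rw [hg₁, map_mul, map_mul, hg, ← map_inv (emb h2), detG_emb,
      detG_of_mem (inv_mem (low_mem h2 hm hS))] at h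
    simpa using h.symm
  refine ⟨χ, S, hS, χ', S', hS', ?_⟩
  have : g₁ = up h2 χ' S' hS' := ext_iff'.mpr (by
    rw [hfac, up_coe, hz1, one_smul, mk3_one, Matrix.one_mul])
  rw [mul_assoc, ← this, hg₁]
  group

include h2 in
/-- The determinant of an invertible corner is a square. -/
theorem isSquare_corner (hq : ∃ x : F, x ≠ 0 ∧ x ^ 2 ≠ 1) (hm : 0 < m) {g : G} (hg : g ∈ Ω)
    (M : (Mat)ˣ) (hM : bA (g : GL Idx F).1 = (M : Mat)) : IsSquare (M : Mat).det := by
  obtain ⟨χ, S, h, χ', S', h', e⟩ := ldu h2 hm (detG_of_mem hg) M hM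
  rw [← emb_mem_iff h2 hq hm]
  have : emb h2 M = (low h2 χ S h)⁻¹ * g * (up h2 χ' S' h')⁻¹ := by rw [e]; group
  rw [this]
  exact mul_mem (mul_mem (inv_mem (low_mem h2 hm h)) hg) (inv_mem (up_mem h2 hm h'))

/-- Matrices with prescribed symmetric part and nonzero determinant. -/
theorem exists_form_det (F : Type*) [Field F] (κ : Type*) [Fintype κ] [DecidableEq κ] :
    ∃ (N : Matrix κ κ F) (ρ : Matrix Unit κ F),
      N + Nᵀ = -((2 : F) • (ρᵀ * ρ)) ∧ N.det ≠ 0 := by
  rcases Nat.even_or_odd (Fintype.card κ) with h | h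
  · obtain ⟨N, hN, hd⟩ := exists_alt_det (F := F) h
    exact ⟨N, 0, by rw [skew_transpose hN]; simp, hd⟩
  · obtain ⟨c, hc⟩ := h
    obtain ⟨N₁, hN₁, hd⟩ := exists_alt_det (F := F) (κ := Fin c ⊕ Fin c) ⟨c, by simp⟩
    obtain ⟨e⟩ : Nonempty (κ ≃ Unit ⊕ (Fin c ⊕ Fin c)) :=
      Fintype.card_eq.mp (by simp [hc]; omega)
    refine ⟨(Matrix.fromBlocks (-1 : Matrix Unit Unit F) 0 0 N₁).submatrix e e,
      Matrix.of fun _ j => Sum.elim (fun _ => (1 : F)) (fun _ => 0) (e j), ?_, ?_⟩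
    · have hsk := skew_transpose hN₁
      ext a b
      simp only [Matrix.add_apply, Matrix.neg_apply, Matrix.smul_apply, transpose_apply,
        submatrix_apply, smul_eq_mul]
      rw [Matrix.mul_apply, Fintype.sum_unique, transpose_apply, Matrix.of_apply, Matrix.of_apply]
      rcases e a with i | i <;> rcases e b with j | j
      · simp; ring
      · simp
      · simp
      · have := congrFun (congrFun hsk i) j
        simp only [transpose_apply, Matrix.neg_apply] at this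
        simp [this]
    · rw [det_submatrix_equiv_self, det_fromBlocks_zero₂₁]
      exact mul_ne_zero (by simp) hd

variable [DecidableEq F]

include h2 in
/-- A conjugate with a unimodular nonscalar corner. -/
theorem exists_corner (hq : ∃ x : F, x ≠ 0 ∧ x ^ 2 ≠ 1) (hm : 3 ≤ m) {g : G} (hg : g ∈ Ω)
    (hC : bC (g : GL Idx F).1 ≠ 0) :
    ∃ y ∈ Ω, ∃ M : SpecialLinearGroup (Fin m) F,
      bA (y * g * y⁻¹ : G).1.1 = (M : Mat) ∧ ∀ c : F, (M : Mat) ≠ c • 1 := by
  classical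
  obtain ⟨r1, -, -, -, -⟩ := rel h2 g
  set A := bA (g : GL Idx F).1 with hA
  set C := bC (g : GL Idx F).1 with hCdef
  set c := bc (g : GL Idx F).1 with hcdef
  obtain ⟨δ⟩ := exists_diag C
  set c₁ : Row := c * δ.Q with hc₁
  have hrel : (2 : F) • (c₁ᵀ * c₁) + (δ.coord A)ᵀ * diagonal δ.d +
      diagonal δ.d * δ.coord A = 0 := by
    have e := δ.coord_rel A
    have e' : diagonal δ.d * δ.coord A = δ.Qᵀ * (Cᵀ * A) * δ.Q := by
      have := congrArg Matrix.transpose e
      simpa [transpose_mul, Matrix.mul_assoc] using this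
    rw [e, e', hc₁, transpose_mul]
    have := congrArg (fun X => δ.Qᵀ * X * δ.Q) r1
    simp only [Matrix.mul_add, Matrix.add_mul, Matrix.mul_smul, Matrix.smul_mul, Matrix.mul_zero,
      Matrix.zero_mul] at this
    simp only [Matrix.mul_assoc] at this ⊢
    exact this
  have hent : ∀ i j, 2 * (c₁ () i * c₁ () j) + δ.coord A j i * δ.d j + δ.d i * δ.coord A i j = 0 := by
    intro i j
    have := congrFun (congrFun hrel i) j
    simp only [Matrix.add_apply, Matrix.smul_apply, mul_diagonal, diagonal_mul, transpose_apply,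
      smul_eq_mul, Matrix.zero_apply, Matrix.mul_apply (M := c₁ᵀ), Fintype.sum_unique] at this
    exact this
  have hc0 : ∀ i, δ.d i = 0 → c₁ () i = 0 := fun i hi => by
    have := hent i i
    rw [hi] at this
    simp [h2] at this
    exact this
  have h0 : ∀ i j, δ.d i ≠ 0 → δ.d j = 0 → δ.coord A i j = 0 := fun i j hi hj => by
    have := hent i j
    rw [hj, hc0 j hj] at this
    simp at this
    exact this.resolve_left hi
  have hcQ : ∀ v : Fin m → F, C *ᵥ v = 0 → c *ᵥ v = 0 := by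
    intro v hv
    have hd : diagonal δ.d *ᵥ (δ.Q' *ᵥ v) = 0 := by
      rw [← δ.eq, mulVec_mulVec, Matrix.mul_assoc, δ.hQ, Matrix.mul_one, ← mulVec_mulVec, hv,
        mulVec_zero]
    have e : c *ᵥ v = c₁ *ᵥ (δ.Q' *ᵥ v) := by
      rw [hc₁, mulVec_mulVec, Matrix.mul_assoc, δ.hQ, Matrix.mul_one]
    rw [e]
    funext u
    show ∑ i, c₁ u i * (δ.Q' *ᵥ v) i = 0
    refine Finset.sum_eq_zero fun i _ => ?_
    by_cases hi : δ.d i = 0
    · simp [hc0 i hi]
    · have := congrFun hd i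
      rw [mulVec_diagonal, Pi.zero_apply] at this
      rw [(mul_eq_zero.mp this).resolve_left hi, mul_zero]
  have hinj : ∀ v, A *ᵥ v = 0 → C *ᵥ v = 0 → v = 0 := by
    intro v hv hv'
    have hw : (g : GL Idx F).1 *ᵥ Sum.elim (0 : Unit → F) (Sum.elim v (0 : Fin m → F)) = 0 := by
      rw [eq_mk3 (g : GL Idx F).1, mk3_mulVec, ← hA, ← hCdef, ← hcdef, hv, hv', hcQ v hv']
      funext i
      rcases i with i | i | i <;> simp
    have := congrArg (fun z => ((g : GL Idx F)⁻¹ : GL Idx F).1 *ᵥ z) hw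
    simp only [mulVec_mulVec, Units.inv_mul, one_mulVec, mulVec_zero] at this
    exact funext fun i => congrFun this (Sum.inr (Sum.inl i))
  have hκ := δ.kappa_ne_zero A hinj h0
  have reach : ∀ (N : Matrix δ.Supp δ.Supp F) (ρ : Matrix Unit δ.Supp F),
      N + Nᵀ = -((2 : F) • (ρᵀ * ρ)) → ∀ Z : Mat,
      ∃ y ∈ Ω, bA (y * g * y⁻¹ : G).1.1 = δ.back (δ.target A N Z) := by
    intro N ρ hN Z
    let η : Row := fun _ i => if hi : δ.d i ≠ 0 then (ρ () ⟨i, hi⟩ - c₁ () i) / δ.d i else 0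
    set χ : Row := η * δ.P with hχ
    have hχ0 : Rad χ (-(χᵀ * χ)) := by
      simp only [Rad, transpose_neg, transpose_mul, transpose_transpose, two_smul]
      abel
    obtain ⟨e1, e2, e3⟩ := up_conj_blocks h2 g hχ0
    set g₁ := up h2 χ _ hχ0 * g * (up h2 χ _ hχ0)⁻¹ with hg₁
    rw [← hcdef, ← hCdef] at e1
    rw [← hcdef, ← hA, ← hCdef] at e2
    rw [← hCdef] at e3
    have hCQ : C * δ.Q = δ.P' * diagonal δ.d := by
      rw [← δ.eq, ← Matrix.mul_assoc, ← Matrix.mul_assoc, mul_eq_one_comm.mp δ.hP, Matrix.one_mul]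
    have hc' : bc (g₁ : GL Idx F).1 * δ.Q = c₁ + η * diagonal δ.d := by
      rw [e1, Matrix.add_mul, Matrix.mul_assoc χ, hCQ, hχ, Matrix.mul_assoc η,
        ← Matrix.mul_assoc δ.P, δ.hP, Matrix.one_mul]
    have hcR : ∀ i : δ.Supp, (bc (g₁ : GL Idx F).1 * δ.Q) () i = ρ () i := fun i => by
      rw [hc', Matrix.add_apply, mul_diagonal]
      simp only [η, dif_pos i.2]
      field_simp [i.2]
      ring
    set A₁ := bA (g₁ : GL Idx F).1 with hA₁
    have hcol : ∀ i j, δ.d j = 0 → δ.coord A₁ i j = δ.coord A i j := by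
      intro i j hj
      rw [e2]
      simp only [Diag.coord, Matrix.mul_add, Matrix.add_mul, Matrix.mul_neg, Matrix.neg_mul,
        Matrix.mul_smul, Matrix.smul_mul]
      have z1 : (δ.P'ᵀ * (χᵀ * c) * δ.Q) i j = 0 := by
        rw [Matrix.mul_assoc, Matrix.mul_assoc, ← hc₁, ← Matrix.mul_assoc, Matrix.mul_apply,
          Fintype.sum_unique]
        rw [show c₁ default j = 0 from hc0 j hj, mul_zero]
      have z2 : (δ.P'ᵀ * (χᵀ * χ * C) * δ.Q) i j = 0 := by
        rw [Matrix.mul_assoc, Matrix.mul_assoc (χᵀ * χ), hCQ, ← Matrix.mul_assoc,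
          ← Matrix.mul_assoc, mul_diagonal, hj, mul_zero]
      simp [z1, z2]
    obtain ⟨r1', -, -, -, -⟩ := rel h2 g₁
    rw [e3, ← hA₁] at r1'
    have hN' : Skew true fun i j : δ.Supp => N i j - δ.d i * δ.coord A₁ i j := by
      have key : ∀ i j : δ.Supp, δ.d i * δ.coord A₁ i j + δ.d j * δ.coord A₁ j i =
          -(2 * (ρ () i * ρ () j)) := by
        intro i j
        have e := δ.coord_rel A₁
        have e' : diagonal δ.d * δ.coord A₁ = δ.Qᵀ * (Cᵀ * A₁) * δ.Q := by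
          have := congrArg Matrix.transpose e
          simpa [transpose_mul, Matrix.mul_assoc] using this
        have hh : (2 : F) • ((bc (g₁ : GL Idx F).1 * δ.Q)ᵀ * (bc (g₁ : GL Idx F).1 * δ.Q)) +
            (δ.coord A₁)ᵀ * diagonal δ.d + diagonal δ.d * δ.coord A₁ = 0 := by
          rw [e, e', transpose_mul]
          have := congrArg (fun X => δ.Qᵀ * X * δ.Q) r1'
          simp only [Matrix.mul_add, Matrix.add_mul, Matrix.mul_smul, Matrix.smul_mul,
            Matrix.mul_zero, Matrix.zero_mul] at this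
          simp only [Matrix.mul_assoc] at this ⊢
          exact this
        have := congrFun (congrFun hh i.1) j.1
        simp only [Matrix.add_apply, Matrix.smul_apply, mul_diagonal, diagonal_mul, transpose_apply,
          Matrix.mul_apply (M := (bc (g₁ : GL Idx F).1 * δ.Q)ᵀ), Fintype.sum_unique, smul_eq_mul,
          Matrix.zero_apply] at this
        rw [show (bc (g₁ : GL Idx F).1 * δ.Q) default i.1 = ρ () i from hcR i,
          show (bc (g₁ : GL Idx F).1 * δ.Q) default j.1 = ρ () j from hcR j] at this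
        linear_combination this
      have hNe : ∀ i j, N i j + N j i = -(2 * (ρ () i * ρ () j)) := fun i j => by
        have := congrFun (congrFun hN i) j
        simpa [Matrix.mul_apply] using this
      refine ⟨fun i j => ?_, fun _ i => ?_⟩
      · simp only [if_true]
        linear_combination hNe i j - key i j
      · refine mul_left_cancel₀ h2 ?_
        linear_combination hNe i i - key i i
    obtain ⟨S, hS, e⟩ := δ.exists_target (b := true) A₁ N Z hN'
    have htgt : δ.target A₁ N Z = δ.target A N Z := by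
      funext i j
      simp only [Diag.target]
      split_ifs with hj
      · exact hcol i j hj
      all_goals rfl
    have hS0 : Rad (0 : Row) S := by
      simp [Rad, skew_transpose hS]
    obtain ⟨-, f2, -⟩ := up_conj_blocks h2 g₁ hS0
    rw [e3, ← hA₁] at f2
    simp only [transpose_zero, Matrix.zero_mul, smul_zero, neg_zero, zero_add] at f2
    refine ⟨up h2 0 S hS0 * up h2 χ _ hχ0, mul_mem (up_mem h2 (by omega) _) (up_mem h2 (by omega) _),
      ?_⟩
    rw [show up h2 0 S hS0 * up h2 χ _ hχ0 * g * (up h2 0 S hS0 * up h2 χ _ hχ0)⁻¹ =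
      up h2 0 S hS0 * g₁ * (up h2 0 S hS0)⁻¹ by rw [hg₁]; group]
    rw [f2, e, htgt]
  obtain ⟨N₀, ρ₀, hN₀, hd₀⟩ := exists_form_det F δ.Supp
  obtain ⟨s, hs'⟩ : IsSquare (δ.kappa A * N₀.det) := by
    obtain ⟨y, hy, e⟩ := reach N₀ ρ₀ hN₀ 0
    have hdet := δ.det_back_target A h0 N₀ 0
    have hu : IsUnit (δ.back (δ.target A N₀ 0)) := (Matrix.isUnit_iff_isUnit_det _).mpr
      (isUnit_iff_ne_zero.mpr (by rw [hdet]; exact mul_ne_zero hκ hd₀))
    have := isSquare_corner h2 hq (by omega) (mul_mem (mul_mem hy hg) (inv_mem hy)) hu.unit e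
    rwa [IsUnit.unit_spec, hdet] at this
  obtain ⟨i₀, hi₀⟩ := δ.exists_supp hC
  let D₀ : Matrix δ.Supp δ.Supp F := diagonal (Function.update 1 ⟨i₀, hi₀⟩ s⁻¹)
  have hD : D₀.det = s⁻¹ := by
    rw [det_diagonal, Finset.prod_update_of_mem (Finset.mem_univ _)]; simp
  have hs0' : s ≠ 0 := fun h => mul_ne_zero hκ hd₀ (by rw [hs', h, mul_zero])
  have hN : (D₀ᵀ * N₀ * D₀).det = (δ.kappa A)⁻¹ := by
    have : s⁻¹ * N₀.det * s⁻¹ * δ.kappa A = 1 := by
      rw [show s⁻¹ * N₀.det * s⁻¹ * δ.kappa A = (δ.kappa A * N₀.det) * (s⁻¹ * s⁻¹) by ring, hs']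
      field_simp
    rw [det_mul, det_mul, det_transpose, hD]
    exact eq_inv_of_mul_eq_one_left this
  let IsForm : Matrix δ.Supp δ.Supp F → Prop := fun N =>
    ∃ ρ : Matrix Unit δ.Supp F, N + Nᵀ = -((2 : F) • (ρᵀ * ρ))
  have hcongr : ∀ (P N : Matrix δ.Supp δ.Supp F), IsForm N → IsForm (Pᵀ * N * P) := by
    rintro P N ⟨ρ, h⟩
    refine ⟨ρ * P, ?_⟩
    have := congrArg (fun X => Pᵀ * X * P) h
    simpa [Matrix.mul_add, Matrix.add_mul, Matrix.mul_assoc] using this
  obtain ⟨N, Z, ⟨ρ, hNs⟩, hNd, hns⟩ := δ.exists_nonscalar A hC IsForm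
    (N := D₀ᵀ * N₀ * D₀) (hcongr D₀ N₀ ⟨ρ₀, hN₀⟩) (by rw [hN]; exact inv_ne_zero hκ) (fun hR => by
      obtain ⟨P, hP, hne⟩ := exists_congr_ne (M := D₀ᵀ * N₀ * D₀)
        (by rw [hN]; exact inv_ne_zero hκ) (by
          rw [Fintype.card_congr (Equiv.subtypeUnivEquiv hR), Fintype.card_fin]; exact hm)
      exact ⟨_, hcongr P _ (hcongr D₀ N₀ ⟨ρ₀, hN₀⟩),
        by rw [det_mul, det_mul, det_transpose, hP, one_mul, mul_one], hne⟩)
  obtain ⟨y, hy, e⟩ := reach N ρ hNs Z
  have hdet : (δ.back (δ.target A N Z)).det = 1 := by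
    rw [δ.det_back_target A h0, hNd, hN, mul_inv_cancel₀ hκ]
  exact ⟨y, hy, ⟨_, hdet⟩, e, hns⟩

end CfsgLib.ClassSquare.Odd
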