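import Cfsg.Agent.ClassSquare.PlusCorner
import Cfsg.Agent.ClassSquare.Scaled
import Cfsg.Agent.ClassSquare.PSL

/-!
# `PΩ⁺` over a field with at least nine elements is a class square
-/

set_option autoImplicit false
set_option linter.unusedSectionVars false

namespace CfsgLib.ClassSquare.Plus

open Matrix QuadraticMap CfsgLib.Forms CfsgLib.Quad CfsgLib.ClassSquare CfsgLib.OreSL
open scoped MatrixGroups

variable {F : Type*} [Field F] {m : ℕ}

local notation "Idx" => Fin m ⊕ Fin m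
local notation "Mat" => Matrix (Fin m) (Fin m) F
local notation "G" => Cfsg.isometryGroup F (Cfsg.quadFormPlus m F)
local notation "Ω" => commutator G

theorem low_conj_block (g : G) {S : Mat} (hS : Skew true S) :
    (low S hS * g * (low S hS)⁻¹ : G).1.1.toBlocks₂₁ =
      S * (g : GL Idx F).1.toBlocks₁₁ + (g : GL Idx F).1.toBlocks₂₁ -
        S * (g : GL Idx F).1.toBlocks₁₂ * S - (g : GL Idx F).1.toBlocks₂₂ * S := by
  show (Matrix.fromBlocks 1 0 S 1 * (g : GL Idx F).1 * Matrix.fromBlocks 1 0 (-S) 1).toBlocks₂₁ = _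
  conv_lhs => rw [← fromBlocks_toBlocks (g : GL Idx F).1]
  simp [fromBlocks_multiply, Matrix.add_mul, Matrix.mul_assoc]
  abel

variable [Finite F]

theorem exists_moved (hq : ∃ x : F, x ≠ 0 ∧ x ^ 2 ≠ 1) (hm : 3 ≤ m) {g : Ω}
    (hg : g ∉ Subgroup.center ↥Ω) :
    ∃ y ∈ Ω, (y * (g : G) * y⁻¹ : G).1.1.toBlocks₂₁ ≠ 0 := by
  classical
  by_contra hc
  push Not at hc
  set A := ((g : G) : GL Idx F).1.toBlocks₁₁ with hA
  set B := ((g : G) : GL Idx F).1.toBlocks₁₂ with hB
  set D := ((g : G) : GL Idx F).1.toBlocks₂₂ with hD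
  have hC : ((g : G) : GL Idx F).1.toBlocks₂₁ = 0 := by simpa using hc 1 (one_mem _)
  obtain ⟨a, ha, ha2⟩ := hq
  have hSB : ∀ S : Mat, Skew true S → S * A - D * S = 0 ∧ S * B * S = 0 := by
    intro S hS
    have h1 := hc (low S hS) (low_mem ⟨a, ha, ha2⟩ hS)
    have h2 := hc (low (a • S) (hS.smul a)) (low_mem ⟨a, ha, ha2⟩ (hS.smul a))
    rw [low_conj_block, hC, add_zero, ← hA, ← hB, ← hD] at h1 h2
    have hne : a * a - a ≠ 0 := by
      rw [show a * a - a = a * (a - 1) by ring]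
      refine mul_ne_zero ha (sub_ne_zero.mpr fun h => ha2 (by rw [h]; ring))
    have h3 : (a * a - a) • (S * B * S) = 0 := by
      have e : S * A - D * S = S * B * S := by
        rw [sub_right_comm] at h1; exact sub_eq_zero.mp h1
      simp only [Matrix.smul_mul, Matrix.mul_smul, smul_smul] at h2
      rw [sub_right_comm, ← smul_sub, e] at h2
      rw [sub_smul]
      rw [← neg_sub] at h2
      exact neg_eq_zero.mp h2
    have h4 := (smul_eq_zero.mp h3).resolve_left hne
    rw [h4, sub_zero] at h1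
    exact ⟨h1, h4⟩
  have hsk : ∀ i j : Fin m, i ≠ j → Skew true (Matrix.single i j (1 : F) - Matrix.single j i 1) :=
    fun i j hij => skew_true
      (by rw [transpose_sub, transpose_single, transpose_single, neg_sub])
      (fun l => by
        rw [Matrix.sub_apply, Matrix.single_apply, Matrix.single_apply, if_neg, if_neg, sub_zero]
        · rintro ⟨rfl, rfl⟩; exact hij rfl
        · rintro ⟨rfl, rfl⟩; exact hij rfl)
  have hother : ∀ i j : Fin m, ∃ l, l ≠ i ∧ l ≠ j := fun i j => by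
    obtain ⟨l, -, hl⟩ := Finset.exists_mem_notMem_of_card_lt_card (s := ({i, j} : Finset (Fin m)))
      (t := Finset.univ)
      (lt_of_le_of_lt Finset.card_le_two (by rw [Finset.card_univ, Fintype.card_fin]; omega))
    simp only [Finset.mem_insert, Finset.mem_singleton, not_or] at hl
    exact ⟨l, hl⟩
  have hB0 : B = 0 := by
    ext i j
    obtain ⟨l, hli, hlj⟩ := hother i j
    rcases eq_or_ne i j with rfl | hij
    · have h := congrFun (congrFun (hSB _ (hsk l i hli)).2 l) l
      simp [Matrix.sub_mul, Matrix.mul_sub, Matrix.single_mul_apply_same, Matrix.mul_single_apply_same,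
        Matrix.single_mul_apply_of_ne, Matrix.mul_single_apply_of_ne, hli, hli.symm] at h
      simpa using h
    · have h := congrFun (congrFun (hSB _ (hsk i j hij)).2 j) i
      simp [Matrix.sub_mul, Matrix.mul_sub, Matrix.single_mul_apply_same, Matrix.mul_single_apply_same,
        Matrix.single_mul_apply_of_ne, Matrix.mul_single_apply_of_ne, hij, hij.symm] at h
      simpa using h
  let E : Fin m → Fin m → Mat := fun i j => Matrix.single i j (1 : F) - Matrix.single j i 1
  have hent : ∀ i j : Fin m, i ≠ j → ∀ r c : Fin m, (E i j * A) r c = (D * E i j) r c :=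
    fun i j hij r c => by rw [sub_eq_zero.mp (hSB _ (hsk i j hij)).1]
  have hDd : ∀ i j, i ≠ j → D i j = 0 := by
    intro i j hij
    obtain ⟨l, hli, hlj⟩ := hother i j
    have h := hent j l hlj.symm i l
    simpa [E, Matrix.sub_mul, Matrix.mul_sub, Matrix.single_mul_apply_of_ne,
      Matrix.mul_single_apply_same, Matrix.mul_single_apply_of_ne, hij, hli.symm, hlj, hlj.symm]
      using h.symm
  have hAD : ∀ i j, i ≠ j → A j j = D i i := by
    intro i j hij
    have h := hent i j hij i j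
    simpa [E, Matrix.sub_mul, Matrix.mul_sub, Matrix.single_mul_apply_same, Matrix.single_mul_apply_of_ne,
      Matrix.mul_single_apply_same, Matrix.mul_single_apply_of_ne, hij, hij.symm] using h
  have hAd : ∀ i j, i ≠ j → A i j = 0 := by
    intro i j hij
    obtain ⟨l, hli, hlj⟩ := hother i j
    have h := hent l i hli l j
    simpa [E, Matrix.sub_mul, Matrix.mul_sub, Matrix.single_mul_apply_same, Matrix.single_mul_apply_of_ne,
      Matrix.mul_single_apply_of_ne, hij.symm, hli, hli.symm, hlj, hlj.symm] using h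
  let i₀ : Fin m := ⟨0, by omega⟩
  set c := A i₀ i₀
  have hAc : ∀ j, A j j = c := by
    intro j
    obtain ⟨l, hlj, hl0⟩ := hother j i₀
    rw [hAD l j hlj, ← hAD l i₀ hl0]
  have hDc : ∀ i, D i i = c := by
    intro i
    obtain ⟨l, hli, -⟩ := hother i i
    rw [← hAD i l hli.symm, hAc]
  have hsc : ((g : G) : GL Idx F).1 = c • 1 := by
    rw [← fromBlocks_toBlocks ((g : G) : GL Idx F).1, hC, ← hB, hB0, ← hA, ← hD, ← fromBlocks_one,
      fromBlocks_smul, smul_zero]
    congr 1 <;> ext i j <;> rcases eq_or_ne i j with rfl | hij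
    all_goals first
      | (rw [Matrix.smul_apply, one_apply_eq, smul_eq_mul, mul_one]; first | exact hAc i | exact hDc i)
      | (rw [Matrix.smul_apply, one_apply_ne hij, smul_zero]; first | exact hAd i j hij | exact hDd i j hij)
      | simp
  refine hg (Subgroup.mem_center_iff.mpr fun h => Subtype.ext (ext_iff'.mpr ?_))
  show ((h : G) : GL Idx F).1 * ((g : G) : GL Idx F).1 = ((g : G) : GL Idx F).1 * ((h : G) : GL Idx F).1
  rw [hsc]
  simp

/-- The general construction. -/
theorem class_square_of_model [Fintype F] (hq : ∃ x : F, x ≠ 0 ∧ x ^ 2 ≠ 1) (h4 : 4 ≤ Fintype.card F)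
    {k : ℕ} (hm : m = 2 + k) (hm3 : 3 ≤ m) (x t : Fˣ) (hx : x ≠ x⁻¹) (s : Finset (Fin (2 + k)))
    (hs : Even s.card)
    (hne : ∀ i j, (((t * t : Fˣ) : F) • (tSL x k : Matrix (Fin (2 + k)) (Fin (2 + k)) F)) i i *
      (((t * t : Fˣ) : F) • (tSL x k : Matrix (Fin (2 + k)) (Fin (2 + k)) F)) j j = 1 → i = j)
    (hfix : ∀ i ∉ s, ∀ j,
      (((t * t : Fˣ) : F) • (tSL x k : Matrix (Fin (2 + k)) (Fin (2 + k)) F)) i j = (1 : Matrix _ _ F) i j ∧
      (((t * t : Fˣ) : F) • (tSL x k : Matrix (Fin (2 + k)) (Fin (2 + k)) F)) j i = (1 : Matrix _ _ F) j i) :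
    ∃ c : Cfsg.POmega F (Cfsg.quadFormPlus m F), ∀ g : Cfsg.POmega F (Cfsg.quadFormPlus m F),
      ∃ a b, g = (a * c * a⁻¹) * (b * c * b⁻¹) := by
  classical
  subst hm
  set M : (Matrix (Fin (2 + k)) (Fin (2 + k)) F)ˣ :=
    scalU (t * t) * Matrix.SpecialLinearGroup.toGL (tSL x k) with hM
  have hMc : (M : Matrix (Fin (2 + k)) (Fin (2 + k)) F) =
      ((t * t : Fˣ) : F) • (tSL x k : Matrix (Fin (2 + k)) (Fin (2 + k)) F) := by
    rw [hM, Units.val_mul, scalU_coe, Matrix.smul_mul, Matrix.one_mul]; rfl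
  rw [← hMc] at hne hfix
  have hlt : ∀ i j, j < i → (M : Matrix (Fin (2 + k)) (Fin (2 + k)) F) i j = 0 := fun i j h => by
    rw [hMc, Matrix.smul_apply, tSL_apply_lt x h, smul_zero]
  set Gm := Cfsg.isometryGroup F (Cfsg.quadFormPlus (2 + k) F)
  have hz : emb (scalU (t * t)) ∈ commutator Gm := by
    rw [emb_mem_iff hq (by omega), scalU_coe, det_smul, det_one, mul_one, Fintype.card_fin]
    exact IsSquare.pow _ ⟨(t : F), Units.val_mul t t⟩
  obtain ⟨N, hN, hyN⟩ := swap_conj s M hfix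
  obtain ⟨P, hP⟩ := exists_conj_transpose (k := k) x
  set P' := Matrix.SpecialLinearGroup.toGL (P : SpecialLinearGroup (Fin (2 + k)) F) with hP'
  have hMT : ((P' * M * P'⁻¹ : (Matrix (Fin (2 + k)) (Fin (2 + k)) F)ˣ) :
      Matrix (Fin (2 + k)) (Fin (2 + k)) F) = (↑N⁻¹ : Matrix (Fin (2 + k)) (Fin (2 + k)) F) := by
    have e : (↑N⁻¹ : Matrix (Fin (2 + k)) (Fin (2 + k)) F) =
        (M : Matrix (Fin (2 + k)) (Fin (2 + k)) F)ᵀ := by
      refine left_inv_eq_right_inv (Units.inv_mul N) ?_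
      rw [hN, ← transpose_mul, Units.mul_inv, transpose_one]
    rw [e, Units.val_mul, Units.val_mul, hMc, transpose_smul, hP, Matrix.mul_smul, Matrix.smul_mul,
      hP', ← map_inv]
    rfl
  let S : Frame ↥(commutator Gm) :=
    { Um := (um : Subgroup Gm).subgroupOf (commutator Gm)
      Up := (ur : Subgroup Gm).subgroupOf (commutator Gm)
      L := ((emb.comp Matrix.SpecialLinearGroup.toGL).range : Subgroup Gm).subgroupOf (commutator Gm)
      z := ⟨emb (scalU (t * t)), hz⟩
      s := ⟨emb (Matrix.SpecialLinearGroup.toGL (tSL x k)), emb_sl_mem hq _⟩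
      s_mem := ⟨tSL x k, rfl⟩
      z_comm := by
        rintro ⟨_, h⟩ ⟨A, rfl⟩
        apply Subtype.ext
        show emb (scalU (t * t)) * emb (Matrix.SpecialLinearGroup.toGL A) =
          emb (Matrix.SpecialLinearGroup.toGL A) * emb (scalU (t * t))
        rw [← map_mul, ← map_mul]
        exact congrArg emb (Units.ext (Algebra.commutes ((t * t : Fˣ) : F) _))
      norm_m := by
        rintro ⟨_, h⟩ ⟨A, rfl⟩ ⟨_, h'⟩ ⟨T, hT, rfl⟩
        obtain ⟨h'', e⟩ := emb_conj_low (Matrix.SpecialLinearGroup.toGL A) hT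
        exact ⟨_, h'', e⟩
      norm_p := by
        rintro ⟨_, h⟩ ⟨A, rfl⟩ ⟨_, h'⟩ ⟨T, hT, rfl⟩
        obtain ⟨h'', e⟩ := emb_conj_up (Matrix.SpecialLinearGroup.toGL A) hT
        exact ⟨_, h'', e⟩
      z_norm_m := by
        rintro ⟨_, h'⟩ ⟨T, hT, rfl⟩
        obtain ⟨h'', e⟩ := emb_conj_low (scalU (t * t)) hT
        exact ⟨_, h'', e⟩
      z_norm_p := by
        rintro ⟨_, h'⟩ ⟨T, hT, rfl⟩
        obtain ⟨h'', e⟩ := emb_conj_up (scalU (t * t)) hT
        exact ⟨_, h'', e⟩
      fix_m := by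
        rintro ⟨_, h'⟩ ⟨T, hT, rfl⟩ h
        have h1 : emb M * low T hT = low T hT * emb M := by
          rw [hM, map_mul]; exact congrArg Subtype.val h
        have e := congrArg (fun g : Gm => (g : GL (Fin (2 + k) ⊕ Fin (2 + k)) F).1.toBlocks₂₁) h1
        simp only [Subgroup.coe_mul, Units.val_mul, emb_coe, low_coe, fromBlocks_multiply,
          toBlocks_fromBlocks₂₁, Matrix.zero_mul, Matrix.mul_zero, zero_add, add_zero,
          Matrix.one_mul, Matrix.mul_one] at e
        have e' : (M : Matrix (Fin (2 + k)) (Fin (2 + k)) F)ᵀ * T * (M : Matrix _ _ F) = T := by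
          rw [Matrix.mul_assoc, ← e, ← Matrix.mul_assoc, ← transpose_mul, Units.inv_mul,
            transpose_one, Matrix.one_mul]
        have hT0 : T = 0 := eq_zero_of_tri hlt hlt e' fun i j h2 => hne i j h2 ▸ hT.2 rfl i
        subst hT0
        exact Subtype.ext (ext_iff'.mpr fromBlocks_one)
      fix_p := by
        rintro ⟨_, h'⟩ ⟨T, hT, rfl⟩ h
        have h1 : emb M * up T hT = up T hT * emb M := by
          rw [hM, map_mul]; exact congrArg Subtype.val h
        have e := congrArg (fun g : Gm => (g : GL (Fin (2 + k) ⊕ Fin (2 + k)) F).1.toBlocks₁₂) h1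
        simp only [Subgroup.coe_mul, Units.val_mul, emb_coe, up_coe, fromBlocks_multiply,
          toBlocks_fromBlocks₁₂, Matrix.zero_mul, Matrix.mul_zero, zero_add, add_zero,
          Matrix.one_mul, Matrix.mul_one] at e
        have e' : (M : Matrix (Fin (2 + k)) (Fin (2 + k)) F) * T * (M : Matrix _ _ F)ᵀ = T := by
          rw [e, Matrix.mul_assoc, ← transpose_mul, Units.mul_inv, transpose_one, Matrix.mul_one]
        have hT0 : T = 0 := eq_zero_of_tri' hlt hlt e' fun i j h2 => hne i j h2 ▸ hT.2 rfl i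
        subst hT0
        exact Subtype.ext (ext_iff'.mpr fromBlocks_one)
      real := by
        refine ⟨(⟨swapG s, swap_mem s hs⟩ : ↥(commutator Gm))⁻¹ *
          ⟨emb P', emb_sl_mem hq P⟩, Subtype.ext ?_⟩
        show (emb (scalU (t * t)) * emb (Matrix.SpecialLinearGroup.toGL (tSL x k)))⁻¹ =
          (swapG s)⁻¹ * emb P' * (emb (scalU (t * t)) * emb (Matrix.SpecialLinearGroup.toGL (tSL x k))) *
            ((swapG s)⁻¹ * emb P')⁻¹
        rw [← map_mul emb, ← hM]
        have h2 : emb P' * emb M * (emb P')⁻¹ = (emb N)⁻¹ := by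
          rw [← map_inv, ← map_inv, ← map_mul, ← map_mul]
          exact congrArg emb (Units.ext hMT)
        calc (emb M)⁻¹ = (swapG s)⁻¹ * (swapG s * (emb M)⁻¹) := by group
          _ = (swapG s)⁻¹ * ((emb N)⁻¹ * (emb N * swapG s) * (emb M)⁻¹) := by group
          _ = (swapG s)⁻¹ * ((emb N)⁻¹ * swapG s) := by rw [← hyN]; group
          _ = _ := by rw [← h2]; group }
  refine S.covers (QuotientGroup.mk' (Subgroup.center _)) (QuotientGroup.mk'_surjective _)
    fun g hg => ?_
  obtain ⟨y, hy, hyC⟩ := exists_moved hq hm3 (g := g)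
    fun h => hg ((QuotientGroup.eq_one_iff g).mpr h)
  obtain ⟨y', hy', A, hA, hns⟩ := exists_corner hq hm3
    (mul_mem (mul_mem hy g.2) (inv_mem hy)) hyC
  obtain ⟨v, ⟨T₁, hT₁, rfl⟩, u, ⟨T₂, hT₂, rfl⟩, e⟩ := ldu _ (Matrix.SpecialLinearGroup.toGL A) hA
  obtain ⟨X, Y, eXY, hX, hY⟩ := divides_tSL (k := k) (four_le_mk h4) hx A hns
  obtain ⟨P₁, rfl⟩ := conj_of_sim hX
  obtain ⟨R, rfl⟩ := conj_of_sim hY
  refine ⟨⟨y' * y, mul_mem hy' hy⟩, ⟨low T₁ hT₁, low_mem hq hT₁⟩, ⟨_, hT₁, rfl⟩,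
    ⟨_, emb_sl_mem hq P₁⟩, ⟨P₁, rfl⟩, ⟨_, emb_sl_mem hq R⟩, ⟨R, rfl⟩,
    ⟨up T₂ hT₂, up_mem hq hT₂⟩, ⟨_, hT₂, rfl⟩, Subtype.ext ?_⟩
  calc y' * y * (g : Gm) * (y' * y)⁻¹ = y' * (y * (g : Gm) * y⁻¹) * y'⁻¹ := by group
    _ = low T₁ hT₁ * emb (Matrix.SpecialLinearGroup.toGL A) * up T₂ hT₂ := e
    _ = _ := by
      rw [eXY]
      simp only [S, map_mul, map_inv, _root_.mul_inv_rev, inv_inv, mul_assoc, Subgroup.coe_mul,
        Subgroup.coe_inv]

theorem exists_unit_sq {γ : Fˣ} (hγ : ∀ e : ℕ, 0 < e → e < 8 → γ ^ e ≠ 1) :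
    ∃ x : F, x ≠ 0 ∧ x ^ 2 ≠ 1 :=
  ⟨γ, γ.ne_zero, fun h => hγ 2 (by omega) (by omega) (Units.ext (by simpa using h))⟩

/-- `PΩ⁺ (2 m, F)` is a class square. -/
theorem pomega_plus_class_square [Fintype F] (hq : 9 ≤ Fintype.card F) (hm : 4 ≤ m) :
    ∃ c : Cfsg.POmega F (Cfsg.quadFormPlus m F), ∀ g : Cfsg.POmega F (Cfsg.quadFormPlus m F),
      ∃ a b, g = (a * c * a⁻¹) * (b * c * b⁻¹) := by
  obtain ⟨γ, hγ⟩ := exists_gamma hq
  obtain ⟨k, rfl⟩ := Nat.exists_eq_add_of_le (show 2 ≤ m by omega)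
  rcases Nat.even_or_odd k with hk | hk
  · refine class_square_of_model (exists_unit_sq hγ) (by omega) rfl (by omega) γ γ
      (gamma_ne_inv hγ) Finset.univ (by simpa [Nat.even_add] using hk) (fun i j h => ?_)
      (fun i hi => absurd (Finset.mem_univ i) hi)
    refine absurd h ?_
    rw [← pow_two γ]
    exact scaled_mul_ne_one hγ i j
  · have hγ2 : γ ^ 2 ≠ (γ ^ 2)⁻¹ := fun h => hγ 4 (by omega) (by omega) (by
      rw [show (4 : ℕ) = 2 + 2 from rfl, pow_add, mul_eq_one_iff_eq_inv]; exact h)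
    set T := (((γ * γ : Fˣ) : F) • (tSL (γ ^ 2) k : Matrix (Fin (2 + k)) (Fin (2 + k)) F)) with hT
    let one' : Fin (2 + k) := finSumFinEquiv (Sum.inl 1)
    have he : ∀ a b : Fin 2 ⊕ Fin k, T (finSumFinEquiv a) (finSumFinEquiv b) = ((γ ^ 2 : Fˣ) : F) *
        model ((γ ^ 2 : Fˣ) : F) (((γ ^ 2)⁻¹ : Fˣ) : F) k a b := fun a b => by
      rw [hT, Matrix.smul_apply, smul_eq_mul, pow_two γ]
      refine congrArg _ ?_
      show reindex finSumFinEquiv finSumFinEquiv (model _ _ k) (finSumFinEquiv a) (finSumFinEquiv b) = _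
      simp [reindex_apply]
    have hd : ∀ i, i = one' ∧ T i i = 1 ∨
        i.val = 0 ∧ T i i = ((γ ^ 4 : Fˣ) : F) ∨ 2 ≤ i.val ∧ T i i = ((γ ^ 2 : Fˣ) : F) := by
      intro i
      obtain ⟨j, rfl⟩ := (finSumFinEquiv (m := 2) (n := k)).surjective i
      have e := he j j
      rcases j with j | j
      · fin_cases j
        · refine Or.inr (Or.inl ⟨rfl, ?_⟩)
          rw [e, show (4 : ℕ) = 2 + 2 from rfl, pow_add, Units.val_mul]
          simp [model]
        · refine Or.inl ⟨rfl, ?_⟩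
          rw [e]
          simp [model]
      · refine Or.inr (Or.inr ⟨by simp, ?_⟩)
        rw [e]
        simp [model, CfsgLib.RegUnip.uMat]
    refine class_square_of_model (exists_unit_sq hγ) (by omega) rfl (by omega) (γ ^ 2) γ hγ2
      (Finset.univ.erase one') ?_ (fun i j h => ?_) (fun i hi j => ?_)
    · rw [Finset.card_erase_of_mem (Finset.mem_univ _), Finset.card_univ, Fintype.card_fin]
      obtain ⟨c, hc⟩ := hk
      exact ⟨c + 1, by omega⟩
    · rw [← hT] at h
      have hpow : ∀ e : ℕ, 0 < e → e < 8 → ((γ ^ e : Fˣ) : F) ≠ 1 :=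
        fun e he he' h' => hγ e he he' (Units.ext h')
      rcases hd i with ⟨hi, ei⟩ | ⟨hi, ei⟩ | ⟨hi, ei⟩ <;>
        rcases hd j with ⟨hj, ej⟩ | ⟨hj, ej⟩ | ⟨hj, ej⟩ <;> rw [ei, ej] at h
      · exact hi.trans hj.symm
      · exact absurd (by simpa using h) (hpow 4 (by omega) (by omega))
      · exact absurd (by simpa using h) (hpow 2 (by omega) (by omega))
      · exact absurd (by simpa using h) (hpow 4 (by omega) (by omega))
      · exact Fin.ext (hi.trans hj.symm)
      · exact absurd (by rw [← Units.val_mul, ← pow_add] at h; exact h)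
          (hpow (4 + 2) (by omega) (by omega))
      · exact absurd (by simpa using h) (hpow 2 (by omega) (by omega))
      · exact absurd (by rw [← Units.val_mul, ← pow_add] at h; exact h)
          (hpow (2 + 4) (by omega) (by omega))
      · exact absurd (by rw [← Units.val_mul, ← pow_add] at h; exact h)
          (hpow (2 + 2) (by omega) (by omega))
    · simp only [Finset.mem_erase, Finset.mem_univ, and_true, not_not] at hi
      subst hi
      obtain ⟨l, rfl⟩ := (finSumFinEquiv (m := 2) (n := k)).surjective j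
      rw [← hT, he, he, Matrix.one_apply, Matrix.one_apply]
      simp only [one', finSumFinEquiv.injective.eq_iff]
      rcases l with l | l
      · fin_cases l <;> simp [model]
      · simp [model]

end CfsgLib.ClassSquare.Plus
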