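import Cfsg.Agent.ClassSquare.OddCorner
import Cfsg.Agent.ClassSquare.Scaled
import Cfsg.Agent.ClassSquare.PSL
import Cfsg.Agent.ClassSquare.PlusMain

/-!
# `PΩ (2 m + 1)` over a field with at least nine elements is a class square
-/

set_option autoImplicit false
set_option linter.unusedSectionVars false

namespace CfsgLib.ClassSquare.Odd

open Matrix QuadraticMap CfsgLib.Forms CfsgLib.Quad CfsgLib.ClassSquare CfsgLib.OreSL
open CfsgLib.ClassSquare.Plus (dilU det_dilU scalU scalU_coe scalU_inv_coe)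
open scoped MatrixGroups

variable {F : Type*} [Field F] {m : ℕ}

local notation "Idx" => Unit ⊕ (Fin m ⊕ Fin m)
local notation "Mat" => Matrix (Fin m) (Fin m) F
local notation "Row" => Matrix Unit (Fin m) F
local notation "Col" => Matrix (Fin m) Unit F
local notation "G" => Cfsg.isometryGroup F (Cfsg.quadFormOdd m F)
local notation "Ω" => commutator G

variable (h2 : (2 : F) ≠ 0) [Finite F]

include h2 in
theorem exists_moved (hq : ∃ x : F, x ≠ 0 ∧ x ^ 2 ≠ 1) (hm : 3 ≤ m) {g : Ω}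
    (hg : g ∉ Subgroup.center ↥Ω) :
    ∃ y ∈ Ω, bC (y * (g : G) * y⁻¹ : G).1.1 ≠ 0 := by
  classical
  by_contra hc
  push Not at hc
  obtain ⟨r1, r22, r12, r02, r01⟩ := rel h2 (g : G)
  set A := bA ((g : G) : GL Idx F).1 with hA
  set B := bB ((g : G) : GL Idx F).1 with hB
  set D := bD ((g : G) : GL Idx F).1 with hD
  set z := bz ((g : G) : GL Idx F).1 with hz
  set b := bb ((g : G) : GL Idx F).1 with hb
  have hC : bC ((g : G) : GL Idx F).1 = 0 := by simpa using hc 1 (one_mem _)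
  rw [hC] at r1 r12 r01
  have hc0 : bc ((g : G) : GL Idx F).1 = 0 := row_eq_zero h2 _ (by simpa using r1)
  rw [hc0] at r12 r01
  simp only [transpose_zero, Matrix.zero_mul, Matrix.mul_zero, smul_zero, zero_add, add_zero] at r12 r01
  have hAu : IsUnit A.det := by
    have := congrArg Matrix.det r12
    rw [det_mul, det_transpose, det_one] at this
    exact IsUnit.of_mul_eq_one _ this
  have hδ : bdelta ((g : G) : GL Idx F).1 = 0 := by
    have h := congrArg Matrix.transpose r01
    rw [transpose_mul, transpose_transpose, transpose_zero] at h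
    calc bdelta ((g : G) : GL Idx F).1 =
          (Aᵀ)⁻¹ * (Aᵀ * bdelta ((g : G) : GL Idx F).1) := by
          rw [← Matrix.mul_assoc, nonsing_inv_mul _ (by rwa [det_transpose]), Matrix.one_mul]
      _ = 0 := by rw [h, Matrix.mul_zero]
  obtain ⟨a, ha, ha2⟩ := hq
  have hm0 : 0 < m := by omega
  have hgen : ∀ (χ : Row) (S : Mat), Rad χ S →
      (2 : F) • (χᵀ * (z * χ)) - S * (bbeta ((g : G) : GL Idx F).1 * χ) + S * A +
        (-((2 : F) • (χᵀ * b)) + S * B + D) * Sᵀ = 0 := by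
    intro χ S hS
    rw [← low_conj_C h2 (g : G) hS hC hc0 hδ]
    exact hc _ (low_mem h2 hm0 hS)
  have hSB : ∀ S : Mat, Skew true S → S * A - D * S = 0 ∧ S * B * S = 0 := by
    intro S hS
    have hrad : ∀ T : Mat, Skew true T → Rad (0 : Row) T := fun T hT => by
      simp [Rad, skew_transpose hT]
    have h1 := hgen 0 S (hrad S hS)
    have h2' := hgen 0 (a • S) (hrad _ (hS.smul a))
    rw [skew_transpose hS] at h1
    rw [transpose_smul, skew_transpose hS] at h2'
    simp only [transpose_zero, Matrix.zero_mul, Matrix.mul_zero, smul_zero, neg_zero, sub_zero,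
      zero_add, add_zero, Matrix.add_mul, Matrix.mul_neg, Matrix.smul_mul, Matrix.mul_smul,
      smul_smul, smul_neg, smul_add] at h1 h2'
    have e : S * A - D * S = S * B * S := by linear_combination (norm := abel) h1
    have hne : a * a - a ≠ 0 := by
      rw [show a * a - a = a * (a - 1) by ring]
      exact mul_ne_zero ha (sub_ne_zero.mpr fun h => ha2 (by rw [h]; ring))
    have h4 : S * B * S = 0 := by
      refine (smul_eq_zero.mp (?_ : (a * a - a) • (S * B * S) = 0)).resolve_left hne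
      rw [sub_smul]
      have e' : a • (S * A - D * S) = (a * a) • (S * B * S) := by
        rw [smul_sub]; linear_combination (norm := abel) h2'
      rw [e] at e'
      rw [← e', sub_self]
    exact ⟨e.trans h4, h4⟩
  have hsk : ∀ i j : Fin m, i ≠ j → Skew true (Matrix.single i j (1 : F) - Matrix.single j i 1) :=
    fun i j hij => CfsgLib.ClassSquare.Plus.skew_true
      (by rw [transpose_sub, transpose_single, transpose_single, neg_sub])
      (fun l => by
        rw [Matrix.sub_apply, Matrix.single_apply, Matrix.single_apply, if_neg, if_neg, sub_zero]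
        · rintro ⟨rfl, rfl⟩; exact hij rfl
        · rintro ⟨rfl, rfl⟩; exact hij rfl)
  have hother : ∀ i j : Fin m, ∃ l, l ≠ i ∧ l ≠ j := fun i j => by
    obtain ⟨l, -, hl⟩ := Finset.exists_mem_notMem_of_card_lt_card (s := ({i, j} : Finset (Fin m)))
      (t := Finset.univ)
      (lt_of_le_of_lt Finset.card_le_two (by rw [Finset.card_univ, Fintype.card_fin]; omega))
    simp only [Finset.mem_insert, Finset.mem_singleton, not_or] at hl
    exact ⟨l, hl⟩
  have hB0 : B = 0 := by
    ext i j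
    obtain ⟨l, hli, hlj⟩ := hother i j
    rcases eq_or_ne i j with rfl | hij
    · have h := congrFun (congrFun (hSB _ (hsk l i hli)).2 l) l
      simp [Matrix.sub_mul, Matrix.mul_sub, Matrix.single_mul_apply_same, Matrix.mul_single_apply_same,
        Matrix.single_mul_apply_of_ne, Matrix.mul_single_apply_of_ne, hli, hli.symm] at h
      simpa using h
    · have h := congrFun (congrFun (hSB _ (hsk i j hij)).2 j) i
      simp [Matrix.sub_mul, Matrix.mul_sub, Matrix.single_mul_apply_same, Matrix.mul_single_apply_same,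
        Matrix.single_mul_apply_of_ne, Matrix.mul_single_apply_of_ne, hij, hij.symm] at h
      simpa using h
  let E : Fin m → Fin m → Mat := fun i j => Matrix.single i j (1 : F) - Matrix.single j i 1
  have hent : ∀ i j : Fin m, i ≠ j → ∀ r c : Fin m, (E i j * A) r c = (D * E i j) r c :=
    fun i j hij r c => by rw [sub_eq_zero.mp (hSB _ (hsk i j hij)).1]
  have hDd : ∀ i j, i ≠ j → D i j = 0 := by
    intro i j hij
    obtain ⟨l, hli, hlj⟩ := hother i j
    have h := hent j l hlj.symm i l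
    simpa [E, Matrix.sub_mul, Matrix.mul_sub, Matrix.single_mul_apply_of_ne,
      Matrix.mul_single_apply_same, Matrix.mul_single_apply_of_ne, hij, hli.symm, hlj, hlj.symm]
      using h.symm
  have hAD : ∀ i j, i ≠ j → A j j = D i i := by
    intro i j hij
    have h := hent i j hij i j
    simpa [E, Matrix.sub_mul, Matrix.mul_sub, Matrix.single_mul_apply_same, Matrix.single_mul_apply_of_ne,
      Matrix.mul_single_apply_same, Matrix.mul_single_apply_of_ne, hij, hij.symm] using h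
  have hAd : ∀ i j, i ≠ j → A i j = 0 := by
    intro i j hij
    obtain ⟨l, hli, hlj⟩ := hother i j
    have h := hent l i hli l j
    simpa [E, Matrix.sub_mul, Matrix.mul_sub, Matrix.single_mul_apply_same, Matrix.single_mul_apply_of_ne,
      Matrix.mul_single_apply_of_ne, hij.symm, hli, hli.symm, hlj, hlj.symm] using h
  let i₀ : Fin m := ⟨0, by omega⟩
  set c := A i₀ i₀
  have hAc : A = c • 1 := by
    ext i j
    rcases eq_or_ne i j with rfl | hij
    · obtain ⟨l, hlj, hl0⟩ := hother i i₀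
      rw [hAD l i hlj, ← hAD l i₀ hl0]; simp [c]
    · simp [hAd i j hij, one_apply_ne hij]
  have hDc : D = c • 1 := by
    ext i j
    rcases eq_or_ne i j with rfl | hij
    · obtain ⟨l, hli, -⟩ := hother i i
      rw [← hAD i l hli.symm, hAc]; simp
    · simp [hDd i j hij, one_apply_ne hij]
  have hcc : c * c = 1 := by
    have := congrFun (congrFun r12 i₀) i₀
    rw [hAc, hDc] at this
    simpa using this
  have hb0 : b = 0 := row_eq_zero h2 b (by rw [hB0] at r22; simpa using r22)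
  have hβ : bbeta ((g : G) : GL Idx F).1 = 0 := by
    rw [hB0, hb0, hDc] at r02
    simp only [transpose_zero, Matrix.zero_mul, Matrix.mul_zero, smul_zero, zero_add, add_zero,
      Matrix.mul_smul, Matrix.mul_one] at r02
    have := congrArg Matrix.transpose ((smul_eq_zero.mp r02).resolve_left fun h => by
      rw [h, mul_zero] at hcc; exact zero_ne_one hcc)
    simpa using this
  have hzc : z = c • 1 := by
    let χ : Row := Matrix.single () i₀ 1
    have hz1 : z = z () () • 1 := by ext u v; simp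
    have hS : Rad χ (-(χᵀ * χ)) := by
      simp only [Rad, transpose_neg, transpose_mul, transpose_transpose, two_smul]
      abel
    have h := hgen χ _ hS
    rw [hz1, hβ, hb0, hB0, hAc, hDc] at h
    simp only [transpose_neg, transpose_mul, transpose_transpose, Matrix.zero_mul, Matrix.mul_zero,
      smul_zero, neg_zero, sub_zero, zero_add, add_zero, Matrix.mul_smul, Matrix.smul_mul,
      Matrix.one_mul, Matrix.mul_one] at h
    have := congrFun (congrFun h i₀) i₀
    simp [χ, transpose_single] at this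
    ext u v
    simp only [Matrix.smul_apply, smul_eq_mul, Matrix.one_apply_eq, mul_one]
    refine mul_left_cancel₀ h2 ?_
    linear_combination this
  have hsc : ((g : G) : GL Idx F).1 = c • 1 := by
    rw [eq_mk3 ((g : G) : GL Idx F).1, hC, hc0, hβ, hδ, ← hA, ← hB, ← hD, ← hz, ← hb, hAc, hB0, hDc,
      hzc, hb0, ← mk3_one]
    ext (i | i | i) (j | j | j) <;> simp [mk3, Matrix.one_apply]
  refine hg (Subgroup.mem_center_iff.mpr fun h => Subtype.ext (ext_iff'.mpr ?_))
  show ((h : G) : GL Idx F).1 * ((g : G) : GL Idx F).1 = ((g : G) : GL Idx F).1 * ((h : G) : GL Idx F).1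
  rw [hsc]
  simp

/-- Upper triangular matrices without the eigenvalue one fix no row. -/
theorem row_fixed_eq_zero {n : ℕ} {M : Matrix (Fin n) (Fin n) F} (hlt : ∀ i j, j < i → M i j = 0)
    (h1 : ∀ i, M i i ≠ 1) (χ : Matrix Unit (Fin n) F) : (χ * M = χ → χ = 0) ∧ (χ * Mᵀ = χ → χ = 0) := by
  have hd : (M - 1).det ≠ 0 := by
    rw [det_of_upperTriangular (fun i j (h : j < i) => by
      rw [Matrix.sub_apply, hlt i j h, one_apply_ne (ne_of_gt h), sub_zero])]
    exact Finset.prod_ne_zero_iff.mpr fun i _ => by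
      simpa [sub_ne_zero] using h1 i
  have key : ∀ X : Matrix (Fin n) (Fin n) F, (X - 1).det ≠ 0 → χ * X = χ → χ = 0 := fun X hX h => by
    calc χ = χ * ((X - 1) * (X - 1)⁻¹) := by
          rw [mul_nonsing_inv _ (isUnit_iff_ne_zero.mpr hX), Matrix.mul_one]
      _ = 0 := by rw [← Matrix.mul_assoc, Matrix.mul_sub, h, Matrix.mul_one, sub_self, Matrix.zero_mul]
  exact ⟨key M hd, key Mᵀ (by rwa [show Mᵀ - 1 = (M - 1)ᵀ by simp, det_transpose])⟩

/-- The distinguished coordinate commutes with the model. -/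
theorem dil_comm {k : ℕ} (x ν : Fˣ) :
    ((dilU (finSumFinEquiv (Sum.inl (0 : Fin 2))) ν : (Matrix (Fin (2 + k)) (Fin (2 + k)) F)ˣ) :
        Matrix (Fin (2 + k)) (Fin (2 + k)) F) *
        (tSL x k : Matrix (Fin (2 + k)) (Fin (2 + k)) F) =
      (tSL x k : Matrix (Fin (2 + k)) (Fin (2 + k)) F) *
        ((dilU (finSumFinEquiv (Sum.inl (0 : Fin 2))) ν : (Matrix (Fin (2 + k)) (Fin (2 + k)) F)ˣ) :
        Matrix (Fin (2 + k)) (Fin (2 + k)) F) := by
  show diagonal _ * _ = _ * diagonal _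
  ext i j
  rw [diagonal_mul, mul_diagonal]
  obtain ⟨a, rfl⟩ := (finSumFinEquiv (m := 2) (n := k)).surjective i
  obtain ⟨b, rfl⟩ := (finSumFinEquiv (m := 2) (n := k)).surjective j
  have e : (tSL x k : Matrix (Fin (2 + k)) (Fin (2 + k)) F) (finSumFinEquiv a) (finSumFinEquiv b) =
      model (x : F) ((x⁻¹ : Fˣ) : F) k a b := by
    show reindex _ _ _ _ _ = _
    simp [reindex_apply]
  rw [e]
  simp only [Function.update_apply, finSumFinEquiv.injective.eq_iff, Pi.one_apply]
  rcases a with a | a <;> rcases b with b | b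
  · fin_cases a <;> fin_cases b <;> simp [model]; ring
  · simp [model]
  · simp [model]
  · simp [model]

include h2 in
/-- The general construction. -/
theorem class_square_of_model [Fintype F] [DecidableEq F] (hq : 9 ≤ Fintype.card F) {k : ℕ}
    (hm : m = 2 + k) (hm3 : 3 ≤ m) :
    ∃ c : Cfsg.POmega F (Cfsg.quadFormOdd m F), ∀ g : Cfsg.POmega F (Cfsg.quadFormOdd m F),
      ∃ a b, g = (a * c * a⁻¹) * (b * c * b⁻¹) := by
  subst hm
  obtain ⟨γ, hγ⟩ := exists_gamma hq
  have hqq : ∃ x : F, x ≠ 0 ∧ x ^ 2 ≠ 1 := CfsgLib.ClassSquare.Plus.exists_unit_sq hγ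
  set n := 2 + k
  set M : (Matrix (Fin n) (Fin n) F)ˣ :=
    scalU (γ ^ 2) * Matrix.SpecialLinearGroup.toGL (tSL γ k) with hM
  have hMc : (M : Matrix (Fin n) (Fin n) F) = scaled γ k := scaledU_coe γ
  have hlt : ∀ i j, j < i → (M : Matrix (Fin n) (Fin n) F) i j = 0 := fun i j h => by
    rw [hMc, scaled_lt γ h]
  have hne : ∀ i j, (M : Matrix (Fin n) (Fin n) F) i i * (M : Matrix (Fin n) (Fin n) F) j j ≠ 1 :=
    fun i j => by rw [hMc]; exact scaled_mul_ne_one hγ i j
  have h1 : ∀ i, (M : Matrix (Fin n) (Fin n) F) i i ≠ 1 := fun i => by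
    rw [hMc]; exact scaled_ne_one hγ i
  set Gm := Cfsg.isometryGroup F (Cfsg.quadFormOdd n F)
  have hz : emb h2 (scalU (γ ^ 2)) ∈ commutator Gm := by
    rw [emb_mem_iff h2 hqq (by omega), scalU_coe, det_smul, det_one, mul_one, Fintype.card_fin]
    exact IsSquare.pow _ ⟨(γ : F), by rw [pow_two, Units.val_mul]⟩
  obtain ⟨N, hN, hyN⟩ := y0_conj h2 M
  obtain ⟨P, hP⟩ := exists_conj_transpose (k := k) γ
  set P' := Matrix.SpecialLinearGroup.toGL (P : SpecialLinearGroup (Fin n) F) with hP'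
  have hMT : P' * M * P'⁻¹ = N⁻¹ := by
    refine Units.ext ?_
    have e : (↑N⁻¹ : Matrix (Fin n) (Fin n) F) = (M : Matrix (Fin n) (Fin n) F)ᵀ := by
      refine left_inv_eq_right_inv (Units.inv_mul N) ?_
      rw [hN, ← transpose_mul, Units.mul_inv, transpose_one]
    rw [e, Units.val_mul, Units.val_mul, hMc, scaled, transpose_smul, hP, Matrix.mul_smul,
      Matrix.smul_mul, hP', ← map_inv]
    rfl
  obtain ⟨ν₀, hν⟩ := FiniteField.exists_nonsquare (F := F) (fun e => h2 (by
    have := ringChar.Nat.cast_ringChar (R := F)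
    rw [e] at this
    exact_mod_cast this))
  set ν := Units.mk0 ν₀ (fun e => hν (e ▸ ⟨0, by ring⟩))
  set i₀ : Fin n := finSumFinEquiv (Sum.inl (0 : Fin 2))
  have hD : dilU i₀ ν * M = M * dilU i₀ ν := by
    refine Units.ext ?_
    rw [Units.val_mul (dilU i₀ ν) M, Units.val_mul M (dilU i₀ ν), hMc, scaled, Matrix.mul_smul,
      Matrix.smul_mul, dil_comm]
  obtain ⟨y, hy, hyM⟩ : ∃ y ∈ commutator Gm, (emb h2 M)⁻¹ = y * emb h2 M * y⁻¹ := by
    have e2 : emb h2 P' * emb h2 M * (emb h2 P')⁻¹ = (emb h2 N)⁻¹ := by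
      rw [← map_inv (emb h2) N, ← hMT, map_mul (emb h2) (P' * M) P'⁻¹, map_mul (emb h2) P' M,
        map_inv (emb h2) P']
    have e1 : (emb h2 M)⁻¹ =
        ((y0 h2)⁻¹ * emb h2 P') * emb h2 M * ((y0 h2)⁻¹ * emb h2 P')⁻¹ := by
      calc (emb h2 M)⁻¹ = (y0 h2)⁻¹ * (y0 h2 * (emb h2 M)⁻¹) := by group
        _ = (y0 h2)⁻¹ * ((emb h2 N)⁻¹ * (emb h2 N * y0 h2) * (emb h2 M)⁻¹) := by group
        _ = (y0 h2)⁻¹ * ((emb h2 N)⁻¹ * y0 h2) := by rw [← hyN]; group
        _ = _ := by rw [← e2]; group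
    have hdet : detG ((y0 h2)⁻¹ * emb h2 P' : Gm) = 1 := by
      rw [map_mul, detG_emb, mul_one]
      have := map_mul (detG (F := F) (m := n)) (y0 h2)⁻¹ (y0 h2)
      rw [inv_mul_cancel, map_one, detG_apply (y0 h2), det_y0, mul_one] at this
      exact this.symm
    rcases mem_or_mul_dil h2 hqq i₀ (ν := ν) hν ((detG_apply _).symm.trans hdet) with h | h
    · exact ⟨_, h, e1⟩
    · refine ⟨_, h, e1.trans ?_⟩
      have e3 : emb h2 (dilU i₀ ν) * emb h2 M * (emb h2 (dilU i₀ ν))⁻¹ = emb h2 M := by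
        rw [← map_mul, hD, map_mul, mul_inv_cancel_right]
      conv_lhs => rw [← e3]
      group
  let S : Frame ↥(commutator Gm) :=
    { Um := (um h2 : Subgroup Gm).subgroupOf (commutator Gm)
      Up := (ur h2 : Subgroup Gm).subgroupOf (commutator Gm)
      L := (((emb h2).comp Matrix.SpecialLinearGroup.toGL).range : Subgroup Gm).subgroupOf
        (commutator Gm)
      z := ⟨emb h2 (scalU (γ ^ 2)), hz⟩
      s := ⟨emb h2 (Matrix.SpecialLinearGroup.toGL (tSL γ k)), emb_sl_mem h2 hqq _⟩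
      s_mem := ⟨tSL γ k, rfl⟩
      z_comm := by
        rintro ⟨_, h⟩ ⟨A, rfl⟩
        apply Subtype.ext
        show emb h2 (scalU (γ ^ 2)) * emb h2 (Matrix.SpecialLinearGroup.toGL A) =
          emb h2 (Matrix.SpecialLinearGroup.toGL A) * emb h2 (scalU (γ ^ 2))
        rw [← map_mul, ← map_mul]
        exact congrArg (emb h2) (Units.ext (Algebra.commutes ((γ ^ 2 : Fˣ) : F) _))
      norm_m := by
        rintro ⟨_, h⟩ ⟨A, rfl⟩ ⟨_, h'⟩ ⟨χ, T, hT, rfl⟩
        obtain ⟨h'', e⟩ := emb_conj_low h2 (Matrix.SpecialLinearGroup.toGL A) hT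
        exact ⟨_, _, h'', e⟩
      norm_p := by
        rintro ⟨_, h⟩ ⟨A, rfl⟩ ⟨_, h'⟩ ⟨χ, T, hT, rfl⟩
        obtain ⟨h'', e⟩ := emb_conj_up h2 (Matrix.SpecialLinearGroup.toGL A) hT
        exact ⟨_, _, h'', e⟩
      z_norm_m := by
        rintro ⟨_, h'⟩ ⟨χ, T, hT, rfl⟩
        obtain ⟨h'', e⟩ := emb_conj_low h2 (scalU (γ ^ 2)) hT
        exact ⟨_, _, h'', e⟩
      z_norm_p := by
        rintro ⟨_, h'⟩ ⟨χ, T, hT, rfl⟩
        obtain ⟨h'', e⟩ := emb_conj_up h2 (scalU (γ ^ 2)) hT
        exact ⟨_, _, h'', e⟩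
      fix_m := by
        rintro ⟨_, h'⟩ ⟨χ, T, hT, rfl⟩ h
        have h1' : emb h2 M * low h2 χ T hT * (emb h2 M)⁻¹ = low h2 χ T hT := by
          rw [mul_inv_eq_iff_eq_mul, hM, map_mul]; exact congrArg Subtype.val h
        obtain ⟨h'', e⟩ := emb_conj_low h2 M hT
        rw [e] at h1'
        have e' := congrArg (fun g : Gm => (g : GL (Unit ⊕ (Fin n ⊕ Fin n)) F).1) h1'
        simp only [low_coe] at e'
        obtain ⟨-, eχ, -, -, -, -, -, eS, -⟩ := mk3_inj e'
        have hχ0 : χ = 0 := (row_fixed_eq_zero hlt h1 χ).1 (by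
          conv_lhs => rw [← eχ]
          rw [Matrix.mul_assoc, Units.inv_mul, Matrix.mul_one])
        subst hχ0
        have e'' : (M : Matrix (Fin n) (Fin n) F)ᵀ * T * (M : Matrix _ _ F) = T := by
          conv_lhs => rw [← eS]
          simp only [Matrix.mul_assoc, Units.inv_mul, Matrix.mul_one]
          rw [← Matrix.mul_assoc, ← transpose_mul, Units.inv_mul, transpose_one, Matrix.one_mul]
        have hT0 : T = 0 := eq_zero_of_tri hlt hlt e'' fun i j h2 => absurd h2 (hne i j)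
        subst hT0
        exact Subtype.ext (ext_iff'.mpr (by rw [low_coe]; simp [mk3_one]))
      fix_p := by
        rintro ⟨_, h'⟩ ⟨χ, T, hT, rfl⟩ h
        have h1' : emb h2 M * up h2 χ T hT * (emb h2 M)⁻¹ = up h2 χ T hT := by
          rw [mul_inv_eq_iff_eq_mul, hM, map_mul]; exact congrArg Subtype.val h
        obtain ⟨h'', e⟩ := emb_conj_up h2 M hT
        rw [e] at h1'
        have e' := congrArg (fun g : Gm => (g : GL (Unit ⊕ (Fin n ⊕ Fin n)) F).1) h1'
        simp only [up_coe] at e'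
        obtain ⟨-, -, eχ, -, -, -, eS, -, -⟩ := mk3_inj e'
        have hχ0 : χ = 0 := (row_fixed_eq_zero hlt h1 χ).2 eχ
        subst hχ0
        have hT0 : T = 0 := eq_zero_of_tri' hlt hlt eS fun i j h2 => absurd h2 (hne i j)
        subst hT0
        exact Subtype.ext (ext_iff'.mpr (by rw [up_coe]; simp [mk3_one]))
      real := by
        refine ⟨⟨y, hy⟩, Subtype.ext ?_⟩
        show (emb h2 (scalU (γ ^ 2)) * emb h2 (Matrix.SpecialLinearGroup.toGL (tSL γ k)))⁻¹ =
          y * (emb h2 (scalU (γ ^ 2)) * emb h2 (Matrix.SpecialLinearGroup.toGL (tSL γ k))) * y⁻¹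
        rw [← map_mul (emb h2), ← hM]
        exact hyM }
  refine S.covers (QuotientGroup.mk' (Subgroup.center _)) (QuotientGroup.mk'_surjective _)
    fun g hg => ?_
  obtain ⟨y, hy, hyC⟩ := exists_moved h2 hqq hm3 (g := g)
    fun h => hg ((QuotientGroup.eq_one_iff g).mpr h)
  obtain ⟨y', hy', A, hA, hns⟩ := exists_corner h2 hqq hm3
    (mul_mem (mul_mem hy g.2) (inv_mem hy)) hyC
  obtain ⟨χ₁, T₁, hT₁, χ₂, T₂, hT₂, e⟩ := ldu h2 (by omega)
    (detG_of_mem (mul_mem (mul_mem hy' (mul_mem (mul_mem hy g.2) (inv_mem hy))) (inv_mem hy')))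
    (Matrix.SpecialLinearGroup.toGL A) hA
  obtain ⟨X, Y, eXY, hX, hY⟩ := divides_tSL (k := k) (four_le_mk (by omega)) (gamma_ne_inv hγ) A hns
  obtain ⟨P₁, rfl⟩ := conj_of_sim hX
  obtain ⟨R, rfl⟩ := conj_of_sim hY
  refine ⟨⟨y' * y, mul_mem hy' hy⟩, ⟨low h2 χ₁ T₁ hT₁, low_mem h2 (by omega) hT₁⟩,
    ⟨_, _, hT₁, rfl⟩, ⟨_, emb_sl_mem h2 hqq P₁⟩, ⟨P₁, rfl⟩, ⟨_, emb_sl_mem h2 hqq R⟩, ⟨R, rfl⟩,
    ⟨up h2 χ₂ T₂ hT₂, up_mem h2 (by omega) hT₂⟩, ⟨_, _, hT₂, rfl⟩, Subtype.ext ?_⟩
  calc y' * y * (g : Gm) * (y' * y)⁻¹ = y' * (y * (g : Gm) * y⁻¹) * y'⁻¹ := by group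
    _ = low h2 χ₁ T₁ hT₁ * emb h2 (Matrix.SpecialLinearGroup.toGL A) * up h2 χ₂ T₂ hT₂ := e
    _ = _ := by
      rw [eXY]
      simp only [S, map_mul, map_inv, _root_.mul_inv_rev, inv_inv, mul_assoc, Subgroup.coe_mul,
        Subgroup.coe_inv]

/-- `PΩ (2 m + 1, F)` is a class square. -/
theorem pomega_odd_class_square [Fintype F] (hq : 9 ≤ Fintype.card F) (hm : 3 ≤ m)
    (hodd : Odd (Fintype.card F)) :
    ∃ c : Cfsg.POmega F (Cfsg.quadFormOdd m F), ∀ g : Cfsg.POmega F (Cfsg.quadFormOdd m F),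
      ∃ a b, g = (a * c * a⁻¹) * (b * c * b⁻¹) := by
  classical
  have h2 : (2 : F) ≠ 0 := fun h => by
    haveI : CharP F 2 := CharTwo.of_one_ne_zero_of_two_eq_zero one_ne_zero h
    obtain ⟨n, hp, hn⟩ := FiniteField.card F 2
    rw [hn] at hodd
    exact (Nat.not_odd_iff_even.mpr ((Nat.even_pow).mpr ⟨even_two, n.pos.ne'⟩)) hodd
  obtain ⟨k, rfl⟩ := Nat.exists_eq_add_of_le (show 2 ≤ m by omega)
  exact class_square_of_model h2 hq rfl hm

end CfsgLib.ClassSquare.Odd
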