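import Cfsg.Agent.ClassSquare.Shift

/-!
# The reachable corners
-/

set_option autoImplicit false
set_option linter.unusedSectionVars false

namespace CfsgLib.ClassSquare

open Matrix

variable {F : Type*} [Field F] [DecidableEq F] {ι : Type*} [Fintype ι] [DecidableEq ι]
  {C : Matrix ι ι F}

namespace Diag

variable (δ : Diag C)

/-- The indices of the support. -/
abbrev Supp : Type _ := {i : ι // δ.d i ≠ 0}

/-- The target with prescribed block on the support. -/
def target (A : Matrix ι ι F) (N : Matrix δ.Supp δ.Supp F) (Z : Matrix ι ι F) : Matrix ι ι F :=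
  fun i j => if hj : δ.d j = 0 then δ.coord A i j
    else if hi : δ.d i = 0 then Z i j else N ⟨i, hi⟩ ⟨j, hj⟩ / δ.d i

/-- The constant relating the determinant of the corner to that of the block. -/
def kappa (A : Matrix ι ι F) : F :=
  (∏ i : δ.Supp, δ.d i)⁻¹ * ((δ.coord A).toSquareBlockProp fun i => ¬δ.d i ≠ 0).det

theorem kappa_ne_zero (A : Matrix ι ι F) (hinj : ∀ v, A *ᵥ v = 0 → C *ᵥ v = 0 → v = 0)
    (h0 : ∀ i j, δ.d i ≠ 0 → δ.d j = 0 → δ.coord A i j = 0) : δ.kappa A ≠ 0 :=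
  mul_ne_zero (inv_ne_zero (Finset.prod_ne_zero_iff.mpr fun i _ => i.2)) (δ.det_off_ne_zero A hinj h0)

theorem det_back_target (A : Matrix ι ι F)
    (h0 : ∀ i j, δ.d i ≠ 0 → δ.d j = 0 → δ.coord A i j = 0) (N : Matrix δ.Supp δ.Supp F)
    (Z : Matrix ι ι F) : (δ.back (δ.target A N Z)).det = δ.kappa A * N.det := by
  rw [δ.det_back, δ.det_target _ fun i j hi hj => by simp [target, hj, h0 i j hi hj]]
  have h1 : ((δ.target A N Z).toSquareBlockProp fun i => ¬δ.d i ≠ 0) =
      (δ.coord A).toSquareBlockProp fun i => ¬δ.d i ≠ 0 := by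
    ext i j
    exact dif_pos (not_not.mp j.2)
  have h2 : ((δ.target A N Z).toSquareBlockProp fun i => δ.d i ≠ 0) =
      diagonal (fun i : δ.Supp => (δ.d i)⁻¹) * N := by
    ext i j
    rw [diagonal_mul]
    show δ.target A N Z i.1 j.1 = _
    rw [target, dif_neg j.2, dif_neg i.2]
    exact div_eq_inv_mul _ _
  rw [h1, h2, det_mul, det_diagonal, Finset.prod_inv_distrib, kappa]
  ring

/-- A target is reached by a matrix of the given kind. -/
theorem exists_target {b : Bool} (A : Matrix ι ι F) (N : Matrix δ.Supp δ.Supp F) (Z : Matrix ι ι F)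
    (hN : Skew b (fun i j : δ.Supp => N i j - δ.d i * δ.coord A i j)) :
    ∃ S : Matrix ι ι F, Skew b S ∧ A + S * C = δ.back (δ.target A N Z) := by
  refine δ.exists_shift A _ (fun i j hj => dif_pos hj) ?_
  have e : (fun i j : δ.Supp => δ.d i * (δ.target A N Z i j - δ.coord A i j)) =
      fun i j : δ.Supp => N i j - δ.d i * δ.coord A i j := by
    funext i j
    rw [target, dif_neg j.2, dif_neg i.2, mul_sub, mul_div_cancel₀ _ i.2]
  exact e ▸ hN

theorem exists_supp (hC : C ≠ 0) : ∃ j, δ.d j ≠ 0 := by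
  by_contra h
  push Not at h
  refine hC ?_
  have hd : δ.P * C * δ.Q = 0 := by rw [δ.eq, show δ.d = 0 from funext h]; exact diagonal_zero
  calc C = δ.P' * δ.P * C * (δ.Q * δ.Q') := by
        rw [mul_eq_one_comm.mp δ.hP, δ.hQ, Matrix.one_mul, Matrix.mul_one]
    _ = δ.P' * (δ.P * C * δ.Q) * δ.Q' := by simp only [Matrix.mul_assoc]
    _ = 0 := by rw [hd, Matrix.mul_zero, Matrix.zero_mul]

/-- Scalar corners determine the block up to a scalar. -/
theorem block_of_scalar {A : Matrix ι ι F} {N : Matrix δ.Supp δ.Supp F} {Z : Matrix ι ι F} {μ : F}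
    (h : δ.back (δ.target A N Z) = μ • 1) :
    δ.target A N Z = μ • δ.coord 1 := by
  apply δ.back_injective
  rw [h, δ.back_smul, δ.back_coord]

/-- Off the full support two choices of the free entries cannot both be scalar. -/
theorem not_scalar_of_partial (A : Matrix ι ι F) (hC : C ≠ 0) {N : Matrix δ.Supp δ.Supp F}
    (hN : N.det ≠ 0) (hR : ¬∀ i, δ.d i ≠ 0) :
    ∃ Z : Matrix ι ι F, ∀ c : F, δ.back (δ.target A N Z) ≠ c • 1 := by
  by_contra hc
  push Not at hc
  push Not at hR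
  obtain ⟨i₀, hi₀⟩ := hR
  obtain ⟨j₀, hj₀⟩ := δ.exists_supp hC
  obtain ⟨k, hk⟩ : ∃ k, N ⟨j₀, hj₀⟩ k ≠ 0 := by
    by_contra h
    push Not at h
    exact hN (det_eq_zero_of_row_eq_zero _ h)
  obtain ⟨μ, e1⟩ := hc 0
  obtain ⟨μ', e2⟩ := hc (Matrix.single i₀ j₀ 1)
  have h1 := δ.block_of_scalar e1
  have h2 := δ.block_of_scalar e2
  have a1 := congrFun (congrFun h1 j₀) k.1
  have a2 := congrFun (congrFun h2 j₀) k.1
  rw [target, dif_neg k.2, dif_neg hj₀, Matrix.smul_apply, smul_eq_mul] at a1 a2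
  have hne : δ.coord 1 j₀ k.1 ≠ 0 := fun e => by
    rw [e, mul_zero, div_eq_zero_iff] at a1
    rcases a1 with a1 | a1
    · exact hk a1
    · exact hj₀ a1
  have hμ : μ' = μ := mul_right_cancel₀ hne (a2.symm.trans a1)
  have b1 := congrFun (congrFun h1 i₀) j₀
  have b2 := congrFun (congrFun h2 i₀) j₀
  rw [target, dif_neg hj₀, dif_pos hi₀] at b1 b2
  rw [hμ, ← b1] at b2
  simp at b2

/-- A family closed under a change making blocks non-proportional contains one with nonscalar
corner. -/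
theorem exists_nonscalar (A : Matrix ι ι F) (hC : C ≠ 0)
    (P : Matrix δ.Supp δ.Supp F → Prop) {N : Matrix δ.Supp δ.Supp F} (hP : P N) (hN : N.det ≠ 0)
    (halt : (∀ i, δ.d i ≠ 0) →
      ∃ N' : Matrix δ.Supp δ.Supp F, P N' ∧ N'.det = N.det ∧ ∀ μ : F, N' ≠ μ • N) :
    ∃ (N' : Matrix δ.Supp δ.Supp F) (Z : Matrix ι ι F), P N' ∧ N'.det = N.det ∧
      ∀ c : F, δ.back (δ.target A N' Z) ≠ c • 1 := by
  by_cases hR : ∀ i, δ.d i ≠ 0
  · obtain ⟨N', hP', hd', hN'⟩ := halt hR
    by_cases h : ∀ c : F, δ.back (δ.target A N 0) ≠ c • 1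
    · exact ⟨N, 0, hP, rfl, h⟩
    push Not at h
    obtain ⟨c, hc⟩ := h
    refine ⟨N', 0, hP', hd', fun c' hc' => ?_⟩
    have hc0 : c ≠ 0 := by
      rintro rfl
      apply hN
      have e := δ.block_of_scalar hc
      have hN0 : N = 0 := by
        ext i j
        have := congrFun (congrFun e i.1) j.1
        rw [target, dif_neg j.2, dif_neg i.2, zero_smul] at this
        simpa [i.2] using this
      obtain ⟨j, hj⟩ := δ.exists_supp hC
      haveI : Nonempty δ.Supp := ⟨⟨j, hj⟩⟩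
      rw [hN0, det_zero]
    refine hN' (c' / c) ?_
    ext i j
    have e1 := congrFun (congrFun (δ.block_of_scalar hc') i.1) j.1
    have e2 := congrFun (congrFun (δ.block_of_scalar hc) i.1) j.1
    rw [target, dif_neg j.2, dif_neg i.2, Matrix.smul_apply, smul_eq_mul, div_eq_iff i.2] at e1 e2
    rw [Matrix.smul_apply, smul_eq_mul, e1, e2]
    field_simp
  · obtain ⟨Z, hZ⟩ := δ.not_scalar_of_partial A hC hN hR
    exact ⟨N, Z, hP, rfl, hZ⟩

end Diag

end CfsgLib.ClassSquare
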