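import Cfsg.Agent.ClassSquare.PlusBasic
import Cfsg.Agent.ClassSquare.Target
import Cfsg.Agent.Quad.IndexTwo

/-!
# Membership in the commutator subgroup, and moving the corner
-/

set_option autoImplicit false
set_option linter.unusedSectionVars false

namespace CfsgLib.ClassSquare.Plus

open Matrix QuadraticMap CfsgLib.Forms CfsgLib.Quad CfsgLib.ClassSquare
open scoped MatrixGroups

variable {F : Type*} [Field F] {m : ℕ}

local notation "Idx" => Fin m ⊕ Fin m
local notation "Mat" => Matrix (Fin m) (Fin m) F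
local notation "G" => Cfsg.isometryGroup F (Cfsg.quadFormPlus m F)
local notation "Ω" => commutator G

variable (F m) in
/-- Matrices as linear isometries. -/
noncomputable def toO : G ≃* oGroup (plusQ (F := F) m) :=
  (MulEquiv.subgroupCongr (congrArg (Cfsg.isometryGroup F) (plusQ_coe (F := F) m).symm)).trans
    (isoGroupEquiv (plusQ m))

theorem toO_apply (g : G) (x : Idx → F) : (toO F m g).1 x = (g : GL Idx F).1 *ᵥ x := rfl

theorem mem_omega_iff (g : G) : g ∈ Ω ↔ toO F m g ∈ commutator (oGroup (plusQ (F := F) m)) :=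
  mem_commutator_equiv (toO F m) g |>.symm

theorem plusQ_apply (v : Idx → F) : plusQ m v = Cfsg.quadFormPlus m F v := by
  rw [← plusQ_coe]

theorem polar_elim (x y x' y' : Fin m → F) :
    polar (plusQ (F := F) m) (Sum.elim x y) (Sum.elim x' y') = x ⬝ᵥ y' + x' ⬝ᵥ y := by
  have e : Sum.elim x y + Sum.elim x' y' = Sum.elim (x + x') (y + y') := by
    funext i; rcases i with i | i <;> rfl
  simp only [polar, plusQ_apply, e, q_elim, add_dotProduct, dotProduct_add]
  ring

/-- A basic hyperbolic pair. -/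
theorem pair (i : Fin m) : IsPair (plusQ (F := F) m) (Sum.elim (Pi.single i (1 : F)) (0 : Fin m → F))
    (Sum.elim (0 : Fin m → F) (Pi.single i (1 : F))) :=
  ⟨by rw [plusQ_apply, q_elim, dotProduct_zero], by rw [plusQ_apply, q_elim, zero_dotProduct], by
    rw [polar_elim]; simp⟩

/-- A dilatation of one coordinate. -/
def dilU (i : Fin m) (t : Fˣ) : (Mat)ˣ :=
  ⟨diagonal (Function.update 1 i (t : F)), diagonal (Function.update 1 i ((t⁻¹ : Fˣ) : F)),
    by
      rw [diagonal_mul_diagonal, ← diagonal_one]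
      congr 1; funext j; rcases eq_or_ne j i with rfl | h <;> simp [*],
    by
      rw [diagonal_mul_diagonal, ← diagonal_one]
      congr 1; funext j; rcases eq_or_ne j i with rfl | h <;> simp [*]⟩

theorem det_dilU (i : Fin m) (t : Fˣ) : ((dilU i t : (Mat)ˣ) : Mat).det = t := by
  show (diagonal _).det = _
  rw [det_diagonal, Finset.prod_update_of_mem (Finset.mem_univ _)]
  simp

theorem toO_dil (i : Fin m) (t : Fˣ) :
    toO F m (emb (dilU i t)) =
      Quad.refl (plusQ m) (Sum.elim (Pi.single i (1 : F)) (0 : Fin m → F) - Sum.elim (0 : Fin m → F) (Pi.single i (1 : F))) *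
        Quad.refl (plusQ m) (Sum.elim (Pi.single i (1 : F)) (0 : Fin m → F) - (t : F) • Sum.elim (0 : Fin m → F) (Pi.single i (1 : F))) := by
  refine (pair i).eq_dil t.ne_zero fun x => ?_
  rw [toO_apply, emb_coe]
  conv_lhs => rw [← Sum.elim_comp_inl_inr x]
  rw [show polar (plusQ m) x = polar (plusQ m) (Sum.elim (x ∘ Sum.inl) (x ∘ Sum.inr)) by
    rw [Sum.elim_comp_inl_inr]]
  rw [fromBlocks_mulVec, Sum.elim_comp_inl, Sum.elim_comp_inr, polar_elim, polar_elim,
    show ((dilU i t : (Mat)ˣ) : Mat) = diagonal (Function.update 1 i (t : F)) from rfl,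
    show (↑(dilU i t)⁻¹ : Mat) = diagonal (Function.update 1 i ((t⁻¹ : Fˣ) : F)) from rfl,
    diagonal_transpose]
  funext k
  rcases k with k | k <;> rcases eq_or_ne k i with rfl | h <;>
    simp [mulVec_diagonal, *] <;> ring

variable [Finite F]

theorem emb_sl_mem (hq : ∃ x : F, x ≠ 0 ∧ x ^ 2 ≠ 1) (M : SpecialLinearGroup (Fin m) F) :
    emb (Matrix.SpecialLinearGroup.toGL M) ∈ Ω := by
  have h : M ∈ commutator (SpecialLinearGroup (Fin m) F) := by
    rw [CfsgLib.Linear.commutator_SL_eq_top (Or.inr hq)]; trivial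
  have hle : (commutator (SpecialLinearGroup (Fin m) F)).map
      (emb.comp Matrix.SpecialLinearGroup.toGL) ≤ Ω := by
    rw [commutator_def, Subgroup.map_commutator, commutator_def]
    exact Subgroup.commutator_mono le_top le_top
  exact hle ⟨M, h, rfl⟩

theorem emb_mem_iff_dil (hq : ∃ x : F, x ≠ 0 ∧ x ^ 2 ≠ 1) (i : Fin m) (M : (Mat)ˣ) (t : Fˣ)
    (ht : (t : F) = (M : Mat).det) : emb M ∈ Ω ↔ emb (dilU i t) ∈ Ω := by
  let N : SpecialLinearGroup (Fin m) F := ⟨((dilU i t)⁻¹ * M : (Mat)ˣ), by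
    rw [Units.val_mul, det_mul]
    have h := congrArg Matrix.det (Units.inv_mul (dilU i t))
    rw [det_mul, det_dilU, ht, det_one] at h
    exact h⟩
  have e : M = dilU i t * Matrix.SpecialLinearGroup.toGL N := by
    refine Units.ext ?_
    show (M : Mat) = (dilU i t : Mat) * ((↑(dilU i t)⁻¹ : Mat) * (M : Mat))
    rw [← Matrix.mul_assoc, Units.mul_inv, Matrix.one_mul]
  rw [e, map_mul]
  exact Subgroup.mul_mem_cancel_right _ (emb_sl_mem hq N)

/-- The Levi part of the commutator subgroup. -/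
theorem emb_mem_iff (hq : ∃ x : F, x ≠ 0 ∧ x ^ 2 ≠ 1) (hm : 0 < m) (M : (Mat)ˣ) :
    emb M ∈ Ω ↔ IsSquare (M : Mat).det := by
  have hd : (M : Mat).det ≠ 0 := (Matrix.isUnit_iff_isUnit_det _).mp M.isUnit |>.ne_zero
  rw [emb_mem_iff_dil hq ⟨0, hm⟩ M (Units.mk0 _ hd) rfl, mem_omega_iff, toO_dil]
  refine ⟨fun h => (pair _).isSquare_of_dil (plusQ_nondeg m) hd h, fun ⟨s, hs⟩ => ?_⟩
  rw [Units.val_mk0, hs]
  exact (pair _).dil_sq_mem (plusQ_nondeg m) (fun e => hd (by rw [hs, e, mul_zero]))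

theorem scalar_conj (S : Mat) (c : F) : (c • (1 : Mat))ᵀ * S * (c • (1 : Mat)) = (c * c) • S := by
  simp [smul_smul]

/-- The scalar dilatation. -/
def scalU (t : Fˣ) : (Mat)ˣ := Units.map (algebraMap F Mat).toMonoidHom t

theorem scalU_coe (t : Fˣ) : ((scalU t : (Mat)ˣ) : Mat) = (t : F) • (1 : Mat) :=
  Algebra.algebraMap_eq_smul_one _

theorem scalU_inv_coe (t : Fˣ) : (↑(scalU t : (Mat)ˣ)⁻¹ : Mat) = ((t⁻¹ : Fˣ) : F) • (1 : Mat) := by
  rw [scalU, ← map_inv]; exact Algebra.algebraMap_eq_smul_one _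

theorem low_mem (hq : ∃ x : F, x ≠ 0 ∧ x ^ 2 ≠ 1) {S : Mat} (h : Skew true S) :
    low S h ∈ Ω := by
  obtain ⟨a, ha0, ha⟩ := hq
  set t := (Units.mk0 a ha0)⁻¹
  obtain ⟨h', e⟩ := emb_conj_low (scalU t) (h.smul (a ^ 2 - 1)⁻¹)
  have hh := Subgroup.commutator_mem_commutator (Subgroup.mem_top (emb (scalU t)))
    (Subgroup.mem_top (low _ (h.smul (a ^ 2 - 1)⁻¹)))
  rw [← commutator_def, commutatorElement_def, e] at hh
  convert hh using 1
  rw [eq_mul_inv_iff_mul_eq]
  refine ext_iff'.mpr ?_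
  show Matrix.fromBlocks 1 0 S 1 * Matrix.fromBlocks 1 0 _ 1 = Matrix.fromBlocks 1 0 _ 1
  rw [fromBlocks_multiply, scalU_inv_coe, scalar_conj]
  have ht : ((t⁻¹ : Fˣ) : F) = a := by simp [t]
  simp only [Matrix.one_mul, Matrix.mul_one, Matrix.mul_zero, add_zero, Matrix.zero_mul, zero_add,
    smul_smul, ht]
  congr 1
  nth_rewrite 1 [← one_smul F S]
  rw [← add_smul]
  congr 1
  have : a ^ 2 - 1 ≠ 0 := sub_ne_zero.mpr ha
  field_simp
  ring

theorem up_mem (hq : ∃ x : F, x ≠ 0 ∧ x ^ 2 ≠ 1) {S : Mat} (h : Skew true S) :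
    up S h ∈ Ω := by
  obtain ⟨a, ha0, ha⟩ := hq
  set t := Units.mk0 a ha0
  obtain ⟨h', e⟩ := emb_conj_up (scalU t) (h.smul (a ^ 2 - 1)⁻¹)
  have hh := Subgroup.commutator_mem_commutator (Subgroup.mem_top (emb (scalU t)))
    (Subgroup.mem_top (up _ (h.smul (a ^ 2 - 1)⁻¹)))
  rw [← commutator_def, commutatorElement_def, e] at hh
  convert hh using 1
  rw [eq_mul_inv_iff_mul_eq]
  refine ext_iff'.mpr ?_
  show Matrix.fromBlocks 1 S 0 1 * Matrix.fromBlocks 1 _ 0 1 = Matrix.fromBlocks 1 _ 0 1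
  rw [fromBlocks_multiply, scalU_coe]
  simp only [Matrix.one_mul, Matrix.mul_one, Matrix.mul_zero, add_zero, Matrix.zero_mul, zero_add,
    transpose_smul, transpose_one, Matrix.mul_smul, Matrix.smul_mul, smul_smul,
    show (t : F) = a from rfl]
  refine fromBlocks_inj.mpr ⟨rfl, ?_, rfl, by simp⟩
  rw [add_comm]
  nth_rewrite 1 [← one_smul F S]
  rw [← add_smul]
  congr 1
  have : a ^ 2 - 1 ≠ 0 := sub_ne_zero.mpr ha
  field_simp
  ring

/-- The indicator of a set of coordinates. -/
def ind (s : Finset (Fin m)) : Fin m → F := fun i => if i ∈ s then 1 else 0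

/-- Exchanging the coordinates of `s`. -/
def swapG (s : Finset (Fin m)) : G :=
  let M : Matrix Idx Idx F := Matrix.fromBlocks (diagonal (1 - ind s)) (diagonal (ind s))
    (diagonal (ind s)) (diagonal (1 - ind s))
  have hM : M * M = 1 := by
    simp only [M, fromBlocks_multiply, diagonal_mul_diagonal, diagonal_add]
    rw [← fromBlocks_one]
    congr 1 <;>
      first
      | (rw [← diagonal_one]; congr 1; funext i; by_cases h : i ∈ s <;> simp [ind, h]; done)
      | (rw [← diagonal_zero]; congr 1; funext i; by_cases h : i ∈ s <;> simp [ind, h]; done)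
  ⟨⟨M, M, hM, hM⟩, mem_of_blocks rfl
    (by
      rw [diagonal_transpose, diagonal_mul_diagonal]
      refine skew_true ?_ (fun i => ?_)
      · rw [diagonal_transpose, diagonal_neg]
        congr 1; funext i; by_cases h : i ∈ s <;> simp [ind, h]
      · by_cases h : i ∈ s <;> simp [ind, h])
    (by
      rw [diagonal_transpose, diagonal_mul_diagonal]
      refine skew_true ?_ (fun i => ?_)
      · rw [diagonal_transpose, diagonal_neg]
        congr 1; funext i; by_cases h : i ∈ s <;> simp [ind, h]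
      · by_cases h : i ∈ s <;> simp [ind, h])
    (by
      rw [diagonal_transpose, diagonal_transpose, diagonal_mul_diagonal, diagonal_mul_diagonal,
        diagonal_add, ← diagonal_one]
      congr 1; funext i; by_cases h : i ∈ s <;> simp [ind, h])⟩

theorem swapG_coe (s : Finset (Fin m)) :
    ((swapG s : G) : GL Idx F).1 = Matrix.fromBlocks (diagonal (1 - ind s)) (diagonal (ind s))
      (diagonal (ind s)) (diagonal (1 - ind s)) := rfl

theorem swapG_mul {s t : Finset (Fin m)} (h : Disjoint s t) :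
    (swapG s : G) * swapG t = swapG (s ∪ t) := by
  refine ext_iff'.mpr ?_
  show ((swapG s : G) : GL Idx F).1 * ((swapG t : G) : GL Idx F).1 = _
  simp only [swapG_coe, fromBlocks_multiply, diagonal_mul_diagonal, diagonal_add]
  congr 1 <;>
    (congr 1; funext i
     by_cases h1 : i ∈ s
     · simp [ind, h1, Finset.disjoint_left.mp h h1]
     · by_cases h2 : i ∈ t <;> simp [ind, h1, h2])

theorem toO_swap (i : Fin m) : toO F m (swapG {i}) =
    Quad.refl (plusQ m) (Sum.elim (Pi.single i (1 : F)) (0 : Fin m → F) - Sum.elim (0 : Fin m → F) (Pi.single i (1 : F))) := by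
  refine (pair i).eq_swap fun x => ?_
  rw [toO_apply, swapG_coe]
  conv_lhs => rw [← Sum.elim_comp_inl_inr x]
  rw [show polar (plusQ m) x = polar (plusQ m) (Sum.elim (x ∘ Sum.inl) (x ∘ Sum.inr)) by
    rw [Sum.elim_comp_inl_inr]]
  rw [fromBlocks_mulVec, Sum.elim_comp_inl, Sum.elim_comp_inr, polar_elim, polar_elim]
  funext k
  rcases k with k | k <;> rcases eq_or_ne k i with rfl | h <;>
    simp [mulVec_diagonal, ind, *]

theorem swap_mem : ∀ s : Finset (Fin m), Even s.card → (swapG s : G) ∈ Ω := by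
  intro s
  induction s using Finset.strongInductionOn with
  | _ s ih =>
    intro hs
    rcases s.eq_empty_or_nonempty with rfl | ⟨a, ha⟩
    · rw [show (swapG (∅ : Finset (Fin m)) : G) = 1 from ext_iff'.mpr (by
        show _ = (1 : Matrix Idx Idx F)
        rw [swapG_coe, ← fromBlocks_one]
        congr 1 <;> first
          | (rw [← diagonal_one]; congr 1; funext i; simp [ind]; done)
          | (rw [← diagonal_zero]; congr 1; done))]
      exact one_mem _
    · obtain ⟨b, hb⟩ : (s.erase a).Nonempty := by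
        rw [← Finset.card_pos, Finset.card_erase_of_mem ha]
        obtain ⟨c, hc⟩ := hs
        have := Finset.card_pos.mpr ⟨a, ha⟩
        omega
      obtain ⟨hba, hbs⟩ := Finset.mem_erase.mp hb
      have hd : Disjoint ({a} ∪ {b} : Finset (Fin m)) ((s.erase a).erase b) := by
        simp [Finset.disjoint_left]
      have e : s = ({a} ∪ {b}) ∪ (s.erase a).erase b := by
        ext i
        by_cases h1 : i = a
        · simp [h1, ha]
        · by_cases h2 : i = b <;> simp [h1, h2, hbs]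
      rw [e, ← swapG_mul hd, ← swapG_mul (show Disjoint ({a} : Finset (Fin m)) {b} by
        simp [hba.symm])]
      refine mul_mem ?_ (ih _ ?_ ?_)
      · rw [mem_omega_iff, map_mul, toO_swap, toO_swap]
        exact (pair a).swap_swap_mem (plusQ_nondeg m) (pair b)
      · exact lt_of_le_of_lt (Finset.erase_subset _ _) (Finset.erase_ssubset ha)
      · rw [Finset.card_erase_of_mem hb, Finset.card_erase_of_mem ha]
        obtain ⟨c, hc⟩ := hs
        exact ⟨c - 1, by omega⟩

/-- Conjugating the Levi part by an exchange. -/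
theorem swap_conj (s : Finset (Fin m)) (M : (Mat)ˣ)
    (h1 : ∀ i ∉ s, ∀ j, (M : Mat) i j = (1 : Mat) i j ∧ (M : Mat) j i = (1 : Mat) j i) :
    ∃ N : (Mat)ˣ, (N : Mat) = ((↑M⁻¹ : Mat))ᵀ ∧ (swapG s : G) * emb M = emb N * swapG s := by
  set Mi : Mat := (↑M⁻¹ : Mat)
  let N : (Mat)ˣ := ⟨Miᵀ, (M : Mat)ᵀ,
    by rw [← transpose_mul, Units.mul_inv, transpose_one],
    by rw [← transpose_mul, Units.inv_mul, transpose_one]⟩
  refine ⟨N, rfl, ext_iff'.mpr ?_⟩
  have h2 : ∀ i ∉ s, ∀ j, Mi i j = (1 : Mat) i j ∧ Mi j i = (1 : Mat) j i := by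
    intro i hi j
    constructor
    · have := congrFun (congrFun (Units.mul_inv M) i) j
      rwa [Matrix.mul_apply, Finset.sum_eq_single i, (h1 i hi i).1, one_apply_eq, one_mul] at this
      · intro l _ hl; rw [(h1 i hi l).1, one_apply_ne hl.symm, zero_mul]
      · simp
    · have := congrFun (congrFun (Units.inv_mul M) j) i
      rwa [Matrix.mul_apply, Finset.sum_eq_single i, (h1 i hi i).1, one_apply_eq, mul_one] at this
      · intro l _ hl; rw [(h1 i hi l).2, one_apply_ne hl, mul_zero]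
      · simp
  show ((swapG s : G) : GL Idx F).1 * ((emb M : G) : GL Idx F).1 =
    ((emb N : G) : GL Idx F).1 * ((swapG s : G) : GL Idx F).1
  rw [swapG_coe, emb_coe, emb_coe, fromBlocks_multiply, fromBlocks_multiply,
    show (N : Mat) = Miᵀ from rfl, show (↑N⁻¹ : Mat)ᵀ = (M : Mat) from transpose_transpose _]
  simp only [Matrix.mul_zero, Matrix.zero_mul, add_zero, zero_add]
  have hz : ∀ (X : Mat), (∀ i ∉ s, ∀ j, X i j = (1 : Mat) i j ∧ X j i = (1 : Mat) j i) →
      ∀ i j, (i ∈ s → j ∉ s → X i j = 0) ∧ (i ∉ s → j ∈ s → X i j = 0) := fun X hX i j =>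
    ⟨fun hi hj => by rw [(hX j hj i).2, one_apply_ne (fun e : i = j => hj (e ▸ hi))],
     fun hi hj => by rw [(hX i hi j).1, one_apply_ne (fun e : i = j => hi (e ▸ hj))]⟩
  refine fromBlocks_inj.mpr ⟨?_, ?_, ?_, ?_⟩ <;> ext i j <;> rw [diagonal_mul, mul_diagonal] <;>
    by_cases hi : i ∈ s <;> by_cases hj : j ∈ s <;>
    simp only [ind, Pi.sub_apply, Pi.one_apply, transpose_apply, hi, hj, if_true, if_false,
      sub_self, sub_zero, mul_zero, zero_mul, one_mul, mul_one] <;>
    first
    | rfl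
    | exact (hz _ h1 i j).1 hi hj | exact (hz _ h1 i j).2 hi hj
    | exact ((hz _ h1 i j).1 hi hj).symm | exact ((hz _ h1 i j).2 hi hj).symm
    | exact (hz _ h2 j i).1 hj hi | exact (hz _ h2 j i).2 hj hi
    | exact ((hz _ h2 j i).1 hj hi).symm | exact ((hz _ h2 j i).2 hj hi).symm
    | exact (h1 i hi j).1.trans ((h2 i hi j).2.trans (by rw [Matrix.one_apply, Matrix.one_apply]; simp only [eq_comm])).symm
    | exact ((h1 i hi j).1.trans ((h2 i hi j).2.trans (by rw [Matrix.one_apply, Matrix.one_apply]; simp only [eq_comm])).symm).symm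

end CfsgLib.ClassSquare.Plus
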