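import Cfsg.Agent.ClassSquare.OddBasic
import Cfsg.Agent.ClassSquare.PlusOmega

/-!
# Membership in the commutator subgroup in odd dimension
-/

set_option autoImplicit false
set_option linter.unusedSectionVars false

namespace CfsgLib.ClassSquare.Odd

open Matrix QuadraticMap CfsgLib.Forms CfsgLib.Quad CfsgLib.ClassSquare
open CfsgLib.ClassSquare.Plus (dilU det_dilU scalU scalU_coe scalU_inv_coe)
open scoped MatrixGroups

variable {F : Type*} [Field F] {m : ℕ}

local notation "Idx" => Unit ⊕ (Fin m ⊕ Fin m)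
local notation "Mat" => Matrix (Fin m) (Fin m) F
local notation "Row" => Matrix Unit (Fin m) F
local notation "Col" => Matrix (Fin m) Unit F
local notation "G" => Cfsg.isometryGroup F (Cfsg.quadFormOdd m F)
local notation "Ω" => commutator G

variable (F m) in
/-- Matrices as linear isometries. -/
noncomputable def toO : G ≃* oGroup (oddQ (F := F) m) :=
  (MulEquiv.subgroupCongr (congrArg (Cfsg.isometryGroup F) (oddQ_coe (F := F) m).symm)).trans
    (isoGroupEquiv (oddQ m))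

theorem toO_apply (g : G) (x : Idx → F) : (toO F m g).1 x = (g : GL Idx F).1 *ᵥ x := rfl

theorem det_toO (g : G) : ((detO (oddQ (F := F) m) (toO F m g) : Fˣ) : F) = (g : GL Idx F).1.det :=
  det_isoGroupEquiv _ _

theorem mem_omega_iff (g : G) : g ∈ Ω ↔ toO F m g ∈ commutator (oGroup (oddQ (F := F) m)) :=
  mem_commutator_equiv (toO F m) g |>.symm

theorem oddQ_apply (v : Idx → F) : oddQ m v = Cfsg.quadFormOdd m F v := by rw [← oddQ_coe]

theorem polar_elim (t t' : Unit → F) (x y x' y' : Fin m → F) :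
    polar (oddQ (F := F) m) (Sum.elim t (Sum.elim x y)) (Sum.elim t' (Sum.elim x' y')) =
      2 * (t () * t' ()) + x ⬝ᵥ y' + x' ⬝ᵥ y := by
  have e : Sum.elim t (Sum.elim x y) + Sum.elim t' (Sum.elim x' y') =
      Sum.elim (t + t') (Sum.elim (x + x') (y + y')) := by
    funext i; rcases i with i | i | i <;> rfl
  simp only [polar, oddQ_apply, e, q_elim, add_dotProduct, dotProduct_add, Pi.add_apply]
  ring

theorem mk3_mulVec (z : Matrix Unit Unit F) (c b : Row) (β δ : Col) (A B C D : Mat) (t : Unit → F)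
    (x y : Fin m → F) :
    mk3 z c b β δ A B C D *ᵥ Sum.elim t (Sum.elim x y) =
      Sum.elim (z *ᵥ t + (c *ᵥ x + b *ᵥ y))
        (Sum.elim (β *ᵥ t + (A *ᵥ x + B *ᵥ y)) (δ *ᵥ t + (C *ᵥ x + D *ᵥ y))) := by
  simp only [mk3, fromBlocks_mulVec, Sum.elim_comp_inl, Sum.elim_comp_inr, fromCols_mulVec,
    fromRows_mulVec]
  funext i
  rcases i with i | i | i <;> rfl

/-- A basic hyperbolic pair. -/
theorem pair (i : Fin m) : IsPair (oddQ (F := F) m)
    (Sum.elim (0 : Unit → F) (Sum.elim (Pi.single i (1 : F)) (0 : Fin m → F)))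
    (Sum.elim (0 : Unit → F) (Sum.elim (0 : Fin m → F) (Pi.single i (1 : F)))) :=
  ⟨by rw [oddQ_apply, q_elim]; simp, by rw [oddQ_apply, q_elim]; simp, by rw [polar_elim]; simp⟩

variable (h2 : (2 : F) ≠ 0)

theorem toO_dil (i : Fin m) (t : Fˣ) :
    toO F m (emb h2 (dilU i t)) =
      Quad.refl (oddQ m)
          (Sum.elim (0 : Unit → F) (Sum.elim (Pi.single i (1 : F)) (0 : Fin m → F)) -
            Sum.elim (0 : Unit → F) (Sum.elim (0 : Fin m → F) (Pi.single i (1 : F)))) *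
        Quad.refl (oddQ m)
          (Sum.elim (0 : Unit → F) (Sum.elim (Pi.single i (1 : F)) (0 : Fin m → F)) -
            (t : F) • Sum.elim (0 : Unit → F) (Sum.elim (0 : Fin m → F) (Pi.single i (1 : F)))) := by
  refine (pair i).eq_dil t.ne_zero fun x => ?_
  obtain ⟨a, b, c, rfl⟩ : ∃ (a : Unit → F) (b c : Fin m → F), x = Sum.elim a (Sum.elim b c) :=
    ⟨x ∘ Sum.inl, x ∘ Sum.inr ∘ Sum.inl, x ∘ Sum.inr ∘ Sum.inr, by
      funext j; rcases j with j | j | j <;> rfl⟩
  rw [toO_apply, emb_coe, mk3_mulVec, polar_elim, polar_elim,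
    show ((dilU i t : (Mat)ˣ) : Mat) = diagonal (Function.update 1 i (t : F)) from rfl,
    show (↑(dilU i t)⁻¹ : Mat) = diagonal (Function.update 1 i ((t⁻¹ : Fˣ) : F)) from rfl,
    diagonal_transpose]
  funext k
  rcases k with k | k | k
  · simp
  all_goals
    rcases eq_or_ne k i with rfl | h <;> simp [mulVec_diagonal, *] <;> ring

/-- The sign making the exchange a rotation. -/
def sgn (F : Type*) [Field F] (m : ℕ) : F :=
  (Matrix.fromBlocks (0 : Matrix (Fin m) (Fin m) F) (1 : Matrix (Fin m) (Fin m) F)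
    (1 : Matrix (Fin m) (Fin m) F) (0 : Matrix (Fin m) (Fin m) F)).det

theorem sgn_mul_self : sgn F m * sgn F m = 1 := by
  rw [sgn, ← det_mul, fromBlocks_multiply]
  simp

/-- Exchanging all pairs, in the rotation group. -/
def y0 : G :=
  ofInv h2 (mk3 (sgn F m • 1) 0 0 0 0 0 1 1 0) (mk3 (sgn F m • 1) 0 0 0 0 0 1 1 0)
    (by rw [mk3_mul, ← mk3_one]; congr 1 <;> simp [smul_smul, sgn_mul_self])
    (by
      rw [mk3_transpose, polarM, mk3_mul, mk3_mul]
      congr 1 <;> simp [two, smul_smul, sgn_mul_self]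
      linear_combination 2 * sgn_mul_self (F := F) (m := m))

theorem det_y0 : ((y0 h2 : G) : GL Idx F).1.det = 1 := by
  show (mk3 (sgn F m • 1) 0 0 0 0 0 1 1 0).det = 1
  rw [mk3, show Matrix.fromCols (0 : Row) (0 : Row) = 0 from fromCols_zero,
    show Matrix.fromRows (0 : Col) (0 : Col) = 0 from fromRows_zero, det_fromBlocks_zero₂₁,
    det_smul, det_one, mul_one, Fintype.card_unit, pow_one]
  exact sgn_mul_self

theorem y0_conj (M : (Mat)ˣ) :
    ∃ N : (Mat)ˣ, (N : Mat) = ((↑M⁻¹ : Mat))ᵀ ∧ y0 h2 * emb h2 M = emb h2 N * y0 h2 := by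
  let N : (Mat)ˣ := ⟨((↑M⁻¹ : Mat))ᵀ, (M : Mat)ᵀ,
    by rw [← transpose_mul, Units.mul_inv, transpose_one],
    by rw [← transpose_mul, Units.inv_mul, transpose_one]⟩
  refine ⟨N, rfl, ext_iff'.mpr ?_⟩
  show mk3 (sgn F m • 1) 0 0 0 0 0 1 1 0 * mk3 1 0 0 0 0 (M : Mat) 0 0 ((↑M⁻¹ : Mat))ᵀ =
    mk3 1 0 0 0 0 ((↑M⁻¹ : Mat))ᵀ 0 0 ((M : Mat)ᵀ)ᵀ * mk3 (sgn F m • 1) 0 0 0 0 0 1 1 0
  rw [mk3_mul, mk3_mul]
  congr 1 <;> simp

variable [Finite F]

theorem finrank_two (hm : 0 < m) : 2 ≤ Module.finrank F (Idx → F) := by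
  simp only [Module.finrank_fintype_fun_eq_card, Fintype.card_sum, Fintype.card_fin,
    Fintype.card_unit]
  omega

include h2 in
theorem sq_mem (hm : 0 < m) (g : G) : g * g ∈ Ω := by
  have hQ := oddQ_nondeg (F := F) h2 m
  obtain ⟨θ, hθ⟩ := exists_spinor hQ h2 (finrank_two hm)
  rw [mem_omega_iff, map_mul, Quad.mem_commutator_iff hQ h2 (finrank_two hm) hθ, map_mul, map_mul,
    Int.units_mul_self]
  refine ⟨Units.ext ?_, rfl⟩
  rcases detO_eq_or hQ (toO F m g) with h | h <;> simp [h]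

theorem up_mem (hm : 0 < m) {χ : Row} {S : Mat} (h : Rad χ S) : up h2 χ S h ∈ Ω := by
  set χ' : Row := (2 : F)⁻¹ • χ
  set S' : Mat := (2 : F)⁻¹ • (S + (2 : F)⁻¹ • (χᵀ * χ))
  have h' : Rad χ' S' := by
    simp only [Rad, χ', S', transpose_smul, transpose_add, transpose_mul, transpose_transpose,
      Matrix.mul_smul, Matrix.smul_mul] at h ⊢
    ext i j
    have e := congrFun (congrFun h i) j
    simp only [Matrix.add_apply, Matrix.smul_apply, Matrix.neg_apply, smul_eq_mul] at e ⊢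
    field_simp
    linear_combination 2 * e
  obtain ⟨h'', e⟩ := up_mul h2 h' h'
  convert sq_mem h2 hm (up h2 χ' S' h') using 1
  rw [e]
  congr 1
  · simp only [χ', ← add_smul]
    rw [show (2 : F)⁻¹ + (2 : F)⁻¹ = 1 by field_simp; ring, one_smul]
  · simp only [χ', S', transpose_smul, Matrix.mul_smul, Matrix.smul_mul]
    ext i j
    simp only [Matrix.add_apply, Matrix.sub_apply, Matrix.smul_apply, smul_eq_mul]
    field_simp
    ring

theorem low_mem (hm : 0 < m) {χ : Row} {S : Mat} (h : Rad χ S) : low h2 χ S h ∈ Ω := by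
  set χ' : Row := (2 : F)⁻¹ • χ
  set S' : Mat := (2 : F)⁻¹ • (S + (2 : F)⁻¹ • (χᵀ * χ))
  have h' : Rad χ' S' := by
    simp only [Rad, χ', S', transpose_smul, transpose_add, transpose_mul, transpose_transpose,
      Matrix.mul_smul, Matrix.smul_mul] at h ⊢
    ext i j
    have e := congrFun (congrFun h i) j
    simp only [Matrix.add_apply, Matrix.smul_apply, Matrix.neg_apply, smul_eq_mul] at e ⊢
    field_simp
    linear_combination 2 * e
  obtain ⟨h'', e⟩ := low_mul h2 h' h'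
  convert sq_mem h2 hm (low h2 χ' S' h') using 1
  rw [e]
  congr 1
  · simp only [χ', ← add_smul]
    rw [show (2 : F)⁻¹ + (2 : F)⁻¹ = 1 by field_simp; ring, one_smul]
  · simp only [χ', S', transpose_smul, Matrix.mul_smul, Matrix.smul_mul]
    ext i j
    simp only [Matrix.add_apply, Matrix.sub_apply, Matrix.smul_apply, smul_eq_mul]
    field_simp
    ring

theorem emb_sl_mem (hq : ∃ x : F, x ≠ 0 ∧ x ^ 2 ≠ 1) (M : SpecialLinearGroup (Fin m) F) :
    emb h2 (Matrix.SpecialLinearGroup.toGL M) ∈ Ω := by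
  have h : M ∈ commutator (SpecialLinearGroup (Fin m) F) := by
    rw [CfsgLib.Linear.commutator_SL_eq_top (Or.inr hq)]; trivial
  have hle : (commutator (SpecialLinearGroup (Fin m) F)).map
      ((emb h2).comp Matrix.SpecialLinearGroup.toGL) ≤ Ω := by
    rw [commutator_def, Subgroup.map_commutator, commutator_def]
    exact Subgroup.commutator_mono le_top le_top
  exact hle ⟨M, h, rfl⟩

theorem emb_mem_iff_dil (hq : ∃ x : F, x ≠ 0 ∧ x ^ 2 ≠ 1) (i : Fin m) (M : (Mat)ˣ) (t : Fˣ)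
    (ht : (t : F) = (M : Mat).det) : emb h2 M ∈ Ω ↔ emb h2 (dilU i t) ∈ Ω := by
  let N : SpecialLinearGroup (Fin m) F := ⟨((dilU i t)⁻¹ * M : (Mat)ˣ), by
    rw [Units.val_mul, det_mul]
    have h := congrArg Matrix.det (Units.inv_mul (dilU i t))
    rw [det_mul, det_dilU, ht, det_one] at h
    exact h⟩
  have e : M = dilU i t * Matrix.SpecialLinearGroup.toGL N := by
    refine Units.ext ?_
    show (M : Mat) = (dilU i t : Mat) * ((↑(dilU i t)⁻¹ : Mat) * (M : Mat))
    rw [← Matrix.mul_assoc, Units.mul_inv, Matrix.one_mul]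
  rw [e, map_mul]
  exact Subgroup.mul_mem_cancel_right _ (emb_sl_mem h2 hq N)

/-- The Levi part of the commutator subgroup. -/
theorem emb_mem_iff (hq : ∃ x : F, x ≠ 0 ∧ x ^ 2 ≠ 1) (hm : 0 < m) (M : (Mat)ˣ) :
    emb h2 M ∈ Ω ↔ IsSquare (M : Mat).det := by
  have hd : (M : Mat).det ≠ 0 := (Matrix.isUnit_iff_isUnit_det _).mp M.isUnit |>.ne_zero
  rw [emb_mem_iff_dil h2 hq ⟨0, hm⟩ M (Units.mk0 _ hd) rfl, mem_omega_iff, toO_dil]
  refine ⟨fun h => (pair _).isSquare_of_dil (oddQ_nondeg h2 m) hd h, fun ⟨s, hs⟩ => ?_⟩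
  rw [Units.val_mk0, hs]
  exact (pair _).dil_sq_mem (oddQ_nondeg h2 m) (fun e => hd (by rw [hs, e, mul_zero]))

/-- The two cosets of the commutator subgroup in the rotation group. -/
theorem mem_or_mul_dil (hq : ∃ x : F, x ≠ 0 ∧ x ^ 2 ≠ 1) (i : Fin m) {ν : Fˣ}
    (hν : ¬IsSquare (ν : F)) {w : G} (hw : (w : GL Idx F).1.det = 1) :
    w ∈ Ω ∨ w * emb h2 (dilU i ν) ∈ Ω := by
  have hm : 0 < m := i.pos
  have hQ := oddQ_nondeg (F := F) h2 m
  obtain ⟨θ, hθ⟩ := exists_spinor hQ h2 (finrank_two hm)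
  have hiff : ∀ g : G, g ∈ Ω ↔ detO (oddQ (F := F) m) (toO F m g) = 1 ∧ θ (toO F m g) = 1 := fun g =>
    (mem_omega_iff g).trans (Quad.mem_commutator_iff hQ h2 (finrank_two hm) hθ _)
  have hdet1 : detO (oddQ (F := F) m) (toO F m w) = 1 := Units.ext (by rw [det_toO, hw]; rfl)
  have hdd : detO (oddQ (F := F) m) (toO F m (emb h2 (dilU i ν))) = 1 := by
    refine Units.ext ?_
    have q1 := (pair (F := F) i).q_comb 1
    rw [one_smul] at q1
    rw [toO_dil, map_mul, Units.val_mul, detO_refl, detO_refl]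
    · simp
    · rw [(pair i).q_comb]; exact neg_ne_zero.mpr ν.ne_zero
    · rw [q1]; exact neg_ne_zero.mpr one_ne_zero
  have hdθ : θ (toO F m (emb h2 (dilU i ν))) = -1 :=
    (Int.units_eq_one_or _).resolve_left fun h => hν (by
      have := (emb_mem_iff h2 hq hm (dilU i ν)).mp ((hiff _).mpr ⟨hdd, h⟩)
      rwa [det_dilU] at this)
  rcases Int.units_eq_one_or (θ (toO F m w)) with h | h
  · exact Or.inl ((hiff w).mpr ⟨hdet1, h⟩)
  · exact Or.inr ((hiff _).mpr ⟨by rw [map_mul, map_mul, hdet1, hdd, one_mul],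
      by rw [map_mul, map_mul, h, hdθ]; rfl⟩)

end CfsgLib.ClassSquare.Odd
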