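import Cfsg.Agent.Quad.Parity
import Cfsg.Agent.Quad.Matrices
import Cfsg.Agent.Quad.IndexTwo
import Cfsg.Agent.Classical.Transvections

/-!
# Elements acting on one hyperbolic pair
-/

set_option autoImplicit false
set_option linter.unusedSectionVars false

namespace CfsgLib.ClassSquare

open QuadraticMap CfsgLib.Forms CfsgLib.Quad

variable {F V : Type*} [Field F] [AddCommGroup V] [Module F V] {Q : QuadraticForm F V}
  {e f : V}

/-- A hyperbolic pair. -/
structure IsPair (Q : QuadraticForm F V) (e f : V) : Prop where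
  he : Q e = 0
  hf : Q f = 0
  hef : polar Q e f = 1

theorem IsPair.q_comb (h : IsPair Q e f) (t : F) : Q (e - t • f) = -t := by
  rw [sub_eq_add_neg, QuadraticMap.map_add Q, QuadraticMap.map_neg, QuadraticMap.map_smul,
    polar_neg_right, polar_smul_right, h.he, h.hf, h.hef]
  simp

theorem IsPair.polar_comb (h : IsPair Q e f) (t : F) (x : V) :
    polar Q x (e - t • f) = polar Q x e - t * polar Q x f := by
  rw [sub_eq_add_neg, polar_add_right, polar_neg_right, polar_smul_right, smul_eq_mul]
  ring

theorem IsPair.polar_self (h : IsPair Q e f) : polar Q e e = 0 ∧ polar Q f f = 0 ∧ polar Q f e = 1 := by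
  refine ⟨?_, ?_, by rw [polar_comm]; exact h.hef⟩
  · rw [QuadraticMap.polar_self, h.he, smul_zero]
  · rw [QuadraticMap.polar_self, h.hf, smul_zero]

theorem IsPair.refl_comb (h : IsPair Q e f) {t : F} (ht : t ≠ 0) (x : V) :
    (refl Q (e - t • f)).1 x = x + (t⁻¹ * polar Q x e - polar Q x f) • (e - t • f) := by
  rw [refl_apply, h.q_comb, h.polar_comb]
  congr 2
  field_simp

/-- The swap of the pair is the reflection in `e - f`. -/
theorem IsPair.eq_swap (h : IsPair Q e f) {g : oGroup Q}
    (hg : ∀ x, g.1 x = x + (polar Q x e - polar Q x f) • (e - f)) : g = refl Q (e - f) := by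
  refine Subtype.ext (LinearEquiv.ext fun x => ?_)
  have := h.refl_comb one_ne_zero x
  rw [one_smul, inv_one, one_mul] at this
  rw [hg, this]

/-- A dilatation of the pair is a product of two reflections. -/
theorem IsPair.eq_dil (h : IsPair Q e f) {t : F} (ht : t ≠ 0) {g : oGroup Q}
    (hg : ∀ x, g.1 x = x + ((t - 1) * polar Q x f) • e + ((t⁻¹ - 1) * polar Q x e) • f) :
    g = refl Q (e - f) * refl Q (e - t • f) := by
  obtain ⟨hee, hff, hfe⟩ := h.polar_self
  refine Subtype.ext (LinearEquiv.ext fun x => ?_)
  rw [hg, Subgroup.coe_mul, LinearEquiv.mul_apply]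
  have h1 := h.refl_comb one_ne_zero
  rw [one_smul] at h1
  rw [h1, h.refl_comb ht]
  simp only [polar_add_left, polar_smul_left, polar_sub_left, smul_eq_mul, hee, hff, hfe, h.hef,
    inv_one, one_mul, smul_sub, smul_smul, add_smul, sub_smul, mul_sub, sub_mul]
  match_scalars <;> field_simp <;> ring

variable [FiniteDimensional F V] (hQ : (polarBilin Q).Nondegenerate)

include hQ

/-- Squares of dilatations lie in the commutator subgroup. -/
theorem IsPair.dil_sq_mem (h : IsPair Q e f) {t : F} (ht : t ≠ 0) :
    refl Q (e - f) * refl Q (e - (t * t) • f) ∈ commutator (oGroup Q) := by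
  refine refl_pair_mem_commutator hQ ?_ ?_ ?_
  · have := h.q_comb 1
    rw [one_smul] at this
    rw [this]; exact neg_ne_zero.mpr one_ne_zero
  · rw [h.q_comb]; exact neg_ne_zero.mpr (mul_ne_zero ht ht)
  · have := h.q_comb 1
    rw [one_smul] at this
    rw [this, h.q_comb]
    exact ⟨t, by ring⟩

/-- Two swaps make an element of the commutator subgroup. -/
theorem IsPair.swap_swap_mem (h : IsPair Q e f) {e' f' : V} (h' : IsPair Q e' f') :
    refl Q (e - f) * refl Q (e' - f') ∈ commutator (oGroup Q) := by
  have q1 := h.q_comb 1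
  have q2 := h'.q_comb 1
  rw [one_smul] at q1 q2
  refine refl_pair_mem_commutator hQ ?_ ?_ ?_
  · rw [q1]; exact neg_ne_zero.mpr one_ne_zero
  · rw [q2]; exact neg_ne_zero.mpr one_ne_zero
  · rw [q1, q2]; exact ⟨1, by ring⟩

/-- The spinor norm of a dilatation. -/
theorem IsPair.isSquare_of_dil [Finite F] (h : IsPair Q e f) {t : F} (ht : t ≠ 0)
    (hg : refl Q (e - f) * refl Q (e - t • f) ∈ commutator (oGroup Q)) : IsSquare t := by
  by_cases h2 : (2 : F) = 0
  · haveI : CharP F 2 := CharTwo.of_one_ne_zero_of_two_eq_zero one_ne_zero h2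
    exact isSquare_char_two t
  · have hne : e ≠ 0 := fun he => by simpa [he] using h.hef
    have hn : 2 ≤ Module.finrank F V := by
      obtain ⟨hee, hff, hfe⟩ := h.polar_self
      have hli : LinearIndependent F ![e, f] := by
        refine LinearIndependent.pair_iff.mpr fun a b hab => ?_
        have e1 := congrArg (fun x => polar Q e x) hab
        have e2 := congrArg (fun x => polar Q f x) hab
        simp only [polar_add_right, polar_smul_right, smul_eq_mul, hee, hff, hfe, h.hef,
          polar_zero_right, mul_zero, mul_one, zero_add, add_zero] at e1 e2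
        exact ⟨e2, e1⟩
      simpa using hli.fintype_card_le_finrank
    obtain ⟨θ, hθ⟩ := exists_spinor hQ h2 hn
    have := ((mem_commutator_iff hQ h2 hn hθ _).mp hg).2
    have q1 := h.q_comb 1
    rw [one_smul] at q1
    have hv1 : Q (e - f) ≠ 0 := by rw [q1]; exact neg_ne_zero.mpr one_ne_zero
    have hv2 : Q (e - t • f) ≠ 0 := by rw [h.q_comb]; exact neg_ne_zero.mpr ht
    rw [map_mul] at this
    have heq : θ (refl Q (e - f)) = θ (refl Q (e - t • f)) := by
      rcases Int.units_eq_one_or (θ (refl Q (e - f))) with a | a <;>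
        rcases Int.units_eq_one_or (θ (refl Q (e - t • f))) with b | b <;>
        rw [a, b] at this ⊢ <;> exact absurd this (by decide)
    have hiff : IsSquare (-1 : F) ↔ IsSquare (-t) := by
      rw [← q1, ← h.q_comb t, ← hθ _ hv1, ← hθ _ hv2, heq]
    have := (Quad.isSquare_mul_iff h2 (neg_ne_zero.mpr one_ne_zero) (neg_ne_zero.mpr ht)).mpr hiff
    simpa using this

end CfsgLib.ClassSquare
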