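import Cfsg.Agent.ClassSquare.OrthTools
import Cfsg.Agent.ClassSquare.Shift
import Cfsg.Agent.Quad.Concrete
import Mathlib.LinearAlgebra.Matrix.SpecialLinearGroup

/-!
# Elements of the split orthogonal group in dimension `2 m`
-/

set_option autoImplicit false
set_option linter.unusedSectionVars false

namespace CfsgLib.ClassSquare.Plus

open Matrix QuadraticMap CfsgLib.Quad CfsgLib.ClassSquare
open scoped MatrixGroups

variable {F : Type*} [Field F] {m : ℕ}

local notation "Idx" => Fin m ⊕ Fin m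
local notation "Mat" => Matrix (Fin m) (Fin m) F
local notation "G" => Cfsg.isometryGroup F (Cfsg.quadFormPlus m F)

theorem q_elim (x y : Fin m → F) : Cfsg.quadFormPlus m F (Sum.elim x y) = x ⬝ᵥ y := rfl

theorem q_eq (v : Idx → F) : Cfsg.quadFormPlus m F v = (v ∘ Sum.inl) ⬝ᵥ (v ∘ Sum.inr) := rfl

theorem skew_true {M : Mat} (h : Mᵀ = -M) (hd : ∀ i, M i i = 0) : Skew true M :=
  ⟨fun i j => by simpa using congrFun (congrFun h i) j, fun _ => hd⟩

theorem Skew.transpose_eq {M : Mat} (h : Skew true M) : Mᵀ = -M :=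
  Matrix.ext fun i j => by simpa using h.1 i j

theorem alt_dot {M : Mat} (h : Skew true M) (x : Fin m → F) : x ⬝ᵥ (M *ᵥ x) = 0 := by
  simp only [dotProduct, mulVec, Finset.mul_sum]
  refine alt_sum_zero (fun i j => x i * (M i j * x j)) (fun i j => ?_) (fun i => by simp [h.2 rfl]) _
  have e := h.1 i j
  simp only [↓reduceIte] at e
  rw [e]; ring

theorem mem_of_blocks {g : GL Idx F} {A B C D : Mat}
    (hg : (g : Matrix Idx Idx F) = Matrix.fromBlocks A B C D)
    (h1 : Skew true (Aᵀ * C)) (h2 : Skew true (Bᵀ * D)) (h3 : Aᵀ * D + Cᵀ * B = 1) : g ∈ G := by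
  intro u v
  show Cfsg.quadFormPlus m F ((g : Matrix Idx Idx F) *ᵥ u) = Cfsg.quadFormPlus m F u
  rw [hg, fromBlocks_mulVec, q_elim, q_eq u]
  set x := u ∘ Sum.inl
  set y := u ∘ Sum.inr
  have hd : ∀ (P Q : Mat) (a b : Fin m → F), (P *ᵥ a) ⬝ᵥ (Q *ᵥ b) = a ⬝ᵥ ((Pᵀ * Q) *ᵥ b) :=
    fun P Q a b => by rw [← mulVec_mulVec, dotProduct_mulVec a Pᵀ, vecMul_transpose]
  rw [add_dotProduct, dotProduct_add, dotProduct_add, hd, hd, hd, hd, alt_dot h1, alt_dot h2,
    zero_add, add_zero]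
  have e : y ⬝ᵥ ((Bᵀ * C) *ᵥ x) = x ⬝ᵥ ((Cᵀ * B) *ᵥ y) := by
    rw [show Cᵀ * B = (Bᵀ * C)ᵀ by rw [transpose_mul, transpose_transpose], dotProduct_mulVec x,
      vecMul_transpose, dotProduct_comm]
  rw [e, ← dotProduct_add, ← add_mulVec, h3, one_mulVec]

theorem skew_zero : Skew true (0 : Mat) := skew_true (by simp) (by simp)

/-- `L S`. -/
def low (S : Mat) (h : Skew true S) : G :=
  ⟨⟨Matrix.fromBlocks 1 0 S 1, Matrix.fromBlocks 1 0 (-S) 1, by simp [fromBlocks_multiply],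
    by simp [fromBlocks_multiply]⟩,
    mem_of_blocks rfl (by simpa using h) (by simpa using skew_zero) (by simp)⟩

/-- `U S`. -/
def up (S : Mat) (h : Skew true S) : G :=
  ⟨⟨Matrix.fromBlocks 1 S 0 1, Matrix.fromBlocks 1 (-S) 0 1, by simp [fromBlocks_multiply],
    by simp [fromBlocks_multiply]⟩,
    mem_of_blocks rfl (by simpa using skew_zero)
      (by simpa [Skew.transpose_eq h] using h.neg) (by simp)⟩

theorem low_coe {S : Mat} (h : Skew true S) :
    ((low S h : G) : GL Idx F).1 = Matrix.fromBlocks 1 0 S 1 := rfl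

theorem up_coe {S : Mat} (h : Skew true S) :
    ((up S h : G) : GL Idx F).1 = Matrix.fromBlocks 1 S 0 1 := rfl

/-- The Levi embedding. -/
def emb : (Mat)ˣ →* G where
  toFun M := ⟨⟨Matrix.fromBlocks (M : Mat) 0 0 ((↑M⁻¹ : Mat))ᵀ,
      Matrix.fromBlocks (↑M⁻¹ : Mat) 0 0 ((M : Mat))ᵀ,
      by simp [fromBlocks_multiply, ← transpose_mul],
      by simp [fromBlocks_multiply, ← transpose_mul]⟩,
    mem_of_blocks rfl (by simpa using skew_zero) (by simpa using skew_zero)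
      (by simp [← transpose_mul])⟩
  map_one' := Subtype.ext (Units.ext (by simp))
  map_mul' M N := Subtype.ext (Units.ext (by simp [fromBlocks_multiply, transpose_mul]))

theorem emb_coe (M : (Mat)ˣ) :
    ((emb M : G) : GL Idx F).1 = Matrix.fromBlocks (M : Mat) 0 0 ((↑M⁻¹ : Mat))ᵀ := rfl

theorem ext_iff' {g h : G} : g = h ↔ (g : GL Idx F).1 = (h : GL Idx F).1 :=
  ⟨fun e => e ▸ rfl, fun e => Subtype.ext (Units.ext e)⟩

/-- The lower unipotent radical. -/
def um : Subgroup G where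
  carrier := {g | ∃ S h, g = low S h}
  one_mem' := ⟨0, skew_zero, ext_iff'.mpr fromBlocks_one.symm⟩
  mul_mem' := by
    rintro _ _ ⟨S, h, rfl⟩ ⟨T, k, rfl⟩
    exact ⟨S + T, h.add k, ext_iff'.mpr (by simp [low_coe, fromBlocks_multiply])⟩
  inv_mem' := by
    rintro _ ⟨S, h, rfl⟩
    exact ⟨-S, h.neg, ext_iff'.mpr rfl⟩

/-- The upper unipotent radical. -/
def ur : Subgroup G where
  carrier := {g | ∃ S h, g = up S h}
  one_mem' := ⟨0, skew_zero, ext_iff'.mpr fromBlocks_one.symm⟩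
  mul_mem' := by
    rintro _ _ ⟨S, h, rfl⟩ ⟨T, k, rfl⟩
    exact ⟨T + S, k.add h, ext_iff'.mpr (by simp [up_coe, fromBlocks_multiply])⟩
  inv_mem' := by
    rintro _ ⟨S, h, rfl⟩
    exact ⟨-S, h.neg, ext_iff'.mpr rfl⟩

theorem emb_conj_low (M : (Mat)ˣ) {S : Mat} (h : Skew true S) :
    ∃ h', emb M * low S h * (emb M)⁻¹ = low ((↑M⁻¹ : Mat)ᵀ * S * (↑M⁻¹ : Mat)) h' := by
  refine ⟨h.congr _, ?_⟩
  rw [mul_inv_eq_iff_eq_mul]
  exact ext_iff'.mpr (by simp [low_coe, emb_coe, fromBlocks_multiply, Matrix.mul_assoc])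

theorem emb_conj_up (M : (Mat)ˣ) {S : Mat} (h : Skew true S) :
    ∃ h', emb M * up S h * (emb M)⁻¹ = up ((M : Mat) * S * (M : Mat)ᵀ) h' := by
  refine ⟨by simpa using h.congr (M : Mat)ᵀ, ?_⟩
  rw [mul_inv_eq_iff_eq_mul]
  exact ext_iff'.mpr (by simp [up_coe, emb_coe, fromBlocks_multiply, Matrix.mul_assoc,
    ← transpose_mul])

/-- The blocks of an element. -/
theorem rel (g : G) :
    Skew true (((g : GL Idx F).1.toBlocks₁₁)ᵀ * (g : GL Idx F).1.toBlocks₂₁) ∧
      Skew true (((g : GL Idx F).1.toBlocks₁₂)ᵀ * (g : GL Idx F).1.toBlocks₂₂) ∧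
      ((g : GL Idx F).1.toBlocks₁₁)ᵀ * (g : GL Idx F).1.toBlocks₂₂ +
        ((g : GL Idx F).1.toBlocks₂₁)ᵀ * (g : GL Idx F).1.toBlocks₁₂ = 1 := by
  classical
  set A := (g : GL Idx F).1.toBlocks₁₁
  set B := (g : GL Idx F).1.toBlocks₁₂
  set C := (g : GL Idx F).1.toBlocks₂₁
  set D := (g : GL Idx F).1.toBlocks₂₂
  have H : ∀ x y : Fin m → F, (A *ᵥ x + B *ᵥ y) ⬝ᵥ (C *ᵥ x + D *ᵥ y) = x ⬝ᵥ y := fun x y => by
    have h : Cfsg.quadFormPlus m F ((g : GL Idx F).1 *ᵥ Sum.elim x y) = Cfsg.quadFormPlus m F (Sum.elim x y) :=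
      g.2 (Sum.elim x y) 0
    rwa [← fromBlocks_toBlocks (g : GL Idx F).1, fromBlocks_mulVec, q_elim, Sum.elim_comp_inl,
      Sum.elim_comp_inr, q_elim] at h
  have hd : ∀ (P Q : Mat) (i j : Fin m),
      (P *ᵥ Pi.single i 1) ⬝ᵥ (Q *ᵥ Pi.single j 1) = (Pᵀ * Q) i j := fun P Q i j => by
    simp [mulVec_single_one, dotProduct, Matrix.mul_apply]
  have e11 : ∀ i, (Aᵀ * C) i i = 0 := fun i => by
    rw [← hd]
    simpa using H (Pi.single i 1) 0
  have e22 : ∀ i, (Bᵀ * D) i i = 0 := fun i => by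
    rw [← hd]
    simpa using H 0 (Pi.single i 1)
  refine ⟨skew_true ?_ e11, skew_true ?_ e22, ?_⟩
  · ext i j
    have h := H (Pi.single i 1 + Pi.single j 1) 0
    simp only [mulVec_zero, add_zero, mulVec_add, add_dotProduct, dotProduct_add, hd, e11,
      dotProduct_zero, zero_dotProduct, zero_add] at h
    rw [Matrix.neg_apply, transpose_apply]
    linear_combination h
  · ext i j
    have h := H 0 (Pi.single i 1 + Pi.single j 1)
    simp only [mulVec_zero, zero_add, mulVec_add, add_dotProduct, dotProduct_add, hd, e22,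
      dotProduct_zero, zero_dotProduct, add_zero] at h
    rw [Matrix.neg_apply, transpose_apply]
    linear_combination h
  · ext i j
    have h := H (Pi.single i 1) (Pi.single j 1)
    simp only [add_dotProduct, dotProduct_add, hd, e11, e22] at h
    have e : (Cᵀ * B) i j = (Bᵀ * C) j i := by
      rw [← transpose_apply (Bᵀ * C) i j, transpose_mul, transpose_transpose]
    rw [Matrix.add_apply, e, Matrix.one_apply]
    rw [single_dotProduct, one_mul, Pi.single_apply] at h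
    linear_combination h

/-- An element with invertible corner is a product `L * emb * U`. -/
theorem ldu (g : G) (M : (Mat)ˣ) (hM : (g : GL Idx F).1.toBlocks₁₁ = (M : Mat)) :
    ∃ v ∈ (um : Subgroup G), ∃ u ∈ (ur : Subgroup G), g = v * emb M * u := by
  obtain ⟨r1, -, -⟩ := rel g
  set B := (g : GL Idx F).1.toBlocks₁₂ with hBdef
  set C := (g : GL Idx F).1.toBlocks₂₁ with hCdef
  set D := (g : GL Idx F).1.toBlocks₂₂ with hDdef
  set Mi : Mat := (↑M⁻¹ : Mat)
  have h1 : Mi * (M : Mat) = 1 := Units.inv_mul M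
  rw [hM] at r1
  have sC : Skew true (C * Mi) := by
    have := r1.congr Mi
    rwa [← Matrix.mul_assoc, ← transpose_mul, show (M : Mat) * Mi = 1 from Units.mul_inv M,
      transpose_one, Matrix.one_mul] at this
  set v := low _ sC
  set g₁ := v⁻¹ * g
  have hblk : (g₁ : GL Idx F).1 = Matrix.fromBlocks (M : Mat) B 0 (D - C * Mi * B) := by
    show Matrix.fromBlocks 1 0 (-(C * Mi)) 1 * (g : GL Idx F).1 = _
    conv_lhs => rw [← fromBlocks_toBlocks (g : GL Idx F).1, hM, ← hBdef, ← hCdef, ← hDdef,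
      fromBlocks_multiply]
    simp [Matrix.mul_assoc, h1, neg_add_eq_sub]
  obtain ⟨-, r2, r3⟩ := rel g₁
  rw [hblk] at r2 r3
  simp only [toBlocks_fromBlocks₁₁, toBlocks_fromBlocks₁₂, toBlocks_fromBlocks₂₁,
    toBlocks_fromBlocks₂₂, transpose_zero, Matrix.zero_mul, add_zero] at r2 r3
  have hD : D - C * Mi * B = Miᵀ := by
    calc D - C * Mi * B = Miᵀ * ((M : Mat)ᵀ * (D - C * Mi * B)) := by
          rw [← Matrix.mul_assoc, ← transpose_mul, show (M : Mat) * Mi = 1 from Units.mul_inv M,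
            transpose_one, Matrix.one_mul]
      _ = Miᵀ := by rw [r3, Matrix.mul_one]
  rw [hD, ← transpose_mul] at r2
  have sB : Skew true (Mi * B) := by
    have := r2.submatrix (id : Fin m → Fin m)
    have e : Mi * B = -((Mi * B)ᵀ) := by rw [Skew.transpose_eq r2 |>.symm, transpose_transpose]
    exact e ▸ r2.neg
  refine ⟨v, ⟨_, sC, rfl⟩, up _ sB, ⟨_, sB, rfl⟩, ?_⟩
  have : g₁ = emb M * up _ sB := ext_iff'.mpr (by
    rw [hblk, hD]
    simp [emb_coe, up_coe, fromBlocks_multiply, Mi])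
  rw [mul_assoc, ← this]
  simp [g₁]

end CfsgLib.ClassSquare.Plus
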