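import Cfsg.Agent.ClassSquare.Target
import Cfsg.Agent.ClassSquare.Tri
import Cfsg.Agent.ClassSquare.PSL
import Mathlib.LinearAlgebra.SymplecticGroup
import Cfsg.Prelude.Def_Classical

/-!
# Projective symplectic groups as squares of conjugacy classes
-/

set_option autoImplicit false
set_option linter.unusedSectionVars false

namespace CfsgLib.ClassSquare

open Matrix CfsgLib.OreSL
open scoped MatrixGroups

variable {F : Type*} [Field F] {m : ℕ}

local notation "Sp" => Matrix.symplecticGroup (Fin m) F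
local notation "Mat" => Matrix (Fin m) (Fin m) F

theorem skew_false_iff {M : Mat} : Skew false M ↔ Mᵀ = M := by
  refine ⟨fun h => ext fun i j => by simpa using h.1 i j, fun h => ⟨fun i j => ?_, by simp⟩⟩
  simpa using congrFun (congrFun h i) j

theorem sp_of_blocks {A B C D : Mat} (h1 : (Aᵀ * C)ᵀ = Aᵀ * C) (h2 : (Bᵀ * D)ᵀ = Bᵀ * D)
    (h3 : Aᵀ * D - Cᵀ * B = 1) : Matrix.fromBlocks A B C D ∈ Sp := by
  have h4 : Dᵀ * A - Bᵀ * C = 1 := by
    have := congrArg Matrix.transpose h3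
    simpa [transpose_sub, transpose_mul] using this
  rw [SymplecticGroup.mem_iff', Matrix.J, fromBlocks_transpose, fromBlocks_multiply,
    fromBlocks_multiply]
  simp only [transpose_mul, transpose_transpose] at h1 h2
  congr 1
  · simp only [Matrix.mul_zero, Matrix.mul_neg, Matrix.mul_one, zero_add, add_zero, Matrix.neg_mul]
    rw [h1]; abel
  · simp only [Matrix.mul_zero, Matrix.mul_neg, Matrix.mul_one, zero_add, add_zero, Matrix.neg_mul]
    rw [← h3]; abel
  · simp only [Matrix.mul_zero, Matrix.mul_neg, Matrix.mul_one, zero_add, add_zero, Matrix.neg_mul]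
    rw [← h4]; abel
  · simp only [Matrix.mul_zero, Matrix.mul_neg, Matrix.mul_one, zero_add, add_zero, Matrix.neg_mul]
    rw [h2]; abel

/-- `L S`. -/
def spLow (S : Mat) (h : Sᵀ = S) : Sp :=
  ⟨Matrix.fromBlocks 1 0 S 1, sp_of_blocks (by simp [h]) (by simp) (by simp)⟩

/-- `U S`. -/
def spUp (S : Mat) (h : Sᵀ = S) : Sp :=
  ⟨Matrix.fromBlocks 1 S 0 1, sp_of_blocks (by simp) (by simp [h]) (by simp)⟩

/-- The Levi embedding. -/
def spEmb : (Mat)ˣ →* Sp where
  toFun M := ⟨Matrix.fromBlocks (M : Mat) 0 0 ((↑M⁻¹ : Mat))ᵀ,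
    sp_of_blocks (by simp) (by simp) (by simp [← transpose_mul])⟩
  map_one' := Subtype.ext (by simp)
  map_mul' M N := Subtype.ext (by
    simp [fromBlocks_multiply, transpose_mul])

/-- Special linear matrices as units. -/
def slU : SpecialLinearGroup (Fin m) F →* (Mat)ˣ := Matrix.SpecialLinearGroup.toGL

theorem slU_coe (M : SpecialLinearGroup (Fin m) F) : ((slU M : (Mat)ˣ) : Mat) = (M : Mat) := rfl

theorem slU_inv_coe (M : SpecialLinearGroup (Fin m) F) :
    ((↑(slU M)⁻¹ : Mat)) = ((M⁻¹ : SpecialLinearGroup (Fin m) F) : Mat) := by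
  rw [← map_inv]; rfl

theorem spLow_coe {S : Mat} (h : Sᵀ = S) :
    ((spLow S h : Sp) : Matrix (Fin m ⊕ Fin m) (Fin m ⊕ Fin m) F) = Matrix.fromBlocks 1 0 S 1 := rfl

theorem spUp_coe {S : Mat} (h : Sᵀ = S) :
    ((spUp S h : Sp) : Matrix (Fin m ⊕ Fin m) (Fin m ⊕ Fin m) F) = Matrix.fromBlocks 1 S 0 1 := rfl

theorem spEmb_coe (M : (Mat)ˣ) :
    ((spEmb M : Sp) : Matrix (Fin m ⊕ Fin m) (Fin m ⊕ Fin m) F) =
      Matrix.fromBlocks (M : Mat) 0 0 ((↑M⁻¹ : Mat))ᵀ := rfl

/-- The lower unipotent radical. -/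
def spUm : Subgroup Sp where
  carrier := {g | ∃ S h, g = spLow S h}
  one_mem' := ⟨0, transpose_zero, Subtype.ext fromBlocks_one.symm⟩
  mul_mem' := by
    rintro _ _ ⟨S, h, rfl⟩ ⟨T, k, rfl⟩
    exact ⟨S + T, by rw [transpose_add, h, k], Subtype.ext (by
      simp [spLow_coe, fromBlocks_multiply])⟩
  inv_mem' := by
    rintro _ ⟨S, h, rfl⟩
    exact ⟨-S, by rw [transpose_neg, h], inv_eq_of_mul_eq_one_right (Subtype.ext (by
      simp [spLow_coe, fromBlocks_multiply]))⟩

/-- The upper unipotent radical. -/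
def spUr : Subgroup Sp where
  carrier := {g | ∃ S h, g = spUp S h}
  one_mem' := ⟨0, transpose_zero, Subtype.ext fromBlocks_one.symm⟩
  mul_mem' := by
    rintro _ _ ⟨S, h, rfl⟩ ⟨T, k, rfl⟩
    exact ⟨T + S, by rw [transpose_add, h, k], Subtype.ext (by
      simp [spUp_coe, fromBlocks_multiply, add_comm])⟩
  inv_mem' := by
    rintro _ ⟨S, h, rfl⟩
    exact ⟨-S, by rw [transpose_neg, h], inv_eq_of_mul_eq_one_right (Subtype.ext (by
      simp [spUp_coe, fromBlocks_multiply]))⟩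

theorem spEmb_conj_low (M : (Mat)ˣ) {S : Mat} (h : Sᵀ = S) :
    ∃ h', spEmb M * spLow S h * (spEmb M)⁻¹ = spLow ((↑M⁻¹ : Mat)ᵀ * S * (↑M⁻¹ : Mat)) h' := by
  refine ⟨by simp [transpose_mul, Matrix.mul_assoc, h], ?_⟩
  rw [mul_inv_eq_iff_eq_mul]
  exact Subtype.ext (by simp [spLow_coe, spEmb_coe, fromBlocks_multiply, Matrix.mul_assoc])

theorem spEmb_conj_up (M : (Mat)ˣ) {S : Mat} (h : Sᵀ = S) :
    ∃ h', spEmb M * spUp S h * (spEmb M)⁻¹ = spUp ((M : Mat) * S * (M : Mat)ᵀ) h' := by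
  refine ⟨by simp [transpose_mul, Matrix.mul_assoc, h], ?_⟩
  rw [mul_inv_eq_iff_eq_mul]
  exact Subtype.ext (by simp [spUp_coe, spEmb_coe, fromBlocks_multiply, Matrix.mul_assoc,
    ← transpose_mul])

/-- The blocks of an element. -/
theorem sp_rel (g : Sp) :
    ((g.1.toBlocks₁₁)ᵀ * g.1.toBlocks₂₁)ᵀ = (g.1.toBlocks₁₁)ᵀ * g.1.toBlocks₂₁ ∧
      (g.1.toBlocks₁₁)ᵀ * g.1.toBlocks₂₂ - (g.1.toBlocks₂₁)ᵀ * g.1.toBlocks₁₂ = 1 ∧
        (g.1.toBlocks₁₁ * (g.1.toBlocks₁₂)ᵀ)ᵀ = g.1.toBlocks₁₁ * (g.1.toBlocks₁₂)ᵀ := by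
  have h := SymplecticGroup.mem_iff'.mp g.2
  have h' := SymplecticGroup.mem_iff.mp g.2
  rw [← fromBlocks_toBlocks g.1, Matrix.J, fromBlocks_transpose, fromBlocks_multiply,
    fromBlocks_multiply, fromBlocks_inj] at h h'
  obtain ⟨a, b, -, -⟩ := h
  obtain ⟨a', -, -, -⟩ := h'
  simp only [Matrix.mul_zero, Matrix.mul_neg, Matrix.mul_one, zero_add, add_zero, Matrix.neg_mul,
    ← sub_eq_add_neg] at a b a'
  rw [sub_eq_zero] at a
  rw [sub_eq_zero] at a'
  refine ⟨by rw [transpose_mul, transpose_transpose]; exact a, ?_, by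
    rw [transpose_mul, transpose_transpose]; exact a'⟩
  have := congrArg Neg.neg b
  rw [neg_neg, neg_sub] at this
  exact this

/-- An element with unimodular corner is a product `L * emb * U`. -/
theorem sp_ldu (g : Sp) (M : SpecialLinearGroup (Fin m) F) (hM : g.1.toBlocks₁₁ = (M : Mat)) :
    ∃ v ∈ spUm, ∃ u ∈ spUr, g = v * spEmb (slU M) * u := by
  obtain ⟨r1, r2, r3⟩ := sp_rel g
  set A := g.1.toBlocks₁₁
  set B := g.1.toBlocks₁₂
  set C := g.1.toBlocks₂₁
  set D := g.1.toBlocks₂₂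
  set Ai : Mat := (↑(slU M)⁻¹ : Mat)
  have hA : (slU M : Mat) = A := hM.symm
  have h1 : Ai * A = 1 := by rw [← hA]; exact Units.inv_mul _
  have h2 : A * Ai = 1 := by rw [← hA]; exact Units.mul_inv _
  have h1' : Aᵀ * Aiᵀ = 1 := by rw [← transpose_mul, h1, transpose_one]
  have h2' : Aiᵀ * Aᵀ = 1 := by rw [← transpose_mul, h2, transpose_one]
  have sC : (C * Ai)ᵀ = C * Ai := by
    rw [transpose_mul, transpose_transpose] at r1
    calc (C * Ai)ᵀ = Aiᵀ * Cᵀ * (A * Ai) := by rw [h2, transpose_mul, Matrix.mul_one]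
      _ = Aiᵀ * (Cᵀ * A) * Ai := by simp only [Matrix.mul_assoc]
      _ = Aiᵀ * Aᵀ * C * Ai := by rw [r1]; simp only [Matrix.mul_assoc]
      _ = C * Ai := by rw [h2', Matrix.one_mul]
  have sB : (Ai * B)ᵀ = Ai * B := by
    rw [transpose_mul, transpose_transpose] at r3
    calc (Ai * B)ᵀ = Ai * A * (Bᵀ * Aiᵀ) := by rw [h1, transpose_mul, Matrix.one_mul]
      _ = Ai * (A * Bᵀ) * Aiᵀ := by simp only [Matrix.mul_assoc]
      _ = Ai * B * (Aᵀ * Aiᵀ) := by rw [← r3]; simp only [Matrix.mul_assoc]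
      _ = Ai * B := by rw [h1', Matrix.mul_one]
  refine ⟨spLow _ sC, ⟨_, sC, rfl⟩, spUp _ sB, ⟨_, sB, rfl⟩, Subtype.ext ?_⟩
  show g.1 = Matrix.fromBlocks 1 0 (C * Ai) 1 * Matrix.fromBlocks (slU M : Mat) 0 0 Aiᵀ *
    Matrix.fromBlocks 1 (Ai * B) 0 1
  rw [hA, fromBlocks_multiply, fromBlocks_multiply]
  simp only [Matrix.one_mul, Matrix.mul_one, Matrix.mul_zero, Matrix.zero_mul, add_zero, zero_add]
  conv_lhs => rw [← fromBlocks_toBlocks g.1]
  congr 1
  · rw [← Matrix.mul_assoc, h2, Matrix.one_mul]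
  · rw [Matrix.mul_assoc, h1, Matrix.mul_one]
  · have hD : D = Aiᵀ + Aiᵀ * Cᵀ * B := by
      calc D = Aiᵀ * (Aᵀ * D) := by rw [← Matrix.mul_assoc, h2', Matrix.one_mul]
        _ = Aiᵀ * (1 + Cᵀ * B) := by rw [← r2, sub_add_cancel]
        _ = _ := by rw [Matrix.mul_add, Matrix.mul_one, Matrix.mul_assoc]
    rw [transpose_mul] at sC
    rw [show g.1.toBlocks₂₂ = D from rfl, hD, sC, Matrix.mul_assoc C Ai A, h1, Matrix.mul_one,
      Matrix.mul_assoc C Ai B, add_comm]

/-- Non-central elements have a conjugate moving the standard Lagrangian. -/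
theorem sp_exists_moved {g : Sp} (hg : g ∉ Subgroup.center Sp) :
    ∃ y : Sp, (y * g * y⁻¹).1.toBlocks₂₁ ≠ 0 := by
  by_contra hc
  push Not at hc
  have hC : g.1.toBlocks₂₁ = 0 := by simpa using hc 1
  have hB : g.1.toBlocks₁₂ = 0 := by
    have h := hc (SymplecticGroup.symJ (Fin m) F)
    rw [Submonoid.coe_mul, Submonoid.coe_mul, SymplecticGroup.coe_inv, SymplecticGroup.coe_J,
      Matrix.J, fromBlocks_transpose, ← fromBlocks_toBlocks g.1, fromBlocks_neg,
      fromBlocks_multiply, fromBlocks_multiply, fromBlocks_multiply, fromBlocks_multiply,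
      toBlocks_fromBlocks₂₁] at h
    simpa using h
  obtain ⟨-, r2, -⟩ := sp_rel g
  rw [hC, transpose_zero, Matrix.zero_mul, sub_zero] at r2
  set A := g.1.toBlocks₁₁ with hA
  set D := g.1.toBlocks₂₂
  have hl : ∀ (S : Mat), Sᵀ = S → S * A = D * S := by
    intro S hS
    have h := hc (spLow S hS)
    have e : ((spLow S hS)⁻¹ : Sp) = spLow (-S) (by rw [transpose_neg, hS]) :=
      inv_eq_of_mul_eq_one_right (Subtype.ext (by simp [spLow_coe, fromBlocks_multiply]))
    rw [e, Submonoid.coe_mul, Submonoid.coe_mul, spLow_coe, spLow_coe, ← fromBlocks_toBlocks g.1,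
      hC, hB, fromBlocks_multiply, fromBlocks_multiply, toBlocks_fromBlocks₂₁] at h
    simpa [← sub_eq_add_neg, sub_eq_zero] using h
  have hD : D = A := by simpa using (hl 1 transpose_one).symm
  rw [hD] at r2
  have hdiag : ∀ i j, i ≠ j → A i j = 0 := by
    intro i j hij
    have h := hl (Matrix.single j j 1) (by simp)
    rw [hD] at h
    simpa [Matrix.single_mul_apply_of_ne, Matrix.mul_single_apply_same, hij] using
      (congrFun (congrFun h i) j).symm
  have hconst : ∀ i j, A i i = A j j := by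
    intro i j
    rcases eq_or_ne i j with rfl | hij
    · rfl
    have h := hl (Matrix.single i j 1 + Matrix.single j i 1)
      (by rw [transpose_add, transpose_single, transpose_single, add_comm])
    rw [hD] at h
    have e := congrFun (congrFun h i) j
    simp [Matrix.add_mul, Matrix.mul_add, Matrix.single_mul_apply_same, Matrix.mul_single_apply_same,
      Matrix.single_mul_apply_of_ne, Matrix.mul_single_apply_of_ne, hij, hij.symm] at e
    exact e.symm
  refine hg (Subgroup.mem_center_iff.mpr fun h => Subtype.ext ?_)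
  show h.1 * g.1 = g.1 * h.1
  rcases eq_or_ne m 0 with rfl | hm
  · exact Subsingleton.elim _ _
  let i₀ : Fin m := ⟨0, Nat.pos_of_ne_zero hm⟩
  have hsc : g.1 = A i₀ i₀ • 1 := by
    rw [← fromBlocks_toBlocks g.1, hC, hB, show g.1.toBlocks₂₂ = A from hD, ← hA,
      show (1 : Matrix (Fin m ⊕ Fin m) (Fin m ⊕ Fin m) F) = Matrix.fromBlocks 1 0 0 1 from
        fromBlocks_one.symm, fromBlocks_smul]
    have : A = A i₀ i₀ • 1 := by
      ext i j
      rcases eq_or_ne i j with rfl | hij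
      · simp [hconst i i₀]
      · simp [hdiag i j hij, hij]
    rw [← this]; simp
  rw [hsc]
  simp

/-- A conjugate with unimodular nonscalar corner. -/
theorem sp_exists_corner [DecidableEq F] (hm : 2 ≤ m) (hx : ∃ a : F, a * a ≠ 1 ∧ a ≠ 0) {g : Sp}
    (hC : g.1.toBlocks₂₁ ≠ 0) :
    ∃ (y : Sp) (M : SpecialLinearGroup (Fin m) F), (y * g * y⁻¹).1.toBlocks₁₁ = (M : Mat) ∧
      ∀ c : F, (M : Mat) ≠ c • 1 := by
  obtain ⟨r1, -, -⟩ := sp_rel g
  set A := g.1.toBlocks₁₁
  set C := g.1.toBlocks₂₁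
  have hinj : ∀ v, A *ᵥ v = 0 → C *ᵥ v = 0 → v = 0 := by
    intro v hA hC'
    have h := SymplecticGroup.mem_iff'.mp g.2
    have hw : g.1 *ᵥ Sum.elim v 0 = 0 := by
      rw [← fromBlocks_toBlocks g.1, fromBlocks_mulVec]
      simp [A, C] at hA hC' ⊢
      simp [hA, hC']
    have hz : Sum.elim v (0 : Fin m → F) = 0 := by
      refine Matrix.mulVec_injective_iff_isUnit.mpr ?_ (hw.trans (mulVec_zero _).symm)
      exact (Matrix.isUnit_iff_isUnit_det _).mpr (SymplecticGroup.symplectic_det g.2)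
    exact funext fun i => congrFun hz (Sum.inl i)
  obtain ⟨δ⟩ := exists_diag C
  have hsym : Skew false (δ.Qᵀ * (Aᵀ * C) * δ.Q) := (skew_false_iff.mpr r1).congr _
  rw [← δ.coord_rel] at hsym
  have hs : ∀ i j, δ.d i * δ.coord A i j = δ.d j * δ.coord A j i := fun i j => by
    have := hsym.1 i j
    simp only [mul_diagonal, transpose_apply, Bool.false_eq_true, if_false, one_mul] at this
    linear_combination this
  have h0 : ∀ i j, δ.d i ≠ 0 → δ.d j = 0 → δ.coord A i j = 0 := fun i j hi hj => by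
    have := hs i j
    rw [hj, zero_mul] at this
    exact (mul_eq_zero.mp this).resolve_left hi
  have hκ := δ.kappa_ne_zero A hinj h0
  obtain ⟨j₀, hj₀⟩ := δ.exists_supp hC
  let r₀ : δ.Supp := ⟨j₀, hj₀⟩
  let D₀ : δ.Supp → F := Function.update 1 r₀ (δ.kappa A)⁻¹
  have hD₀ : (diagonal D₀).det = (δ.kappa A)⁻¹ := by
    rw [det_diagonal, Finset.prod_update_of_mem (Finset.mem_univ _)]
    simp
  obtain ⟨a, ha, ha0⟩ := hx
  obtain ⟨N, Z, hNsym, hNdet, hns⟩ := δ.exists_nonscalar A hC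
    (fun N => ∀ i j, N i j = N j i) (N := diagonal D₀) (fun i j => by
      rcases eq_or_ne i j with rfl | h
      · rfl
      · rw [diagonal_apply_ne _ h, diagonal_apply_ne _ h.symm])
    (by rw [hD₀]; exact inv_ne_zero hκ) (fun hR => by
      obtain ⟨j₁, hj⟩ : ∃ j, j ≠ j₀ := Fintype.exists_ne_of_one_lt_card
        (by rw [Fintype.card_fin]; omega) j₀
      let r₁ : δ.Supp := ⟨j₁, hR j₁⟩
      have h10 : r₁ ≠ r₀ := fun e => hj (congrArg Subtype.val e)
      let s : δ.Supp → F := Function.update (Function.update 1 r₀ a) r₁ a⁻¹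
      refine ⟨diagonal (s * D₀), fun i j => ?_, ?_, fun μ e => ?_⟩
      · rcases eq_or_ne i j with rfl | h
        · rfl
        · rw [diagonal_apply_ne _ h, diagonal_apply_ne _ h.symm]
      · have hs1 : ∏ i, s i = 1 := by
          rw [Finset.prod_update_of_mem (Finset.mem_univ _),
            Finset.prod_update_of_mem (by simp [h10.symm])]
          simp [ha0]
        rw [det_diagonal, det_diagonal]
        simp only [Pi.mul_apply, Finset.prod_mul_distrib, hs1, one_mul]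
      · have e1 := congrFun (congrFun e r₀) r₀
        have e2 := congrFun (congrFun e r₁) r₁
        simp only [diagonal_apply_eq, Pi.mul_apply, Matrix.smul_apply, smul_eq_mul] at e1 e2
        have s0 : s r₀ = a := by simp [s, h10.symm]
        have s1 : s r₁ = a⁻¹ := by simp [s]
        have d0 : D₀ r₀ ≠ 0 := by simp [D₀, hκ]
        have d1 : D₀ r₁ ≠ 0 := by simp [D₀, h10]
        rw [s0] at e1
        rw [s1] at e2
        apply ha
        rw [← mul_right_cancel₀ d0 e1] at e2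
        have e3 := mul_right_cancel₀ d1 e2
        nth_rewrite 1 [← e3]
        exact inv_mul_cancel₀ ha0)
  obtain ⟨S, hS, hAS⟩ := δ.exists_target (b := false) A N Z
    ⟨fun i j => by
      simp only [Bool.false_eq_true, if_false, one_mul]
      rw [hNsym j i, hs j.1 i.1], by simp⟩
  have hdet : (δ.back (δ.target A N Z)).det = 1 := by
    rw [δ.det_back_target A h0, hNdet, hD₀, mul_inv_cancel₀ hκ]
  refine ⟨spUp S (skew_false_iff.mp hS), ⟨δ.back (δ.target A N Z), hdet⟩, ?_, hns⟩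
  have e : ((spUp S (skew_false_iff.mp hS))⁻¹ : Sp) =
      spUp (-S) (by rw [transpose_neg, skew_false_iff.mp hS]) :=
    inv_eq_of_mul_eq_one_right (Subtype.ext (by simp [spUp_coe, fromBlocks_multiply]))
  rw [e, Submonoid.coe_mul, Submonoid.coe_mul, spUp_coe, spUp_coe, ← fromBlocks_toBlocks g.1,
    fromBlocks_multiply, fromBlocks_multiply, toBlocks_fromBlocks₁₁]
  simpa [A, C] using hAS

end CfsgLib.ClassSquare
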