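import Cfsg.Agent.ClassSquare.Symp
import Cfsg.Agent.ClassSquare.Scaled

/-!
# Every projective symplectic group over a field with at least nine elements is a class square
-/

set_option autoImplicit false
set_option linter.unusedSectionVars false

namespace CfsgLib.ClassSquare

open Matrix CfsgLib.OreSL
open scoped MatrixGroups

variable {F : Type*} [Field F]

theorem spEmb_scalar_comm {m : ℕ} (c : Fˣ) (M : (Matrix (Fin m) (Fin m) F)ˣ) :
    spEmb (Units.map (algebraMap F (Matrix (Fin m) (Fin m) F)).toMonoidHom c) * spEmb M =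
      spEmb M * spEmb (Units.map (algebraMap F (Matrix (Fin m) (Fin m) F)).toMonoidHom c) := by
  rw [← map_mul, ← map_mul]
  exact congrArg spEmb (Units.ext (Algebra.commutes (c : F) (M : Matrix (Fin m) (Fin m) F)))

theorem psp_class_square [Fintype F] (hq : 9 ≤ Fintype.card F) {m : ℕ} (hm : 2 ≤ m) :
    ∃ c : Cfsg.PSp m F, ∀ g : Cfsg.PSp m F, ∃ x y, g = (x * c * x⁻¹) * (y * c * y⁻¹) := by
  classical
  obtain ⟨k, rfl⟩ := Nat.exists_eq_add_of_le hm
  obtain ⟨γ, hγ⟩ := exists_gamma hq
  set Sp := Matrix.symplecticGroup (Fin (2 + k)) F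
  set z : Sp := spEmb (Units.map (algebraMap F (Matrix (Fin (2 + k)) (Fin (2 + k)) F)).toMonoidHom (γ ^ 2))
    with hz
  set s : Sp := spEmb (slU (tSL γ k)) with hs
  have hc : z * s = spEmb (scaledU γ k) := by rw [hz, hs, ← map_mul]; rfl
  obtain ⟨P, hP⟩ := exists_conj_transpose (k := k) γ
  let S : Frame Sp :=
    { Um := spUm, Up := spUr, L := (spEmb.comp slU).range, z := z, s := s
      s_mem := ⟨_, rfl⟩
      z_comm := by rintro _ ⟨M, rfl⟩; exact spEmb_scalar_comm _ _
      norm_m := by
        rintro _ ⟨M, rfl⟩ _ ⟨T, hT, rfl⟩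
        obtain ⟨h', e⟩ := spEmb_conj_low (slU M) hT
        exact ⟨_, h', e⟩
      norm_p := by
        rintro _ ⟨M, rfl⟩ _ ⟨T, hT, rfl⟩
        obtain ⟨h', e⟩ := spEmb_conj_up (slU M) hT
        exact ⟨_, h', e⟩
      z_norm_m := by
        rintro _ ⟨T, hT, rfl⟩
        obtain ⟨h', e⟩ := spEmb_conj_low _ hT
        exact ⟨_, h', e⟩
      z_norm_p := by
        rintro _ ⟨T, hT, rfl⟩
        obtain ⟨h', e⟩ := spEmb_conj_up _ hT
        exact ⟨_, h', e⟩
      fix_m := by
        rintro _ ⟨T, hT, rfl⟩ h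
        rw [hc] at h
        have e := congrArg (fun g : Sp => g.1.toBlocks₂₁) h
        simp only [Submonoid.coe_mul, spEmb_coe, spLow_coe, fromBlocks_multiply,
          toBlocks_fromBlocks₂₁, Matrix.zero_mul, Matrix.mul_zero, zero_add, add_zero,
          Matrix.one_mul, Matrix.mul_one] at e
        have e' : (scaled γ k)ᵀ * T * scaled γ k = T := by
          rw [← scaledU_coe, Matrix.mul_assoc, ← e, ← Matrix.mul_assoc, ← transpose_mul, Units.inv_mul,
            transpose_one, Matrix.one_mul]
        have hT0 : T = 0 := eq_zero_of_tri (fun i j => scaled_lt γ) (fun i j => scaled_lt γ) e'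
          fun i j h1 => absurd h1 (scaled_mul_ne_one hγ i j)
        subst hT0
        exact Subtype.ext fromBlocks_one
      fix_p := by
        rintro _ ⟨T, hT, rfl⟩ h
        rw [hc] at h
        have e := congrArg (fun g : Sp => g.1.toBlocks₁₂) h
        simp only [Submonoid.coe_mul, spEmb_coe, spUp_coe, fromBlocks_multiply,
          toBlocks_fromBlocks₁₂, Matrix.zero_mul, Matrix.mul_zero, zero_add, add_zero,
          Matrix.one_mul, Matrix.mul_one] at e
        have e' : scaled γ k * T * (scaled γ k)ᵀ = T := by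
          rw [← scaledU_coe, e, Matrix.mul_assoc, ← transpose_mul, Units.mul_inv,
            transpose_one, Matrix.mul_one]
        have hT0 : T = 0 := eq_zero_of_tri' (fun i j => scaled_lt γ) (fun i j => scaled_lt γ) e'
          fun i j h1 => absurd h1 (scaled_mul_ne_one hγ i j)
        subst hT0
        exact Subtype.ext fromBlocks_one
      real := by
        refine ⟨(SymplecticGroup.symJ (Fin (2 + k)) F)⁻¹ * spEmb (slU P), ?_⟩
        rw [hc]
        have hconj : spEmb (slU P) * spEmb (scaledU γ k) * (spEmb (slU P))⁻¹ =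
            SymplecticGroup.symJ (Fin (2 + k)) F * (spEmb (scaledU γ k))⁻¹ *
              (SymplecticGroup.symJ (Fin (2 + k)) F)⁻¹ := by
          rw [← map_inv spEmb (scaledU γ k), ← map_inv, ← map_mul, ← map_mul,
            eq_mul_inv_iff_mul_eq]
          have hM : ((slU P * scaledU γ k * (slU P)⁻¹ : (Matrix (Fin (2 + k)) (Fin (2 + k)) F)ˣ) :
              Matrix (Fin (2 + k)) (Fin (2 + k)) F) = (scaled γ k)ᵀ := by
            rw [Units.val_mul, Units.val_mul, scaledU_coe, slU_coe, slU_inv_coe, scaled,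
              transpose_smul, hP, Matrix.mul_smul, Matrix.smul_mul]
            rfl
          have hMi : (((slU P * scaledU γ k * (slU P)⁻¹)⁻¹ :
                (Matrix (Fin (2 + k)) (Fin (2 + k)) F)ˣ) : Matrix (Fin (2 + k)) (Fin (2 + k)) F) =
              ((↑(scaledU γ k)⁻¹ : Matrix (Fin (2 + k)) (Fin (2 + k)) F))ᵀ := by
            refine left_inv_eq_right_inv (Units.inv_mul _) ?_
            rw [hM, ← scaledU_coe, ← transpose_mul, Units.inv_mul, transpose_one]
          apply Subtype.ext
          rw [Submonoid.coe_mul, Submonoid.coe_mul, spEmb_coe, spEmb_coe, inv_inv,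
            SymplecticGroup.coe_J, Matrix.J, fromBlocks_multiply, fromBlocks_multiply, hMi, hM,
            ← scaledU_coe]
          simp
        calc (spEmb (scaledU γ k))⁻¹ = (SymplecticGroup.symJ (Fin (2 + k)) F)⁻¹ *
              (SymplecticGroup.symJ (Fin (2 + k)) F * (spEmb (scaledU γ k))⁻¹ *
                (SymplecticGroup.symJ (Fin (2 + k)) F)⁻¹) * SymplecticGroup.symJ (Fin (2 + k)) F := by
              group
          _ = _ := by rw [← hconj]; group }
  refine S.covers (QuotientGroup.mk' (Subgroup.center Sp)) (QuotientGroup.mk'_surjective _)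
    fun g hg => ?_
  obtain ⟨y, hy⟩ := sp_exists_moved (g := g) fun h => hg ((QuotientGroup.eq_one_iff g).mpr h)
  obtain ⟨y', M, hM, hns⟩ := sp_exists_corner (by omega) (exists_sq_ne hq) hy
  obtain ⟨v, hv, u, hu, e⟩ := sp_ldu _ M hM
  obtain ⟨A, B, eAB, hA, hB⟩ := divides_tSL (k := k) (four_le_mk (by omega)) (gamma_ne_inv hγ) M hns
  obtain ⟨P', rfl⟩ := conj_of_sim hA
  obtain ⟨R, rfl⟩ := conj_of_sim hB
  refine ⟨y' * y, v, hv, spEmb (slU P'), ⟨P', rfl⟩, spEmb (slU R), ⟨R, rfl⟩, u, hu, ?_⟩
  calc y' * y * g * (y' * y)⁻¹ = y' * (y * g * y⁻¹) * y'⁻¹ := by group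
    _ = v * spEmb (slU M) * u := e
    _ = _ := by
      rw [eAB]
      simp only [S, hs, map_mul, map_inv, _root_.mul_inv_rev, inv_inv, mul_assoc]

end CfsgLib.ClassSquare
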